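import Mathlib
import Groth.Prelude.Def_Desc

/-!
# Descent data for schemes as equivalence relations on points

For `D : Desc.SchDD p` two `T`-points of the total scheme are related if the gluing bijection
carries one to the other. Effectivity amounts to a cartesian square whose map to the descended
scheme identifies related points.
-/

set_option autoImplicit false
set_option linter.style.haveILetI false
set_option backward.isDefEq.respectTransparency false

universe u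

open CategoryTheory CategoryTheory.Limits AlgebraicGeometry Topology TopologicalSpace

namespace Groth.Agent.SGA1Desc

variable {X S : Scheme.{u}} {p : X ⟶ S} (D : Desc.SchDD p)

/-- Two points of the total scheme of a descent datum which correspond under the gluing. -/
def Rel {T : Scheme.{u}} (a b : T ⟶ D.obj.left) : Prop :=
  ∃ h : (a ≫ D.obj.hom) ≫ p = (b ≫ D.obj.hom) ≫ p,
    (D.φ (a ≫ D.obj.hom) (b ≫ D.obj.hom) h ⟨a, rfl⟩).1 = b

variable {D}

theorem rel_of_phi {T : Scheme.{u}} (x₀ x₁ : T ⟶ X) (h : x₀ ≫ p = x₁ ≫ p)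
    (v : Desc.Lifts D.obj x₀) : Rel D v.1 (D.φ x₀ x₁ h v).1 := by
  obtain ⟨v, rfl⟩ := v
  generalize hw : D.φ _ x₁ h ⟨v, rfl⟩ = w
  obtain ⟨w, rfl⟩ := w
  exact ⟨h, congrArg Subtype.val hw⟩

theorem phi_eq_of_rel {T : Scheme.{u}} {a b : T ⟶ D.obj.left} (hab : Rel D a b) (x₀ x₁ : T ⟶ X)
    (h : x₀ ≫ p = x₁ ≫ p) (ha : a ≫ D.obj.hom = x₀) (hb : b ≫ D.obj.hom = x₁) :
    (D.φ x₀ x₁ h ⟨a, ha⟩).1 = b := by
  subst ha hb
  exact hab.2

theorem rel_refl {T : Scheme.{u}} (a : T ⟶ D.obj.left) : Rel D a a :=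
  ⟨rfl, congrArg Subtype.val (D.φ_self (a ≫ D.obj.hom) ⟨a, rfl⟩)⟩

theorem rel_symm {T : Scheme.{u}} {a b : T ⟶ D.obj.left} (hab : Rel D a b) : Rel D b a := by
  obtain ⟨h, hb⟩ := hab
  refine ⟨h.symm, ?_⟩
  have h1 := D.φ_comp _ _ _ h h.symm ⟨a, rfl⟩
  rw [D.φ_self, show D.φ _ _ h ⟨a, rfl⟩ = ⟨b, rfl⟩ from Subtype.ext hb] at h1
  exact congrArg Subtype.val h1

theorem rel_trans {T : Scheme.{u}} {a b c : T ⟶ D.obj.left} (hab : Rel D a b) (hbc : Rel D b c) :
    Rel D a c := by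
  obtain ⟨h, hb⟩ := hab
  obtain ⟨h', hc⟩ := hbc
  refine ⟨h.trans h', ?_⟩
  rw [← D.φ_comp _ _ _ h h' ⟨a, rfl⟩, show D.φ _ _ h ⟨a, rfl⟩ = ⟨b, rfl⟩ from Subtype.ext hb]
  exact hc

theorem rel_comp {T T' : Scheme.{u}} (g : T' ⟶ T) {a b : T ⟶ D.obj.left} (hab : Rel D a b) :
    Rel D (g ≫ a) (g ≫ b) := by
  obtain ⟨h, hb⟩ := hab
  have h' : (g ≫ a ≫ D.obj.hom) ≫ p = (g ≫ b ≫ D.obj.hom) ≫ p := by
    simp only [Category.assoc] at h ⊢
    rw [h]
  have h2 := D.φ_natural g (a ≫ D.obj.hom) (b ≫ D.obj.hom) h h' ⟨a, rfl⟩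
    ⟨g ≫ a, Category.assoc _ _ _⟩ rfl
  rw [hb] at h2
  exact ⟨by simpa [Category.assoc] using h', by
    refine (phi_eq_of_rel (a := g ≫ a) (b := g ≫ b) ?_ _ _ _ rfl rfl)
    have := rel_of_phi _ _ h' ⟨g ≫ a, Category.assoc _ _ _⟩
    rwa [h2] at this⟩

theorem rel_unique {T : Scheme.{u}} {a b b' : T ⟶ D.obj.left} (hab : Rel D a b) (hab' : Rel D a b')
    (h : b ≫ D.obj.hom = b' ≫ D.obj.hom) : b = b' := by
  rw [← phi_eq_of_rel hab' (a ≫ D.obj.hom) (b ≫ D.obj.hom) hab.1 rfl h.symm]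
  exact hab.2.symm

theorem exists_rel {T : Scheme.{u}} (a : T ⟶ D.obj.left) (x : T ⟶ X)
    (h : (a ≫ D.obj.hom) ≫ p = x ≫ p) : ∃ b, Rel D a b ∧ b ≫ D.obj.hom = x :=
  ⟨_, rel_of_phi _ x h ⟨a, rfl⟩, (D.φ _ x h ⟨a, rfl⟩).2⟩

variable (D)

/-- An open of the total scheme is stable if it contains every point related to one of its
points. -/
def Stable (W : D.obj.left.Opens) : Prop :=
  ∀ ⦃T : Scheme.{u}⦄ (a b : T ⟶ D.obj.left), Rel D a b → a ⁻¹ᵁ W ≤ b ⁻¹ᵁ W

variable {D}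

theorem Stable.inf {W W' : D.obj.left.Opens} (hW : Stable D W) (hW' : Stable D W') :
    Stable D (W ⊓ W') := fun _ _ _ h _ hx => ⟨hW _ _ h hx.1, hW' _ _ h hx.2⟩

theorem stable_top : Stable D ⊤ := fun _ _ _ _ _ _ => trivial

/-- If the projection is injective on points, every open is stable. -/
theorem stable_of_universallyInjective [UniversallyInjective p] (W : D.obj.left.Opens) :
    Stable D W := by
  intro T a b hab t ht
  let r := pullback.fst (D.obj.hom ≫ p) p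
  obtain ⟨b₀, hb₀, hb₀X⟩ := exists_rel (D := D) r (pullback.snd (D.obj.hom ≫ p) p)
    (by rw [Category.assoc]; exact pullback.condition)
  let e : D.obj.left ⟶ pullback (D.obj.hom ≫ p) p := pullback.lift (𝟙 _) D.obj.hom (by simp)
  have her : e ≫ r = 𝟙 _ := pullback.lift_fst _ _ _
  have heb : e ≫ b₀ = 𝟙 _ := by
    refine rel_unique (rel_comp e hb₀) ?_ ?_
    · rw [her]; exact rel_refl _
    · rw [Category.assoc, hb₀X, Category.id_comp]; exact pullback.lift_snd _ _ _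
  haveI : UniversallyInjective r := MorphismProperty.pullback_fst _ _ ‹_›
  let l : T ⟶ pullback (D.obj.hom ≫ p) p :=
    pullback.lift a (b ≫ D.obj.hom) (by simpa [Category.assoc] using hab.1)
  have hla : l ≫ r = a := pullback.lift_fst _ _ _
  have hlb : l ≫ b₀ = b := by
    have h1 : Rel D (l ≫ r) (l ≫ b₀) := rel_comp l hb₀
    rw [hla] at h1
    refine rel_unique h1 hab ?_
    rw [Category.assoc, hb₀X]
    exact pullback.lift_snd _ _ _
  have key : l.base t = e.base (a.base t) := by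
    apply r.injective
    rw [← Scheme.Hom.comp_apply, ← Scheme.Hom.comp_apply, her, hla]
    rfl
  change b.base t ∈ W
  rw [← hlb, Scheme.Hom.comp_apply, key, ← Scheme.Hom.comp_apply, heb]
  exact ht

/-- A cartesian square identifying related points yields effectivity. -/
theorem effective_of_isPullback {U : Over S} (q : D.obj.left ⟶ U.left)
    (hsq : IsPullback q D.obj.hom U.hom p)
    (hq : ∀ ⦃T : Scheme.{u}⦄ (a b : T ⟶ D.obj.left), Rel D a b → a ≫ q = b ≫ q) :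
    Nonempty ((Desc.toDD p).obj U ≅ D) := by
  let e : D.obj.left ≅ pullback p U.hom := hsq.flip.isoPullback
  have he1 : e.hom ≫ pullback.fst p U.hom = D.obj.hom := hsq.flip.isoPullback_hom_fst
  have he2 : e.hom ≫ pullback.snd p U.hom = q := hsq.flip.isoPullback_hom_snd
  let f : D ⟶ (Desc.toDD p).obj U := ⟨Over.homMk e.hom he1, fun T x₀ x₁ h v w hw => by
    refine pullback.hom_ext ?_ ?_
    · refine (pullback.lift_fst _ _ _).trans ?_
      change x₁ = ((D.φ x₀ x₁ h v).1 ≫ e.hom) ≫ pullback.fst p U.hom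
      rw [Category.assoc, he1]
      exact (D.φ x₀ x₁ h v).2.symm
    · refine (pullback.lift_snd _ _ _).trans ?_
      change w.1 ≫ pullback.snd p U.hom = ((D.φ x₀ x₁ h v).1 ≫ e.hom) ≫ pullback.snd p U.hom
      rw [hw, Category.assoc, Category.assoc]
      change v.1 ≫ e.hom ≫ _ = _
      rw [he2]
      exact hq _ _ (rel_of_phi x₀ x₁ h v)⟩
  let g : (Desc.toDD p).obj U ⟶ D := ⟨Over.homMk e.inv (by
      change e.inv ≫ D.obj.hom = pullback.fst p U.hom
      rw [Iso.inv_comp_eq, he1]), fun T x₀ x₁ h v w hw => by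
    have hw' : w.1 ≫ e.hom = v.1 := by
      rw [hw]
      change (v.1 ≫ e.inv) ≫ e.hom = v.1
      simp
    have h2 := f.comm x₀ x₁ h w v hw'.symm
    rw [h2]
    change _ = (_ ≫ e.hom) ≫ e.inv
    simp⟩
  exact ⟨⟨g, f, Desc.SchDD.hom_ext (Over.OverMorphism.ext e.inv_hom_id),
    Desc.SchDD.hom_ext (Over.OverMorphism.ext e.hom_inv_id)⟩⟩

end Groth.Agent.SGA1Desc
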