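import Mathlib
import Groth.Agent.SGA1Desc.Basic

/-!
# Descended pieces of a descent datum over stable opens
-/

set_option autoImplicit false
set_option linter.style.haveILetI false
set_option backward.isDefEq.respectTransparency false

universe u

open CategoryTheory CategoryTheory.Limits AlgebraicGeometry Topology TopologicalSpace

namespace Groth.Agent.SGA1Desc

variable {X S : Scheme.{u}} {p : X ⟶ S} (D : Desc.SchDD p)

/-- A descended scheme for the part of a descent datum lying over a stable open. -/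
structure Piece (W : D.obj.left.Opens) where
  stable : Stable D W
  base : Scheme.{u}
  str : base ⟶ S
  q : W.toScheme ⟶ base
  isPullback : IsPullback q (W.ι ≫ D.obj.hom) str p
  compat : ∀ ⦃T : Scheme.{u}⦄ (a b : T ⟶ W.toScheme), Rel D (a ≫ W.ι) (b ≫ W.ι) → a ≫ q = b ≫ q

namespace Piece

variable {D} {W : D.obj.left.Opens} (P : Piece D W)

theorem q_w : P.q ≫ P.str = W.ι ≫ D.obj.hom ≫ p := by
  rw [P.isPullback.w, Category.assoc]

theorem rel_of_eq {T : Scheme.{u}} {a b : T ⟶ W.toScheme} (h : a ≫ P.q = b ≫ P.q) :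
    Rel D (a ≫ W.ι) (b ≫ W.ι) := by
  have hp : ((a ≫ W.ι) ≫ D.obj.hom) ≫ p = (b ≫ W.ι ≫ D.obj.hom) ≫ p := by
    simp only [Category.assoc, ← P.q_w, reassoc_of% h]
  obtain ⟨c, hc, hcX⟩ := exists_rel (D := D) (a ≫ W.ι) (b ≫ W.ι ≫ D.obj.hom) hp
  have hr : Set.range c.base ⊆ Set.range W.ι.base := by
    rintro _ ⟨t, rfl⟩
    rw [Scheme.Opens.range_ι]
    exact P.stable _ _ hc (show (a ≫ W.ι).base t ∈ W from (a.base t).2)
  let c' := IsOpenImmersion.lift W.ι c hr
  have hc' : c' ≫ W.ι = c := IsOpenImmersion.lift_fac _ _ _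
  have : c' = b := by
    refine P.isPullback.hom_ext ?_ ?_
    · rw [← h]
      exact (P.compat a c' (by rw [hc']; exact hc)).symm
    · rw [reassoc_of% hc', hcX]
  rw [← this, hc']
  exact hc

theorem exists_pair {x y : W.toScheme} (h : P.q.base x = P.q.base y) :
    ∃ (T : Scheme.{u}) (a b : T ⟶ W.toScheme) (t : T),
      Rel D (a ≫ W.ι) (b ≫ W.ι) ∧ a.base t = x ∧ b.base t = y := by
  obtain ⟨t, ht1, ht2⟩ := Scheme.Pullback.exists_preimage_pullback (f := P.q) (g := P.q) x y h
  exact ⟨_, pullback.fst P.q P.q, pullback.snd P.q P.q, t, P.rel_of_eq pullback.condition, ht1, ht2⟩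

/-- The fibres of the projection of a piece respect stable opens. -/
theorem mem_of_eq {W' : D.obj.left.Opens} (hW' : Stable D W') {x y : W.toScheme}
    (h : P.q.base x = P.q.base y) (hx : x.1 ∈ W') : y.1 ∈ W' := by
  obtain ⟨T, a, b, t, hab, rfl, rfl⟩ := P.exists_pair h
  exact hW' _ _ hab (show (a ≫ W.ι).base t ∈ W' from hx)

variable [Flat p] [Surjective p] [QuasiCompact p]

theorem flat_q : Flat P.q := MorphismProperty.of_isPullback P.isPullback.flip ‹Flat p›

theorem surjective_q : Surjective P.q :=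
  MorphismProperty.of_isPullback P.isPullback.flip ‹Surjective p›

theorem quasiCompact_q : QuasiCompact P.q :=
  MorphismProperty.of_isPullback P.isPullback.flip ‹QuasiCompact p›

theorem epi_q : Epi P.q :=
  have := P.flat_q; have := P.surjective_q; have := P.quasiCompact_q
  inferInstance

/-- Maps out of a piece: those identifying related points. -/
theorem exists_desc {Z : Scheme.{u}} (f : W.toScheme ⟶ Z)
    (hf : ∀ ⦃T : Scheme.{u}⦄ (a b : T ⟶ W.toScheme),
      Rel D (a ≫ W.ι) (b ≫ W.ι) → a ≫ f = b ≫ f) :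
    ∃ g : P.base ⟶ Z, P.q ≫ g = f := by
  haveI := P.flat_q
  haveI := P.surjective_q
  haveI := P.quasiCompact_q
  exact ⟨EffectiveEpi.desc P.q f fun a b h => hf a b (P.rel_of_eq h), EffectiveEpi.fac _ _ _⟩

variable {W' : D.obj.left.Opens} (hW' : Stable D W')

/-- The image of a stable open in a descended piece. -/
noncomputable def image : P.base.Opens :=
  ⟨P.q.base '' (W.ι.base ⁻¹' W'), by
    haveI := P.flat_q
    haveI := P.surjective_q
    haveI := P.quasiCompact_q
    rw [← (Flat.isQuotientMap_of_surjective P.q).isOpen_preimage]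
    convert (W.ι ⁻¹ᵁ W').isOpen using 1
    ext x
    constructor
    · rintro ⟨y, hy, hyx⟩
      exact P.mem_of_eq hW' hyx hy
    · exact fun hx => ⟨x, hx, rfl⟩⟩

theorem preimage_image : P.q ⁻¹ᵁ P.image hW' = W.ι ⁻¹ᵁ W' := by
  refine TopologicalSpace.Opens.ext (Set.ext fun x => ⟨?_, fun hx => ⟨x, hx, rfl⟩⟩)
  rintro ⟨y, hy, hyx⟩
  exact P.mem_of_eq hW' hyx hy

theorem le_preimage_image (h : W' ≤ W) :
    (⊤ : W'.toScheme.Opens) ≤ (D.obj.left.homOfLE h ≫ P.q) ⁻¹ᵁ P.image hW' := by
  intro w _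
  change (D.obj.left.homOfLE h).base w ∈ P.q ⁻¹ᵁ P.image hW'
  rw [P.preimage_image hW']
  change (D.obj.left.homOfLE h ≫ W.ι).base w ∈ W'
  rw [Scheme.homOfLE_ι]
  exact w.2

/-- A piece restricts to smaller stable opens. -/
noncomputable def restrict (h : W' ≤ W) : Piece D W' :=
  let q' : W'.toScheme ⟶ (P.image hW').toScheme :=
    IsOpenImmersion.lift (P.image hW').ι (D.obj.left.homOfLE h ≫ P.q) (by
      rintro _ ⟨w, rfl⟩
      rw [Scheme.Opens.range_ι]
      exact P.le_preimage_image hW' h (x := w) trivial)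
  have hq' : q' ≫ (P.image hW').ι = D.obj.left.homOfLE h ≫ P.q := IsOpenImmersion.lift_fac _ _ _
  { stable := hW'
    base := (P.image hW').toScheme
    str := (P.image hW').ι ≫ P.str
    q := q'
    isPullback := by
      have hr : P.q ⁻¹ᵁ (P.image hW').ι.opensRange = (D.obj.left.homOfLE h).opensRange := by
        rw [Scheme.Opens.opensRange_ι, P.preimage_image hW']
        refine TopologicalSpace.Opens.ext (Set.ext fun x => ⟨fun hx => ⟨⟨x.1, hx⟩, ?_⟩, ?_⟩)
        · apply W.ι.isOpenEmbedding.injective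
          rw [← Scheme.Hom.comp_apply, Scheme.homOfLE_ι]
          rfl
        · rintro ⟨w, rfl⟩
          change (D.obj.left.homOfLE h ≫ W.ι).base w ∈ W'
          rw [Scheme.homOfLE_ι]
          exact w.2
      have h1 := (IsOpenImmersion.isPullback q' (D.obj.left.homOfLE h) (P.image hW').ι P.q
        hq'.symm hr).paste_vert P.isPullback
      rwa [Scheme.homOfLE_ι_assoc] at h1
    compat := fun T a b hab => by
      rw [← cancel_mono (P.image hW').ι, Category.assoc, Category.assoc, hq', ← Category.assoc,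
        ← Category.assoc]
      refine P.compat _ _ ?_
      simpa [Category.assoc] using hab }

theorem restrict_q (h : W' ≤ W) :
    (P.restrict hW' h).q ≫ (P.image hW').ι = D.obj.left.homOfLE h ≫ P.q :=
  IsOpenImmersion.lift_fac _ _ _

end Piece

variable {D} [Flat p] [Surjective p] [QuasiCompact p]

/-- The map between pieces of nested stable opens. -/
theorem Piece.exists_map {W W' : D.obj.left.Opens} (P : Piece D W) (P' : Piece D W') (h : W ≤ W') :
    ∃ g : P.base ⟶ P'.base, IsOpenImmersion g ∧ P.q ≫ g = D.obj.left.homOfLE h ≫ P'.q ∧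
      g ≫ P'.str = P.str ∧ Set.range g.base = P'.q.base '' (W'.ι.base ⁻¹' W) := by
  let R := P'.restrict P.stable h
  obtain ⟨g₁, hg₁⟩ := P.exists_desc R.q R.compat
  obtain ⟨g₂, hg₂⟩ := R.exists_desc P.q P.compat
  haveI := P.epi_q
  haveI := R.epi_q
  have e1 : g₁ ≫ g₂ = 𝟙 _ := by
    rw [← cancel_epi P.q, reassoc_of% hg₁, hg₂, Category.comp_id]
  have e2 : g₂ ≫ g₁ = 𝟙 _ := by
    rw [← cancel_epi R.q, reassoc_of% hg₂, hg₁, Category.comp_id]
  let e : P.base ≅ R.base := ⟨g₁, g₂, e1, e2⟩
  let ι : R.base ⟶ P'.base := (P'.image P.stable).ι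
  have hfac : P.q ≫ g₁ ≫ ι = D.obj.left.homOfLE h ≫ P'.q := by
    rw [reassoc_of% hg₁]
    exact P'.restrict_q P.stable h
  haveI : IsIso e.hom := e.isIso_hom
  refine ⟨e.hom ≫ ι, ?_, hfac, ?_, ?_⟩
  · haveI : IsOpenImmersion ι := inferInstanceAs (IsOpenImmersion (P'.image P.stable).ι)
    haveI : IsOpenImmersion e.hom := inferInstance
    exact MorphismProperty.comp_mem _ _ _ ‹IsOpenImmersion e.hom› ‹IsOpenImmersion ι›
  · rw [← cancel_epi P.q, ← Category.assoc, hfac, Category.assoc, P'.q_w, P.q_w,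
      Scheme.homOfLE_ι_assoc]
  · have hsurj : Function.Surjective e.hom.base := e.hom.homeomorph.surjective
    change Set.range (ι.base ∘ e.hom.base) = _
    rw [hsurj.range_comp]
    exact Scheme.Opens.range_ι _

end Groth.Agent.SGA1Desc
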