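import Mathlib
import Groth.Agent.SGA1Desc.Piece

/-!
# Gluing descended pieces
-/

set_option autoImplicit false
set_option linter.style.haveILetI false
set_option backward.isDefEq.respectTransparency false

universe u

open CategoryTheory CategoryTheory.Limits AlgebraicGeometry Topology TopologicalSpace

namespace Groth.Agent.SGA1Desc

variable {X S : Scheme.{u}} {p : X ⟶ S} [Flat p] [Surjective p] [QuasiCompact p]
  (D : Desc.SchDD p)

/-- The stable opens over which the datum descends. -/
abbrev Good : Type u := {W : D.obj.left.Opens // Nonempty (Piece D W)}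

/-- A chosen piece over each such open. -/
noncomputable def Good.piece {D : Desc.SchDD p} (i : Good D) : Piece D i.1 := i.2.some

/-- A descent datum covered by stable opens over which it descends is effective. -/
theorem exists_piece_top (hcov : ∀ z : D.obj.left, ∃ W : D.obj.left.Opens,
    z ∈ W ∧ Nonempty (Piece D W)) : Nonempty (Piece D ⊤) := by
  have hmap : ∀ {i j : Good D} (h : i ≤ j), ∃ g : i.piece.base ⟶ j.piece.base, IsOpenImmersion g ∧
      i.piece.q ≫ g = D.obj.left.homOfLE h ≫ j.piece.q ∧ g ≫ j.piece.str = i.piece.str ∧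
      Set.range g.base = j.piece.q.base '' (j.1.ι.base ⁻¹' i.1) :=
    fun {i j} h => i.piece.exists_map j.piece h
  choose m hmo hmq hms hmr using @hmap
  haveI hepi : ∀ i : Good D, Epi i.piece.q := fun i => i.piece.epi_q
  let F : Good D ⥤ Scheme.{u} :=
    { obj := fun i => i.piece.base
      map := fun f => m (leOfHom f)
      map_id := fun i => by rw [← cancel_epi i.piece.q, hmq, Scheme.homOfLE_rfl, Category.id_comp,
        Category.comp_id]
      map_comp := fun {i j k} f g => by
        rw [← cancel_epi i.piece.q, hmq, reassoc_of% (hmq (leOfHom f)), hmq,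
          Scheme.homOfLE_homOfLE_assoc] }
  haveI : ∀ {i j : Good D} (f : i ⟶ j), IsOpenImmersion (F.map f) := fun f => hmo (leOfHom f)
  haveI : (F ⋙ Scheme.forget).IsLocallyDirected := ⟨fun {i j k} fi fj xi xj h => by
    haveI := k.piece.surjective_q
    obtain ⟨w, hw⟩ := k.piece.q.surjective ((F.map fi).base xi)
    have hwi : w.1 ∈ i.1 := by
      obtain ⟨w', hw', he⟩ := (hmr (leOfHom fi)).le ⟨xi, rfl⟩
      exact k.piece.mem_of_eq i.piece.stable (he.trans hw.symm) hw'
    have hwj : w.1 ∈ j.1 := by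
      obtain ⟨w', hw', he⟩ := (hmr (leOfHom fj)).le ⟨xj, rfl⟩
      exact k.piece.mem_of_eq j.piece.stable (he.trans (h.symm.trans hw.symm)) hw'
    let l : Good D := ⟨i.1 ⊓ j.1,
      ⟨i.piece.restrict (i.piece.stable.inf j.piece.stable) inf_le_left⟩⟩
    have hli : l ≤ i := inf_le_left (b := j.1)
    have hlj : l ≤ j := inf_le_right (a := i.1)
    let wl : l.1.toScheme := ⟨w.1, hwi, hwj⟩
    have key : ∀ (n : Good D) (hn : l ≤ n) (hnk : n ≤ k),
        (m hnk).base ((m hn).base (l.piece.q.base wl)) = k.piece.q.base w := by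
      intro n hn hnk
      have e : l.piece.q ≫ m hn ≫ m hnk = D.obj.left.homOfLE (hn.trans hnk) ≫ k.piece.q := by
        rw [reassoc_of% (hmq hn), hmq, Scheme.homOfLE_homOfLE_assoc]
      refine (congrArg (fun f => f.base wl) e).trans ?_
      change k.piece.q.base ((D.obj.left.homOfLE _).base wl) = _
      congr 1
      apply k.1.ι.isOpenEmbedding.injective
      rw [← Scheme.Hom.comp_apply, Scheme.homOfLE_ι]
      rfl
    refine ⟨l, homOfLE hli, homOfLE hlj, l.piece.q.base wl, ?_, ?_⟩
    · exact (hmo (leOfHom fi)).base_open.injective ((key i hli (leOfHom fi)).trans hw)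
    · exact (hmo (leOfHom fj)).base_open.injective
        (((key j hlj (leOfHom fj)).trans hw).trans h)⟩
  let str : colimit F ⟶ S := colimit.desc F
    ⟨S, { app := fun i => i.piece.str, naturality := fun i j f => by simp [F, hms] }⟩
  have hstr : ∀ i, colimit.ι F i ≫ str = i.piece.str := fun i => colimit.ι_desc _ _
  -- the projection
  choose Wz hWz hPz using hcov
  let idx : D.obj.left → Good D := fun z => ⟨Wz z, hPz z⟩
  have hsup : IsOpenCover (fun i : Good D => i.1) := by
    refine IsOpenCover.mk (eq_top_iff.2 fun z _ => ?_)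
    exact Opens.mem_iSup.2 ⟨idx z, hWz z⟩
  let 𝒰 := D.obj.left.openCoverOfIsOpenCover (fun i : Good D => i.1) hsup
  have hinf : ∀ i j : Good D, Nonempty (Piece D (i.1 ⊓ j.1)) := fun i j =>
    ⟨i.piece.restrict (i.piece.stable.inf j.piece.stable) inf_le_left⟩
  have hcompat : ∀ (i j : Good D) {T : Scheme.{u}} (a : T ⟶ i.1.toScheme) (b : T ⟶ j.1.toScheme),
      a ≫ i.1.ι = b ≫ j.1.ι →
      a ≫ i.piece.q ≫ colimit.ι F i = b ≫ j.piece.q ≫ colimit.ι F j := by
    intro i j T a b hab
    let l : Good D := ⟨i.1 ⊓ j.1, hinf i j⟩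
    have hr : Set.range (a ≫ i.1.ι).base ⊆ Set.range l.1.ι.base := by
      rintro _ ⟨t, rfl⟩
      rw [Scheme.Opens.range_ι]
      refine ⟨(a.base t).2, ?_⟩
      rw [hab]
      exact (b.base t).2
    let c := IsOpenImmersion.lift l.1.ι (a ≫ i.1.ι) hr
    have hci : c ≫ D.obj.left.homOfLE (inf_le_left (b := j.1)) = a := by
      rw [← cancel_mono i.1.ι, Category.assoc, Scheme.homOfLE_ι, IsOpenImmersion.lift_fac]
    have hcj : c ≫ D.obj.left.homOfLE (inf_le_right (a := i.1)) = b := by
      rw [← cancel_mono j.1.ι, Category.assoc, Scheme.homOfLE_ι, IsOpenImmersion.lift_fac, hab]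
    have li : l ≤ i := inf_le_left (b := j.1)
    have lj : l ≤ j := inf_le_right (a := i.1)
    have h1 := colimit.w F (homOfLE li)
    have h2 := colimit.w F (homOfLE lj)
    rw [← hci, ← hcj, Category.assoc, Category.assoc,
      ← reassoc_of% (hmq li), ← reassoc_of% (hmq lj)]
    exact (congrArg (fun f => c ≫ l.piece.q ≫ f) h1).trans
      (congrArg (fun f => c ≫ l.piece.q ≫ f) h2).symm
  let q : D.obj.left ⟶ colimit F := 𝒰.glueMorphisms (fun i => i.piece.q ≫ colimit.ι F i)
    (fun i j => hcompat i j _ _ pullback.condition)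
  have hq : ∀ i : Good D, i.1.ι ≫ q = i.piece.q ≫ colimit.ι F i := fun i =>
    𝒰.ι_glueMorphisms _ _ i
  have hqp : ∀ i : Good D, q ⁻¹ᵁ (colimit.ι F i).opensRange = i.1 := by
    intro i
    refine TopologicalSpace.Opens.ext (Set.ext fun z => ⟨?_, fun hz => ?_⟩)
    · rintro ⟨xi, hxi⟩
      let j := idx z
      have hj : q.base z = (colimit.ι F j).base (j.piece.q.base ⟨z, hWz z⟩) := by
        rw [← Scheme.Hom.comp_apply, ← hq]
        rfl
      obtain ⟨l, fi, fj, x, -, hx⟩ :=
        (Scheme.IsLocallyDirected.ι_eq_ι_iff F).1 (hxi.trans hj)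
      obtain ⟨w', hw', he⟩ := (hmr (leOfHom fj)).le ⟨x, rfl⟩
      have : z ∈ l.1 := j.piece.mem_of_eq l.piece.stable (he.trans hx) hw'
      exact leOfHom fi this
    · refine ⟨i.piece.q.base ⟨z, hz⟩, ?_⟩
      rw [← Scheme.Hom.comp_apply, ← hq]
      rfl
  haveI : IsIso (⊤ : D.obj.left.Opens).ι := (Scheme.topIso D.obj.left).isIso_hom
  refine ⟨{ stable := stable_top, base := colimit F, str := str, q := (⊤ : D.obj.left.Opens).ι ≫ q,
            isPullback := ?_, compat := ?_ }⟩
  · have hZ : IsPullback q D.obj.hom str p := by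
      refine Scheme.isPullback_of_openCover _ _ _ _ (Scheme.IsLocallyDirected.openCover F) fun i => ?_
      have h1 : IsPullback i.piece.q i.1.ι (colimit.ι F i) q :=
        IsOpenImmersion.isPullback _ _ _ _ (hq i)
          ((hqp i).trans (Scheme.Opens.opensRange_ι i.1).symm)
      let e := h1.flip.isoPullback
      refine IsPullback.of_iso i.piece.isPullback e (Iso.refl _) (Iso.refl _) (Iso.refl _) ?_ ?_ ?_ ?_
      · simp only [Iso.refl_hom, Category.comp_id]
        exact h1.flip.isoPullback_hom_snd.symm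
      · simp only [Iso.refl_hom, Category.comp_id]
        change _ = e.hom ≫ pullback.fst q _ ≫ D.obj.hom
        rw [h1.flip.isoPullback_hom_fst_assoc]
      · simp only [Iso.refl_hom, Category.comp_id, Category.id_comp]
        exact (hstr i).symm
      · simp
    exact IsPullback.of_iso hZ (asIso (⊤ : D.obj.left.Opens).ι).symm (Iso.refl _) (Iso.refl _)
      (Iso.refl _) (by simp) (by simp) (by simp) (by simp)
  · intro T a b hab
    rw [← Category.assoc, ← Category.assoc]
    let A := fun i : Good D => (a ≫ (⊤ : D.obj.left.Opens).ι) ⁻¹ᵁ i.1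
    have hA : IsOpenCover A := by
      refine IsOpenCover.mk (eq_top_iff.2 fun t _ => Opens.mem_iSup.2 ?_)
      exact ⟨idx _, hWz ((a ≫ (⊤ : D.obj.left.Opens).ι).base t)⟩
    refine Scheme.Cover.hom_ext (T.openCoverOfIsOpenCover A hA) _ _ fun i => ?_
    change (A i).ι ≫ _ = (A i).ι ≫ _
    have hb : A i ≤ (b ≫ (⊤ : D.obj.left.Opens).ι) ⁻¹ᵁ i.1 := i.piece.stable _ _ hab
    let a' := (a ≫ (⊤ : D.obj.left.Opens).ι).resLE i.1 (A i) le_rfl
    let b' := (b ≫ (⊤ : D.obj.left.Opens).ι).resLE i.1 (A i) hb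
    have ha' : a' ≫ i.1.ι = (A i).ι ≫ a ≫ (⊤ : D.obj.left.Opens).ι :=
      Scheme.Hom.resLE_comp_ι _ _
    have hb' : b' ≫ i.1.ι = (A i).ι ≫ b ≫ (⊤ : D.obj.left.Opens).ι :=
      Scheme.Hom.resLE_comp_ι _ _
    have := i.piece.compat a' b' (by rw [ha', hb']; exact rel_comp _ hab)
    simp only [Category.assoc] at ha' hb' ⊢
    rw [← reassoc_of% ha', ← reassoc_of% hb', hq, reassoc_of% this]

/-- A descent datum covered by stable opens over which it descends is effective. -/
theorem effective_of_pieces (hcov : ∀ z : D.obj.left, ∃ W : D.obj.left.Opens,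
    z ∈ W ∧ Nonempty (Piece D W)) : ∃ U : Over S, Nonempty ((Desc.toDD p).obj U ≅ D) := by
  obtain ⟨P⟩ := exists_piece_top D hcov
  haveI : IsIso (⊤ : D.obj.left.Opens).ι := (Scheme.topIso D.obj.left).isIso_hom
  refine ⟨Over.mk P.str, effective_of_isPullback (U := Over.mk P.str)
    (inv (⊤ : D.obj.left.Opens).ι ≫ P.q) ?_ fun T a b hab => ?_⟩
  · exact IsPullback.of_iso P.isPullback (asIso (⊤ : D.obj.left.Opens).ι) (Iso.refl _) (Iso.refl _)
      (Iso.refl _) (by simp) (by simp) (by simp) (by simp)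
  · simp only [← Category.assoc]
    exact P.compat _ _ (by simpa using hab)

end Groth.Agent.SGA1Desc
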