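import Mathlib
import Groth.Prelude.Def_SGA1
import Groth.Agent.SGA1Desc.Basic
import Groth.Agent.SGA1Misc.EtaleSection

/-!
# Étale effective descent along universally submersive morphisms

`Eff D j` records an étale scheme over `T` whose canonical datum is the base change of `D` along
`j : T ⟶ S`. Along a universally submersive `p` these are unique, hence glue.
-/

set_option autoImplicit false
set_option linter.style.haveILetI false
set_option backward.isDefEq.respectTransparency false

universe u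

open CategoryTheory CategoryTheory.Limits AlgebraicGeometry Topology TopologicalSpace

namespace Groth.Agent.SGA1Desc

variable {X S : Scheme.{u}} {p : X ⟶ S}

/-- Maps into étale schemes descend along universally submersive morphisms. -/
theorem exists_desc_etale {T U V P : Scheme.{u}} (u : U ⟶ T) (v : V ⟶ T) [Etale v] (g₀ : P ⟶ U)
    (hg₀ : SGA1.UnivSubmersive g₀) (h : P ⟶ V) (hw : h ≫ v = g₀ ≫ u)
    (hcoc : pullback.fst g₀ g₀ ≫ h = pullback.snd g₀ g₀ ≫ h) :
    ∃ f : U ⟶ V, f ≫ v = u ∧ g₀ ≫ f = h := by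
  haveI : Etale (pullback.fst u v) := MorphismProperty.pullback_fst _ _ ‹Etale v›
  obtain ⟨s, hs1, hs2⟩ := SGA1Misc.exists_section_of_univSubmersive (pullback.fst u v) g₀ hg₀
    (pullback.lift g₀ h hw.symm) (pullback.lift_fst _ _ _) (by
      apply pullback.hom_ext
      · simp only [Category.assoc, pullback.lift_fst, pullback.condition]
      · simp only [Category.assoc, pullback.lift_snd, hcoc])
  refine ⟨s ≫ pullback.snd u v, ?_, ?_⟩
  · rw [Category.assoc, ← pullback.condition, reassoc_of% hs1]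
  · rw [reassoc_of% hs2, pullback.lift_snd]

variable (D : Desc.SchDD p)

/-- An étale scheme over `T` descending the base change of a descent datum along `j : T ⟶ S`. -/
structure Eff {T : Scheme.{u}} (j : T ⟶ S) where
  base : Scheme.{u}
  str : base ⟶ T
  etale : Etale str
  q : pullback (D.obj.hom ≫ p) j ⟶ base
  q_str : q ≫ str = pullback.snd (D.obj.hom ≫ p) j
  isPullback : IsPullback q (pullback.fst (D.obj.hom ≫ p) j ≫ D.obj.hom) (str ≫ j) p
  compat : ∀ ⦃W : Scheme.{u}⦄ (a b : W ⟶ pullback (D.obj.hom ≫ p) j),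
    Rel D (a ≫ pullback.fst (D.obj.hom ≫ p) j) (b ≫ pullback.fst (D.obj.hom ≫ p) j) →
    a ≫ pullback.snd (D.obj.hom ≫ p) j = b ≫ pullback.snd (D.obj.hom ≫ p) j → a ≫ q = b ≫ q

variable {D}

namespace Eff

variable {T : Scheme.{u}} {j : T ⟶ S} (E : Eff D j)

theorem univSubmersive_q (hp : SGA1.UnivSubmersive p) : SGA1.UnivSubmersive E.q :=
  (MorphismProperty.universally_isStableUnderBaseChange _).of_isPullback E.isPullback.flip hp

theorem epi_ext (hp : SGA1.UnivSubmersive p) {V : Scheme.{u}} (v : V ⟶ T) [Etale v]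
    {f g : E.base ⟶ V} (hf : f ≫ v = g ≫ v) (h : E.q ≫ f = E.q ≫ g) : f = g :=
  haveI := SGA1Misc.univSubmersive_surjective (E.univSubmersive_q hp)
  SGA1Misc.eq_of_surjective_comp_eq v f g hf E.q h

theorem rel_of_eq {W : Scheme.{u}} {a b : W ⟶ pullback (D.obj.hom ≫ p) j}
    (h : a ≫ E.q = b ≫ E.q) :
    Rel D (a ≫ pullback.fst (D.obj.hom ≫ p) j) (b ≫ pullback.fst (D.obj.hom ≫ p) j) := by
  have hsnd : a ≫ pullback.snd (D.obj.hom ≫ p) j = b ≫ pullback.snd (D.obj.hom ≫ p) j := by
    rw [← E.q_str, reassoc_of% h]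
  obtain ⟨c, hc, hcX⟩ := exists_rel (D := D) (a ≫ pullback.fst (D.obj.hom ≫ p) j)
    (b ≫ pullback.fst (D.obj.hom ≫ p) j ≫ D.obj.hom) (by
      simp only [Category.assoc, pullback.condition, reassoc_of% hsnd])
  let c' : W ⟶ pullback (D.obj.hom ≫ p) j :=
    pullback.lift c (a ≫ pullback.snd (D.obj.hom ≫ p) j) (by
      rw [← Category.assoc, ← hc.1]
      simp only [Category.assoc, pullback.condition])
  have hc1 : c' ≫ pullback.fst (D.obj.hom ≫ p) j = c := pullback.lift_fst _ _ _
  have hc2 : c' ≫ pullback.snd (D.obj.hom ≫ p) j = a ≫ pullback.snd (D.obj.hom ≫ p) j :=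
    pullback.lift_snd _ _ _
  have : c' = b := by
    refine E.isPullback.hom_ext ?_ ?_
    · rw [← h]
      exact (E.compat a c' (by rw [hc1]; exact hc) hc2.symm).symm
    · rw [reassoc_of% hc1, hcX]
  rw [← this, hc1]
  exact hc

theorem exists_desc (hp : SGA1.UnivSubmersive p) {V : Scheme.{u}} (v : V ⟶ T) [Etale v]
    (h : pullback (D.obj.hom ≫ p) j ⟶ V) (hv : h ≫ v = pullback.snd (D.obj.hom ≫ p) j)
    (hc : ∀ ⦃W : Scheme.{u}⦄ (a b : W ⟶ pullback (D.obj.hom ≫ p) j),
      Rel D (a ≫ pullback.fst (D.obj.hom ≫ p) j) (b ≫ pullback.fst (D.obj.hom ≫ p) j) →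
      a ≫ pullback.snd (D.obj.hom ≫ p) j = b ≫ pullback.snd (D.obj.hom ≫ p) j → a ≫ h = b ≫ h) :
    ∃ f : E.base ⟶ V, f ≫ v = E.str ∧ E.q ≫ f = h :=
  exists_desc_etale E.str v E.q (E.univSubmersive_q hp) h (hv.trans E.q_str.symm)
    (hc _ _ (E.rel_of_eq pullback.condition) (by
      rw [← E.q_str, pullback.condition_assoc]))

theorem exists_iso (hp : SGA1.UnivSubmersive p) (E' : Eff D j) :
    ∃ e : E.base ≅ E'.base, e.hom ≫ E'.str = E.str ∧ E.q ≫ e.hom = E'.q := by
  haveI := E.etale
  haveI := E'.etale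
  obtain ⟨f, hf, hf'⟩ := E.exists_desc hp E'.str E'.q E'.q_str E'.compat
  obtain ⟨g, hg, hg'⟩ := E'.exists_desc hp E.str E.q E.q_str E.compat
  refine ⟨⟨f, g, ?_, ?_⟩, hf, hf'⟩
  · exact E.epi_ext hp E.str (by rw [Category.assoc, hg, hf, Category.id_comp])
      (by rw [reassoc_of% hf', hg', Category.comp_id])
  · exact E'.epi_ext hp E'.str (by rw [Category.assoc, hf, hg, Category.id_comp])
      (by rw [reassoc_of% hg', hf', Category.comp_id])

variable {T' : Scheme.{u}} (k : T' ⟶ T) (j' : T' ⟶ S) (hk : k ≫ j = j')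

include hk in
/-- The map between base changes of the total scheme. -/
noncomputable def bcMap : pullback (D.obj.hom ≫ p) j' ⟶ pullback (D.obj.hom ≫ p) j :=
  pullback.lift (pullback.fst _ _) (pullback.snd _ _ ≫ k)
    (by rw [pullback.condition, Category.assoc, hk])

theorem bcMap_fst : bcMap (D := D) k j' hk ≫ pullback.fst (D.obj.hom ≫ p) j =
    pullback.fst (D.obj.hom ≫ p) j' := pullback.lift_fst _ _ _

theorem bcMap_snd : bcMap (D := D) k j' hk ≫ pullback.snd (D.obj.hom ≫ p) j =
    pullback.snd (D.obj.hom ≫ p) j' ≫ k := pullback.lift_snd _ _ _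

theorem isPullback_bcMap : IsPullback (bcMap (D := D) k j' hk) (pullback.snd (D.obj.hom ≫ p) j')
    (pullback.snd (D.obj.hom ≫ p) j) k := by
  refine IsPullback.of_right ?_ (bcMap_snd k j' hk)
    (IsPullback.of_hasPullback (D.obj.hom ≫ p) j)
  rw [bcMap_fst, hk]
  exact IsPullback.of_hasPullback _ _

/-- Base change. -/
noncomputable def pull : Eff D j' :=
  let m := bcMap (D := D) k j' hk
  let q' : pullback (D.obj.hom ≫ p) j' ⟶ pullback E.str k :=
    pullback.lift (m ≫ E.q) (pullback.snd _ _) (by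
      rw [Category.assoc, E.q_str, bcMap_snd])
  have hq1 : q' ≫ pullback.fst E.str k = m ≫ E.q := pullback.lift_fst _ _ _
  have hq2 : q' ≫ pullback.snd E.str k = pullback.snd _ _ := pullback.lift_snd _ _ _
  { base := pullback E.str k
    str := pullback.snd E.str k
    etale := MorphismProperty.pullback_snd _ _ E.etale
    q := q'
    q_str := hq2
    isPullback := by
      have h1 : IsPullback q' m (pullback.fst E.str k) E.q := by
        refine IsPullback.of_right ?_ hq1 (IsPullback.of_hasPullback E.str k).flip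
        rw [hq2, E.q_str]
        exact (isPullback_bcMap k j' hk).flip
      have h2 := h1.paste_vert E.isPullback
      rwa [← Category.assoc m, bcMap_fst, pullback.condition_assoc, hk] at h2
    compat := fun W a b hr hs => by
      apply pullback.hom_ext
      · rw [Category.assoc, Category.assoc, hq1, ← Category.assoc, ← Category.assoc]
        refine E.compat (a ≫ m) (b ≫ m) ?_ ?_
        · simpa [m, Category.assoc, bcMap_fst] using hr
        · simp only [m, Category.assoc, bcMap_snd]
          rw [reassoc_of% hs]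
      · rw [Category.assoc, Category.assoc, hq2, hs] }

theorem pull_str : (E.pull k j' hk).str = pullback.snd E.str k := rfl

end Eff

/-- Nested opens: the piece over the smaller one is an open of the other. -/
theorem Eff.exists_map (hp : SGA1.UnivSubmersive p) {V V' : S.Opens} (h : V ≤ V') (E : Eff D V.ι)
    (E' : Eff D V'.ι) : ∃ g : E.base ⟶ E'.base, IsOpenImmersion g ∧
      g ≫ E'.str = E.str ≫ S.homOfLE h ∧
      E.q ≫ g = Eff.bcMap (D := D) (S.homOfLE h) V.ι (S.homOfLE_ι h) ≫ E'.q ∧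
      Set.range g.base = E'.str.base ⁻¹' (V'.ι.base ⁻¹' V) := by
  obtain ⟨e, he, he'⟩ := E.exists_iso hp (E'.pull (S.homOfLE h) V.ι (S.homOfLE_ι h))
  haveI : IsIso e.hom := e.isIso_hom
  haveI : IsOpenImmersion (pullback.fst E'.str (S.homOfLE h)) := inferInstance
  refine ⟨e.hom ≫ pullback.fst E'.str (S.homOfLE h), ?_, ?_, ?_, ?_⟩
  · exact MorphismProperty.comp_mem _ _ _ (inferInstanceAs (IsOpenImmersion e.hom))
      ‹IsOpenImmersion (pullback.fst E'.str (S.homOfLE h))›
  · rw [Category.assoc, pullback.condition, ← Category.assoc]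
    exact congrArg (· ≫ S.homOfLE h) he
  · rw [← Category.assoc, he']
    exact pullback.lift_fst _ _ _
  · have hs : Function.Surjective e.hom.base := e.hom.homeomorph.surjective
    change Set.range ((pullback.fst E'.str (S.homOfLE h)).base ∘ e.hom.base) = _
    rw [hs.range_comp, IsOpenImmersion.range_pullbackFst]
    ext x
    constructor
    · rintro ⟨w, hw⟩
      change V'.ι.base (E'.str.base x) ∈ V
      rw [← hw, ← Scheme.Hom.comp_apply, Scheme.homOfLE_ι]
      exact w.2
    · intro hx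
      refine ⟨⟨_, hx⟩, ?_⟩
      apply V'.ι.isOpenEmbedding.injective
      rw [← Scheme.Hom.comp_apply, Scheme.homOfLE_ι]
      rfl

variable (D) in
/-- Étale effectiveness is local on the base. -/
theorem exists_eff_of_openCover (hp : SGA1.UnivSubmersive p)
    (hcov : ∀ s : S, ∃ V : S.Opens, s ∈ V ∧ Nonempty (Eff D V.ι)) : Nonempty (Eff D (𝟙 S)) := by
  let J := {V : S.Opens // Nonempty (Eff D V.ι)}
  let E : ∀ i : J, Eff D i.1.ι := fun i => i.2.some
  have hmap : ∀ {i j : J} (h : i ≤ j), ∃ g : (E i).base ⟶ (E j).base, IsOpenImmersion g ∧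
      g ≫ (E j).str = (E i).str ≫ S.homOfLE h ∧
      (E i).q ≫ g = Eff.bcMap (D := D) (S.homOfLE h) i.1.ι (S.homOfLE_ι h) ≫ (E j).q ∧
      Set.range g.base = (E j).str.base ⁻¹' (j.1.ι.base ⁻¹' i.1) :=
    fun {i j} h => (E i).exists_map hp h (E j)
  choose m hmo hms hmq hmr using @hmap
  haveI hepi : ∀ i : J, Etale (E i).str := fun i => (E i).etale
  let F : J ⥤ Scheme.{u} :=
    { obj := fun i => (E i).base
      map := fun f => m (leOfHom f)
      map_id := fun i => by
        refine (E i).epi_ext hp (E i).str ?_ ?_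
        · rw [hms, Scheme.homOfLE_rfl, Category.comp_id, Category.id_comp]
        · rw [hmq, Category.comp_id]
          convert Category.id_comp _ using 2
          apply pullback.hom_ext
          · rw [Eff.bcMap_fst, Category.id_comp]
          · rw [Eff.bcMap_snd, Scheme.homOfLE_rfl, Category.comp_id, Category.id_comp]
      map_comp := fun {i j k} f g => by
        haveI := SGA1Misc.univSubmersive_surjective ((E i).univSubmersive_q hp)
        refine SGA1Misc.eq_of_surjective_comp_eq (E k).str _ _ ?_ (E i).q ?_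
        · rw [hms, Category.assoc, hms, reassoc_of% (hms (leOfHom f)), Scheme.homOfLE_homOfLE]
        · rw [hmq, reassoc_of% (hmq (leOfHom f)), hmq, ← Category.assoc]
          congr 1
          apply pullback.hom_ext
          · rw [Category.assoc, Eff.bcMap_fst, Eff.bcMap_fst, Eff.bcMap_fst]
          · rw [Category.assoc, Eff.bcMap_snd, Eff.bcMap_snd, reassoc_of% Eff.bcMap_snd,
              Scheme.homOfLE_homOfLE] }
  haveI : ∀ {i j : J} (f : i ⟶ j), IsOpenImmersion (F.map f) := fun f => hmo (leOfHom f)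
  have hinf : ∀ i j : J, Nonempty (Eff D (i.1 ⊓ j.1).ι) := fun i j =>
    ⟨(E i).pull (S.homOfLE inf_le_left) _ (S.homOfLE_ι _)⟩
  -- the underlying point of `S`
  let π : ∀ i : J, (E i).base → S := fun i x => i.1.ι.base ((E i).str.base x)
  have hπ : ∀ {i j : J} (h : i ≤ j) x, π j ((m h).base x) = π i x := by
    intro i j h x
    simp only [π, ← Scheme.Hom.comp_apply]
    rw [reassoc_of% (hms h), Scheme.homOfLE_ι]
  haveI : (F ⋙ Scheme.forget).IsLocallyDirected := ⟨fun {i j k} fi fj xi xj h => by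
    let l : J := ⟨i.1 ⊓ j.1, hinf i j⟩
    have hli : l ≤ i := inf_le_left (b := j.1)
    have hlj : l ≤ j := inf_le_right (a := i.1)
    have hxi : π i xi ∈ l.1 := by
      refine ⟨((E i).str.base xi).2, ?_⟩
      have e1 := hπ (leOfHom fi) xi
      have e2 := hπ (leOfHom fj) xj
      have : π i xi = π j xj := e1.symm.trans ((congrArg (π k) h).trans e2)
      rw [this]
      exact ((E j).str.base xj).2
    obtain ⟨xl, hxl⟩ := (hmr hli).ge hxi
    refine ⟨l, homOfLE hli, homOfLE hlj, xl, hxl, ?_⟩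
    apply (hmo (leOfHom fj)).base_open.injective
    refine Eq.trans ?_ h
    rw [← hxl]
    change (F.map (homOfLE hlj) ≫ F.map fj).base xl = (F.map (homOfLE hli) ≫ F.map fi).base xl
    rw [← F.map_comp, ← F.map_comp]⟩
  let str : colimit F ⟶ S := colimit.desc F
    ⟨S, { app := fun i => (E i).str ≫ i.1.ι
          naturality := fun i j f => by simp [F, reassoc_of% (hms (leOfHom f))] }⟩
  have hstr : ∀ i, colimit.ι F i ≫ str = (E i).str ≫ i.1.ι := fun i => colimit.ι_desc _ _
  choose Vs hVs hEs using hcov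
  let idx : S → J := fun s => ⟨Vs s, hEs s⟩
  let sn := pullback.snd (D.obj.hom ≫ p) (𝟙 S)
  let O : J → (pullback (D.obj.hom ≫ p) (𝟙 S)).Opens := fun i => sn ⁻¹ᵁ i.1
  have hO : IsOpenCover O := IsOpenCover.mk (eq_top_iff.2 fun x _ =>
    Opens.mem_iSup.2 ⟨idx (sn.base x), hVs _⟩)
  let e : ∀ i : J, (O i).toScheme ⟶ pullback (D.obj.hom ≫ p) i.1.ι := fun i =>
    pullback.lift ((O i).ι ≫ pullback.fst _ _) (sn.resLE i.1 (O i) le_rfl) (by
      rw [Scheme.Hom.resLE_comp_ι, Category.assoc, pullback.condition, Category.comp_id])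
  have he1 : ∀ i, e i ≫ pullback.fst _ i.1.ι = (O i).ι ≫ pullback.fst _ _ := fun i =>
    pullback.lift_fst _ _ _
  have he2 : ∀ i, e i ≫ pullback.snd _ i.1.ι = sn.resLE i.1 (O i) le_rfl := fun i =>
    pullback.lift_snd _ _ _
  have hcompat : ∀ (i j : J) {W : Scheme.{u}} (a : W ⟶ (O i).toScheme) (b : W ⟶ (O j).toScheme),
      a ≫ (O i).ι = b ≫ (O j).ι →
      a ≫ e i ≫ (E i).q ≫ colimit.ι F i = b ≫ e j ≫ (E j).q ≫ colimit.ι F j := by
    intro i j W a b hab
    let l : J := ⟨i.1 ⊓ j.1, hinf i j⟩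
    have hli : l ≤ i := inf_le_left (b := j.1)
    have hlj : l ≤ j := inf_le_right (a := i.1)
    have hr : Set.range (a ≫ (O i).ι ≫ sn).base ⊆ Set.range l.1.ι.base := by
      rintro _ ⟨t, rfl⟩
      rw [Scheme.Opens.range_ι]
      refine ⟨(a.base t).2, ?_⟩
      rw [reassoc_of% hab]
      exact (b.base t).2
    let c₂ := IsOpenImmersion.lift l.1.ι (a ≫ (O i).ι ≫ sn) hr
    have hc₂ : c₂ ≫ l.1.ι = a ≫ (O i).ι ≫ sn := IsOpenImmersion.lift_fac _ _ _
    let c : W ⟶ pullback (D.obj.hom ≫ p) l.1.ι :=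
      pullback.lift (a ≫ (O i).ι ≫ pullback.fst _ _) c₂ (by
        rw [hc₂]; simp only [sn, Category.assoc, pullback.condition, Category.comp_id])
    have hci : c ≫ Eff.bcMap (D := D) (S.homOfLE hli) l.1.ι (S.homOfLE_ι hli) = a ≫ e i := by
      apply pullback.hom_ext
      · simp only [c, Category.assoc, Eff.bcMap_fst, pullback.lift_fst, he1]
      · rw [← cancel_mono i.1.ι]
        simp only [c, Category.assoc, reassoc_of% Eff.bcMap_snd, pullback.lift_snd_assoc,
          Scheme.homOfLE_ι, hc₂, reassoc_of% (he2 i), Scheme.Hom.resLE_comp_ι]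
    have hcj : c ≫ Eff.bcMap (D := D) (S.homOfLE hlj) l.1.ι (S.homOfLE_ι hlj) = b ≫ e j := by
      apply pullback.hom_ext
      · simp only [c, Category.assoc, Eff.bcMap_fst, pullback.lift_fst, he1, reassoc_of% hab]
      · rw [← cancel_mono j.1.ι]
        simp only [c, Category.assoc, reassoc_of% Eff.bcMap_snd, pullback.lift_snd_assoc,
          Scheme.homOfLE_ι, hc₂, reassoc_of% (he2 j), Scheme.Hom.resLE_comp_ι, reassoc_of% hab]
    have h1 := colimit.w F (homOfLE hli)
    have h2 := colimit.w F (homOfLE hlj)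
    rw [← reassoc_of% hci, ← reassoc_of% hcj, ← reassoc_of% (hmq hli), ← reassoc_of% (hmq hlj)]
    exact (congrArg (fun f => c ≫ (E l).q ≫ f) h1).trans
      (congrArg (fun f => c ≫ (E l).q ≫ f) h2).symm
  let 𝒰 := (pullback (D.obj.hom ≫ p) (𝟙 S)).openCoverOfIsOpenCover O hO
  let q : pullback (D.obj.hom ≫ p) (𝟙 S) ⟶ colimit F :=
    𝒰.glueMorphisms (fun i => e i ≫ (E i).q ≫ colimit.ι F i)
      (fun i j => hcompat i j _ _ pullback.condition)
  have hq : ∀ i : J, (O i).ι ≫ q = e i ≫ (E i).q ≫ colimit.ι F i := fun i =>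
    𝒰.ι_glueMorphisms _ _ i
  have hqs : q ≫ str = sn := by
    refine Scheme.Cover.hom_ext 𝒰 _ _ fun i => ?_
    change (O i).ι ≫ q ≫ str = (O i).ι ≫ sn
    rw [reassoc_of% (hq i), hstr, reassoc_of% (E i).q_str, reassoc_of% (he2 i),
      Scheme.Hom.resLE_comp_ι]
  have hrange : ∀ i : J, (colimit.ι F i).opensRange = str ⁻¹ᵁ i.1 := by
    intro i
    refine TopologicalSpace.Opens.ext (Set.ext fun u => ⟨?_, fun hu => ?_⟩)
    · rintro ⟨x, rfl⟩
      change (colimit.ι F i ≫ str).base x ∈ i.1
      rw [hstr]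
      exact ((E i).str.base x).2
    · obtain ⟨k, xk, rfl⟩ := Scheme.IsLocallyDirected.ι_jointly_surjective F u
      have hk : π k xk ∈ i.1 := by
        have : (colimit.ι F k ≫ str).base xk = π k xk := by rw [hstr]; rfl
        rw [← this]
        exact hu
      let l : J := ⟨i.1 ⊓ k.1, hinf i k⟩
      have hlk : l ≤ k := inf_le_right (a := i.1)
      have hli : l ≤ i := inf_le_left (b := k.1)
      obtain ⟨xl, hxl⟩ := (hmr hlk).ge (show π k xk ∈ l.1 from ⟨hk, ((E k).str.base xk).2⟩)
      refine ⟨(m hli).base xl, ?_⟩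
      rw [← hxl, ← Scheme.Hom.comp_apply, ← Scheme.Hom.comp_apply]
      exact congrArg (fun f => f.base xl)
        ((colimit.w F (homOfLE hli)).trans (colimit.w F (homOfLE hlk)).symm)
  refine ⟨{ base := colimit F, str := str, etale := ?_, q := q, q_str := hqs,
            isPullback := ?_, compat := ?_ }⟩
  · refine (IsZariskiLocalAtSource.iff_of_openCover (P := @Etale)
      (Scheme.IsLocallyDirected.openCover F)).2 fun i => ?_
    change Etale (colimit.ι F i ≫ str)
    rw [hstr]
    infer_instance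
  · rw [Category.comp_id]
    refine Scheme.isPullback_of_openCover _ _ _ _ (Scheme.IsLocallyDirected.openCover F)
      fun i => ?_
    have hpre : q ⁻¹ᵁ (colimit.ι F i).opensRange = O i := by
      rw [hrange, ← Scheme.Hom.comp_preimage, hqs]
    have hei : IsIso (e i) := by
      have hl : IsPullback (sn.resLE i.1 (O i) le_rfl) (O i).ι i.1.ι sn :=
        IsOpenImmersion.isPullback _ _ _ _ (Scheme.Hom.resLE_comp_ι _ _).symm
          (by rw [Scheme.Opens.opensRange_ι, Scheme.Opens.opensRange_ι])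
      have h2 := hl.flip.paste_horiz (IsPullback.of_hasPullback (D.obj.hom ≫ p) (𝟙 S))
      rw [Category.comp_id] at h2
      have : e i = h2.isoPullback.hom := by
        apply pullback.hom_ext
        · simp [e]
        · simp [e]
      rw [this]
      exact h2.isoPullback.isIso_hom
    have h1 : IsPullback (e i ≫ (E i).q) (O i).ι (colimit.ι F i) q :=
      IsOpenImmersion.isPullback _ _ _ _ ((hq i).trans (Category.assoc _ _ _).symm)
        (hpre.trans (Scheme.Opens.opensRange_ι (O i)).symm)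
    let ei := h1.flip.isoPullback
    refine IsPullback.of_iso (E i).isPullback ((asIso (e i)).symm ≪≫ ei) (Iso.refl _) (Iso.refl _)
      (Iso.refl _) ?_ ?_ ?_ ?_
    · simp only [Iso.refl_hom, Category.comp_id, Iso.trans_hom, Iso.symm_hom, asIso_inv,
        Category.assoc]
      change _ = inv (e i) ≫ ei.hom ≫ pullback.snd q _
      rw [h1.flip.isoPullback_hom_snd, IsIso.inv_hom_id_assoc]
    · simp only [Iso.refl_hom, Category.comp_id, Iso.trans_hom, Iso.symm_hom, asIso_inv,
        Category.assoc]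
      change _ = inv (e i) ≫ ei.hom ≫ pullback.fst q _ ≫ pullback.fst _ _ ≫ D.obj.hom
      rw [h1.flip.isoPullback_hom_fst_assoc, ← Category.assoc (O i).ι, ← he1, Category.assoc,
        IsIso.inv_hom_id_assoc]
    · simp only [Iso.refl_hom, Category.comp_id, Category.id_comp]
      exact (hstr i).symm
    · simp
  · intro W a b hr hs
    let A := fun i : J => (a ≫ sn) ⁻¹ᵁ i.1
    have hA : IsOpenCover A := IsOpenCover.mk (eq_top_iff.2 fun t _ =>
      Opens.mem_iSup.2 ⟨idx _, hVs ((a ≫ sn).base t)⟩)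
    refine Scheme.Cover.hom_ext (W.openCoverOfIsOpenCover A hA) _ _ ?_
    intro (i : J)
    change (A i).ι ≫ a ≫ q = (A i).ι ≫ b ≫ q
    have hb : A i ≤ b ⁻¹ᵁ O i := by
      intro t ht
      change (b ≫ sn).base t ∈ i.1
      rw [← hs]
      exact ht
    have ha : A i ≤ a ⁻¹ᵁ O i := le_rfl
    let a' := a.resLE (O i) (A i) ha
    let b' := b.resLE (O i) (A i) hb
    have ha' : a' ≫ (O i).ι = (A i).ι ≫ a := Scheme.Hom.resLE_comp_ι _ _
    have hb' : b' ≫ (O i).ι = (A i).ι ≫ b := Scheme.Hom.resLE_comp_ι _ _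
    rw [← reassoc_of% ha', ← reassoc_of% hb', hq]
    have := (E i).compat (a' ≫ e i) (b' ≫ e i) ?_ ?_
    · simpa only [Category.assoc] using congrArg (· ≫ colimit.ι F i) this
    · simp only [Category.assoc, he1, reassoc_of% ha', reassoc_of% hb']
      exact rel_comp _ hr
    · rw [Category.assoc, Category.assoc, he2, ← cancel_mono i.1.ι]
      simp only [Category.assoc, Scheme.Hom.resLE_comp_ι, reassoc_of% ha', reassoc_of% hb']
      rw [hs]

end Groth.Agent.SGA1Desc
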