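import Mathlib
import Groth.Prelude.Def_DescFam
import Groth.Agent.SGA1Desc.Etale

/-!
# `Eff` and effectiveness of descent data for one-member families
-/

set_option autoImplicit false
set_option linter.style.haveILetI false
set_option backward.isDefEq.respectTransparency false

universe w u

open CategoryTheory CategoryTheory.Limits AlgebraicGeometry Topology TopologicalSpace

namespace Groth.Agent.SGA1Desc

variable {S S' : Scheme.{u}} {g : S' ⟶ S}

/-- A map identifying related points, obtained from an isomorphism with a canonical datum. -/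
theorem exists_of_iso {D : Desc.SchDD g} {U : Over S} (e : (Desc.toDD g).obj U ≅ D) :
    ∃ q : D.obj.left ⟶ U.left, IsPullback q D.obj.hom U.hom g ∧
      ∀ ⦃T : Scheme.{u}⦄ (a b : T ⟶ D.obj.left), Rel D a b → a ≫ q = b ≫ q := by
  let i : D.obj.left ⟶ pullback g U.hom := e.inv.hom.left
  have h1 : i ≫ e.hom.hom.left = 𝟙 _ := congrArg (fun k => k.hom.left) e.inv_hom_id
  have h2 : e.hom.hom.left ≫ i = 𝟙 _ := congrArg (fun k => k.hom.left) e.hom_inv_id
  haveI : IsIso i := ⟨e.hom.hom.left, h1, h2⟩
  have hw : i ≫ pullback.fst g U.hom = D.obj.hom := Over.w e.inv.hom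
  refine ⟨i ≫ pullback.snd g U.hom, ?_, fun T a b hab => ?_⟩
  · exact IsPullback.of_iso (IsPullback.of_hasPullback g U.hom).flip (asIso i).symm (Iso.refl _)
      (Iso.refl _) (Iso.refl _) (by simp) (by simp [← hw]) (by simp) (by simp)
  · obtain ⟨h, hb⟩ := hab
    have := e.inv.comm _ _ h ⟨a, rfl⟩ ⟨a ≫ i, by
      rw [Category.assoc]; exact congrArg (a ≫ ·) hw⟩ rfl
    rw [hb] at this
    have h3 : ((a ≫ i) ≫ pullback.snd g U.hom) = (b ≫ i) ≫ pullback.snd g U.hom := by
      refine Eq.trans ?_ (congrArg (fun k => k ≫ pullback.snd g U.hom) this)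
      exact (pullback.lift_snd _ _ _).symm
    simpa only [Category.assoc] using h3

variable (D : Desc.SchDDFam (fun _ : PUnit.{w + 1} => g)) {T : Scheme.{u}} (j : T ⟶ S)

/-- The base change of a one-member family datum as a datum relative to `pullback.snd g j`. -/
noncomputable abbrev pullOne : Desc.SchDD (pullback.snd g j) :=
  (Desc.SchDDFam.toSchDD (pullback.snd g j)).obj
    ((Desc.pullDDFam (f := fun _ : PUnit.{w + 1} => g)
      (f' := fun _ : PUnit.{w + 1} => pullback.snd g j)
      (α := id) (p := j) (p' := fun _ => pullback.fst g j) (fun _ => pullback.condition)).obj D)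

variable {D} {j}

theorem rel_pullOne_iff {W : Scheme.{u}}
    (a b : W ⟶ pullback (D.obj PUnit.unit).hom (pullback.fst g j)) :
    Rel (D := pullOne D j) a b ↔
      (a ≫ pullback.snd _ _ ≫ pullback.snd g j = b ≫ pullback.snd _ _ ≫ pullback.snd g j ∧
        Rel (D := (Desc.SchDDFam.toSchDD g).obj D) (a ≫ pullback.fst _ _) (b ≫ pullback.fst _ _)) := by
  constructor
  · intro ⟨h, hb⟩
    refine ⟨((Category.assoc _ _ _).symm.trans h).trans (Category.assoc _ _ _), ?_⟩
    have h2 := congrArg (· ≫ pullback.fst (D.obj PUnit.unit).hom (pullback.fst g j)) hb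
    change pullback.lift _ _ _ ≫ _ = _ at h2
    rw [pullback.lift_fst] at h2
    rw [← h2]
    exact rel_of_phi (D := (Desc.SchDDFam.toSchDD g).obj D) _ _ _
      ⟨a ≫ pullback.fst (D.obj PUnit.unit).hom (pullback.fst g j), _⟩
  · intro ⟨h, hr⟩
    refine ⟨((Category.assoc _ _ _).trans h).trans (Category.assoc _ _ _).symm, ?_⟩
    change pullback.lift _ _ _ = b
    apply pullback.hom_ext
    · rw [pullback.lift_fst]
      refine phi_eq_of_rel (D := (Desc.SchDDFam.toSchDD g).obj D) hr _ _ _ _ ?_
      change (b ≫ pullback.fst (D.obj PUnit.unit).hom (pullback.fst g j)) ≫ (D.obj PUnit.unit).hom =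
        (b ≫ pullback.snd _ _) ≫ pullback.fst g j
      simp only [Category.assoc, pullback.condition]
    · rw [pullback.lift_snd]
      rfl

/-- Étale effectiveness of the base change along `j` with a further property of the structure
map, in terms of `Eff`. -/
theorem eff_iff' (P : ∀ {U : Scheme.{u}}, (U ⟶ T) → Prop) : (∃ U : Over T, Etale U.hom ∧ P U.hom ∧
      Nonempty ((Desc.toDDFam (fun _ : PUnit.{w + 1} => pullback.snd g j)).obj U ≅
        (Desc.pullDDFam (f := fun _ : PUnit.{w + 1} => g)
          (f' := fun _ : PUnit.{w + 1} => pullback.snd g j)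
          (α := id) (p := j) (p' := fun _ => pullback.fst g j) (fun _ => pullback.condition)).obj D)) ↔
    ∃ E : Eff ((Desc.SchDDFam.toSchDD g).obj D) j, P E.str := by
  let z : (D.obj PUnit.unit).left ⟶ S' := (D.obj PUnit.unit).hom
  let m : pullback z (pullback.fst g j) ⟶ pullback (z ≫ g) j :=
    pullback.lift (pullback.fst _ _) (pullback.snd _ _ ≫ pullback.snd g j) (by
      rw [pullback.condition_assoc, Category.assoc, pullback.condition])
  let m' : pullback (z ≫ g) j ⟶ pullback z (pullback.fst g j) :=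
    pullback.lift (pullback.fst _ _) (pullback.lift (pullback.fst _ _ ≫ z) (pullback.snd _ _) (by
      rw [Category.assoc, pullback.condition])) (by rw [pullback.lift_fst])
  have hm1 : m ≫ pullback.fst (z ≫ g) j = pullback.fst _ _ := pullback.lift_fst _ _ _
  have hm2 : m ≫ pullback.snd (z ≫ g) j = pullback.snd _ _ ≫ pullback.snd g j :=
    pullback.lift_snd _ _ _
  have hm'1 : m' ≫ pullback.fst z (pullback.fst g j) = pullback.fst _ _ := pullback.lift_fst _ _ _
  have hm'2 : m' ≫ pullback.snd z (pullback.fst g j) ≫ pullback.snd g j = pullback.snd _ _ := by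
    simp [m']
  have hm'3 : m' ≫ pullback.snd z (pullback.fst g j) ≫ pullback.fst g j =
      pullback.fst _ _ ≫ z := by simp [m']
  have e1 : m ≫ m' = 𝟙 _ := by
    apply pullback.hom_ext
    · rw [Category.assoc, hm'1, hm1, Category.id_comp]
    · apply pullback.hom_ext
      · simp only [Category.assoc, hm'3, Category.id_comp]
        rw [reassoc_of% hm1, pullback.condition]
      · simp only [Category.assoc, hm'2, hm2, Category.id_comp]
  have e2 : m' ≫ m = 𝟙 _ := by
    apply pullback.hom_ext
    · rw [Category.assoc, hm1, hm'1, Category.id_comp]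
    · rw [Category.assoc, hm2, hm'2, Category.id_comp]
  let e : pullback (z ≫ g) j ≅ pullback z (pullback.fst g j) := ⟨m', m, e2, e1⟩
  constructor
  · rintro ⟨U, hU, hP, ⟨i⟩⟩
    obtain ⟨q, hsq, hq⟩ := exists_of_iso (g := pullback.snd g j) (D := pullOne D j)
      ((Desc.SchDDFam.toSchDD (pullback.snd g j)).mapIso i)
    have hsq' : IsPullback q (pullback.snd z (pullback.fst g j)) U.hom (pullback.snd g j) := hsq
    refine ⟨{ base := U.left, str := U.hom, etale := hU, q := m' ≫ q, q_str := ?_,
              isPullback := ?_, compat := fun W a b hr hs => ?_ }, hP⟩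
    · change (m' ≫ q) ≫ U.hom = pullback.snd (z ≫ g) j
      rw [Category.assoc, hsq'.w, hm'2]
    · have h2 := hsq'.paste_vert (IsPullback.of_hasPullback g j).flip
      refine IsPullback.of_iso h2 e.symm (Iso.refl _) (Iso.refl _) (Iso.refl _) ?_ ?_ ?_ ?_
      · simp only [Iso.refl_hom, Category.comp_id, Iso.symm_hom]
        change q = m ≫ m' ≫ q
        rw [reassoc_of% e1]
      · simp only [Iso.refl_hom, Category.comp_id, Iso.symm_hom]
        change _ = m ≫ pullback.fst (z ≫ g) j ≫ z
        rw [reassoc_of% hm1, pullback.condition]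
      · simp only [Iso.refl_hom, Category.comp_id, Category.id_comp]
      · simp
    · simp only [← Category.assoc]
      refine hq _ _ ((rel_pullOne_iff (a ≫ m') (b ≫ m')).2 ⟨?_, ?_⟩)
      · simp only [Category.assoc, z, hm'2]
        exact hs
      · simp only [Category.assoc, z, hm'1]
        exact hr
  · rintro ⟨E, hE⟩
    have h0 : IsPullback (m ≫ E.q) (pullback.snd z (pullback.fst g j) ≫ pullback.fst g j)
        (E.str ≫ j) g := by
      refine IsPullback.of_iso E.isPullback e (Iso.refl _) (Iso.refl _) (Iso.refl _) ?_ ?_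
        (by simp) (by simp)
      · simp only [Iso.refl_hom, Category.comp_id]
        change E.q = m' ≫ m ≫ E.q
        rw [reassoc_of% e2]
      · simp only [Iso.refl_hom, Category.comp_id]
        change _ = m' ≫ pullback.snd z _ ≫ pullback.fst g j
        rw [hm'3]
        rfl
    have h1 : IsPullback (m ≫ E.q) (pullback.snd z (pullback.fst g j)) E.str (pullback.snd g j) :=
      IsPullback.of_bot h0 (by
        rw [Category.assoc]
        refine (congrArg (m ≫ ·) E.q_str).trans ?_
        exact hm2) (IsPullback.of_hasPullback g j).flip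
    obtain ⟨i⟩ := effective_of_isPullback (D := pullOne D j) (U := Over.mk E.str) (m ≫ E.q) h1
      fun W a b hab => by
        obtain ⟨hp, hr⟩ := (rel_pullOne_iff a b).1 hab
        simp only [← Category.assoc]
        refine E.compat (a ≫ m) (b ≫ m) ?_ ?_
        · refine (congrArg₂ (Rel (D := (Desc.SchDDFam.toSchDD g).obj D)) ?_ ?_).mpr hr
          · rw [Category.assoc]; exact congrArg (a ≫ ·) hm1
          · rw [Category.assoc]; exact congrArg (b ≫ ·) hm1
        · rw [Category.assoc, Category.assoc]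
          exact (congrArg (a ≫ ·) hm2).trans (hp.trans (congrArg (b ≫ ·) hm2).symm)
    exact ⟨Over.mk E.str, E.etale, hE,
      ⟨(Desc.SchDDFam.oneEquiv (pullback.snd g j)).functor.preimageIso i⟩⟩

/-- Étale effectiveness of the base change along `j`, in terms of `Eff`. -/
theorem eff_iff : (∃ U : Over T, Etale U.hom ∧
      Nonempty ((Desc.toDDFam (fun _ : PUnit.{w + 1} => pullback.snd g j)).obj U ≅
        (Desc.pullDDFam (f := fun _ : PUnit.{w + 1} => g)
          (f' := fun _ : PUnit.{w + 1} => pullback.snd g j)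
          (α := id) (p := j) (p' := fun _ => pullback.fst g j) (fun _ => pullback.condition)).obj D)) ↔
    Nonempty (Eff ((Desc.SchDDFam.toSchDD g).obj D) j) := by
  have := eff_iff' (D := D) (j := j) (fun {_} _ => True)
  constructor
  · rintro ⟨U, hU, hi⟩
    obtain ⟨E, -⟩ := this.1 ⟨U, hU, trivial, hi⟩
    exact ⟨E⟩
  · rintro ⟨E⟩
    obtain ⟨U, hU, -, hi⟩ := this.2 ⟨E, trivial⟩
    exact ⟨U, hU, hi⟩

variable (D) in
/-- Étale effectiveness, in terms of `Eff`. -/
theorem eff_id_iff' (P : ∀ {U : Scheme.{u}}, (U ⟶ S) → Prop) : (∃ U : Over S, Etale U.hom ∧ P U.hom ∧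
      Nonempty ((Desc.toDDFam (fun _ : PUnit.{w + 1} => g)).obj U ≅ D)) ↔
    ∃ E : Eff ((Desc.SchDDFam.toSchDD g).obj D) (𝟙 S), P E.str := by
  let D₀ : Desc.SchDD g := (Desc.SchDDFam.toSchDD g).obj D
  let π := pullback.fst (D₀.obj.hom ≫ g) (𝟙 S)
  haveI : IsIso π := inferInstanceAs (IsIso (pullback.fst (D₀.obj.hom ≫ g) (𝟙 S)))
  have hπ : π ≫ D₀.obj.hom ≫ g = pullback.snd _ _ := pullback.condition.trans (Category.comp_id _)
  constructor
  · rintro ⟨U, hU, hP, ⟨i⟩⟩
    obtain ⟨q, hsq, hq⟩ := exists_of_iso (g := g) (D := D₀)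
      ((Desc.SchDDFam.toSchDD g).mapIso i)
    refine ⟨{ base := U.left, str := U.hom, etale := hU, q := π ≫ q, q_str := ?_,
              isPullback := ?_, compat := fun W a b hr _ => ?_ }, hP⟩
    · change (π ≫ q) ≫ U.hom = _
      rw [Category.assoc, hsq.w]
      exact hπ
    · rw [Category.comp_id]
      exact IsPullback.of_iso hsq (asIso π).symm (Iso.refl _) (Iso.refl _) (Iso.refl _)
        (by simp) (by
          simp only [Iso.refl_hom, Category.comp_id, Iso.symm_hom, asIso_inv]
          exact (IsIso.inv_hom_id_assoc π D₀.obj.hom).symm) (by simp) (by simp)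
    · simp only [← Category.assoc]
      exact hq _ _ hr
  · rintro ⟨E, hE⟩
    have hsq : IsPullback (inv π ≫ E.q) D₀.obj.hom E.str g := by
      have := E.isPullback
      rw [Category.comp_id] at this
      exact IsPullback.of_iso this (asIso π) (Iso.refl _) (Iso.refl _) (Iso.refl _)
        (by simp) (by simp [π]; rfl) (by simp) (by simp)
    obtain ⟨i⟩ := effective_of_isPullback (D := D₀) (U := Over.mk E.str) (inv π ≫ E.q) hsq
      fun W a b hab => by
        simp only [← Category.assoc]
        refine E.compat _ _ (by simpa [π] using hab) ?_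
        have h3 : ∀ c : W ⟶ D₀.obj.left, (c ≫ inv π) ≫ pullback.snd (D₀.obj.hom ≫ g) (𝟙 S) =
            (c ≫ D₀.obj.hom) ≫ g := fun c => by
          rw [← hπ]; simp
        exact (h3 a).trans (hab.1.trans (h3 b).symm)
    exact ⟨Over.mk E.str, E.etale, hE, ⟨(Desc.SchDDFam.oneEquiv g).functor.preimageIso i⟩⟩

variable (D) in
/-- Étale effectiveness, in terms of `Eff`. -/
theorem eff_id_iff : (∃ U : Over S, Etale U.hom ∧
      Nonempty ((Desc.toDDFam (fun _ : PUnit.{w + 1} => g)).obj U ≅ D)) ↔
    Nonempty (Eff ((Desc.SchDDFam.toSchDD g).obj D) (𝟙 S)) := by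
  have := eff_id_iff' D (fun {_} _ => True)
  constructor
  · rintro ⟨U, hU, hi⟩
    obtain ⟨E, -⟩ := this.1 ⟨U, hU, trivial, hi⟩
    exact ⟨E⟩
  · rintro ⟨E⟩
    obtain ⟨U, hU, -, hi⟩ := this.2 ⟨E, trivial⟩
    exact ⟨U, hU, hi⟩

end Groth.Agent.SGA1Desc
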