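import Mathlib
import Groth.Agent.SGA1Desc.Glue

/-!
# Reduction of effective descent to an affine base and an affine cover
-/

set_option autoImplicit false
set_option linter.style.haveILetI false
set_option maxHeartbeats 400000
set_option backward.isDefEq.respectTransparency false

universe u

open CategoryTheory CategoryTheory.Limits AlgebraicGeometry Topology TopologicalSpace

namespace Groth.Agent.SGA1Desc

variable {X S : Scheme.{u}} {p : X ⟶ S} (D : Desc.SchDD p)

section Pull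

variable {X'' S'' : Scheme.{u}} (p'' : X'' ⟶ S'') (c : X'' ⟶ X) (j : S'' ⟶ S)
  (w : c ≫ p = p'' ≫ j)

/-- The image of a point of the pulled back datum under the gluing. -/
noncomputable def pullMap {T : Scheme.{u}} (x₀ x₁ : T ⟶ X'') (h : x₀ ≫ p'' = x₁ ≫ p'')
    (v : Desc.Lifts (Over.mk (pullback.snd D.obj.hom c)) x₀) :
    Desc.Lifts (Over.mk (pullback.snd D.obj.hom c)) x₁ :=
  ⟨pullback.lift (D.φ (x₀ ≫ c) (x₁ ≫ c)
      (by simp only [Category.assoc, w, reassoc_of% h])
      ⟨v.1 ≫ pullback.fst D.obj.hom c, by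
        rw [Category.assoc, pullback.condition, ← Category.assoc]
        exact congrArg (· ≫ c) v.2⟩).1 x₁ (D.φ _ _ _ _).2,
    pullback.lift_snd _ _ _⟩

theorem pullMap_rel {T : Scheme.{u}} (x₀ x₁ : T ⟶ X'') (h : x₀ ≫ p'' = x₁ ≫ p'')
    (v : Desc.Lifts (Over.mk (pullback.snd D.obj.hom c)) x₀) :
    Rel D (v.1 ≫ pullback.fst D.obj.hom c)
      ((pullMap D p'' c j w x₀ x₁ h v).1 ≫ pullback.fst D.obj.hom c) := by
  have e : (pullMap D p'' c j w x₀ x₁ h v).1 ≫ pullback.fst D.obj.hom c = _ :=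
    pullback.lift_fst _ _ _
  rw [e]
  exact rel_of_phi _ _ _ ⟨v.1 ≫ pullback.fst D.obj.hom c, _⟩

variable {D} in
theorem pullMap_eq {T : Scheme.{u}} (x₀ x₁ : T ⟶ X'') (h : x₀ ≫ p'' = x₁ ≫ p'')
    (v : Desc.Lifts (Over.mk (pullback.snd D.obj.hom c)) x₀)
    (v' : Desc.Lifts (Over.mk (pullback.snd D.obj.hom c)) x₁)
    (hr : Rel D (v.1 ≫ pullback.fst D.obj.hom c) (v'.1 ≫ pullback.fst D.obj.hom c)) :
    pullMap D p'' c j w x₀ x₁ h v = v' := by
  have h2 : v'.1 ≫ pullback.snd D.obj.hom c = x₁ := v'.2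
  have h3 : (pullMap D p'' c j w x₀ x₁ h v).1 ≫ pullback.snd D.obj.hom c = x₁ :=
    (pullMap D p'' c j w x₀ x₁ h v).2
  refine Subtype.ext (pullback.hom_ext ?_ (h3.trans h2.symm))
  refine rel_unique (pullMap_rel D p'' c j w x₀ x₁ h v) hr ?_
  simp only [Category.assoc, pullback.condition, reassoc_of% h2, reassoc_of% h3]

/-- The descent datum pulled back along a morphism of covers. -/
noncomputable def pullDatum : Desc.SchDD p'' where
  obj := Over.mk (pullback.snd D.obj.hom c)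
  φ T x₀ x₁ h :=
    { toFun := pullMap D p'' c j w x₀ x₁ h
      invFun := pullMap D p'' c j w x₁ x₀ h.symm
      left_inv := fun v => pullMap_eq p'' c j w _ _ _ _ _
        (rel_symm (pullMap_rel D p'' c j w x₀ x₁ h v))
      right_inv := fun v => pullMap_eq p'' c j w _ _ _ _ _
        (rel_symm (pullMap_rel D p'' c j w x₁ x₀ h.symm v)) }
  φ_natural T T' g x₀ x₁ h h' v v' hv := by
    have e := pullMap_eq p'' c j w (g ≫ x₀) (g ≫ x₁) h' v'
      ⟨g ≫ (pullMap D p'' c j w x₀ x₁ h v).1, by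
        rw [Category.assoc, (pullMap D p'' c j w x₀ x₁ h v).2]⟩ (by
          rw [hv, Category.assoc, Category.assoc]
          exact rel_comp g (pullMap_rel D p'' c j w x₀ x₁ h v))
    exact congrArg Subtype.val e
  φ_self T x v := pullMap_eq p'' c j w x x rfl v v (rel_refl _)
  φ_comp T x₀ x₁ x₂ h₀₁ h₁₂ v := (pullMap_eq p'' c j w x₀ x₂ (h₀₁.trans h₁₂) v
    (pullMap D p'' c j w x₁ x₂ h₁₂ (pullMap D p'' c j w x₀ x₁ h₀₁ v))
    (rel_trans (pullMap_rel D p'' c j w x₀ x₁ h₀₁ v)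
      (pullMap_rel D p'' c j w x₁ x₂ h₁₂ (pullMap D p'' c j w x₀ x₁ h₀₁ v)))).symm

variable {D} in
theorem rel_pullDatum {T : Scheme.{u}} {a b : T ⟶ (pullDatum D p'' c j w).obj.left}
    (h : Rel (pullDatum D p'' c j w) a b) :
    Rel D (a ≫ pullback.fst D.obj.hom c) (b ≫ pullback.fst D.obj.hom c) := by
  obtain ⟨hp, hb⟩ := h
  have := pullMap_rel D p'' c j w _ _ hp ⟨a, rfl⟩
  change Rel D _ (_ ≫ _) at this
  rwa [show (pullMap D p'' c j w _ _ hp ⟨a, rfl⟩).1 = b from hb] at this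

variable {D} in
theorem pullDatum_rel {T : Scheme.{u}} {a b : T ⟶ (pullDatum D p'' c j w).obj.left}
    (hp : (a ≫ pullback.snd D.obj.hom c) ≫ p'' = (b ≫ pullback.snd D.obj.hom c) ≫ p'')
    (hr : Rel D (a ≫ pullback.fst D.obj.hom c) (b ≫ pullback.fst D.obj.hom c)) :
    Rel (pullDatum D p'' c j w) a b :=
  ⟨hp, congrArg Subtype.val (pullMap_eq p'' c j w _ _ hp ⟨a, rfl⟩ ⟨b, rfl⟩ hr)⟩

variable {D} in
theorem pullDatum_rel' {T : Scheme.{u}} (a b : T ⟶ pullback D.obj.hom c)
    (hp : (a ≫ pullback.snd D.obj.hom c) ≫ p'' = (b ≫ pullback.snd D.obj.hom c) ≫ p'')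
    (hr : Rel D (a ≫ pullback.fst D.obj.hom c) (b ≫ pullback.fst D.obj.hom c)) :
    Rel (D := pullDatum D p'' c j w) a b :=
  pullDatum_rel p'' c j w hp hr

end Pull

/-- A piece over the whole total scheme, as a map out of it. -/
theorem Piece.exists_total {D : Desc.SchDD p} (P : Piece D ⊤) :
    ∃ q : D.obj.left ⟶ P.base, IsPullback q D.obj.hom P.str p ∧
      ∀ ⦃T : Scheme.{u}⦄ (a b : T ⟶ D.obj.left), Rel D a b → a ≫ q = b ≫ q := by
  haveI : IsIso (⊤ : D.obj.left.Opens).ι := (Scheme.topIso D.obj.left).isIso_hom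
  refine ⟨inv (⊤ : D.obj.left.Opens).ι ≫ P.q, ?_, fun T a b hab => ?_⟩
  · exact IsPullback.of_iso P.isPullback (asIso (⊤ : D.obj.left.Opens).ι) (Iso.refl _) (Iso.refl _)
      (Iso.refl _) (by simp) (by simp) (by simp) (by simp)
  · simp only [← Category.assoc]
    exact P.compat _ _ (by simpa using hab)

/-- Effectiveness after pulling back to a cover of the part over an open of the base. -/
theorem exists_piece_of_cover [Flat p] [Surjective p] [QuasiCompact p] (U₀ : S.Opens)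
    {X'' : Scheme.{u}} (c : X'' ⟶ (p ⁻¹ᵁ U₀).toScheme) [Flat c] [Surjective c]
    [LocallyOfFinitePresentation c]
    (h : Nonempty (Piece (pullDatum D (c ≫ p ∣_ U₀) (c ≫ (p ⁻¹ᵁ U₀).ι) U₀.ι
      (by simp [morphismRestrict_ι])) ⊤)) :
    Nonempty (Piece D ((D.obj.hom ≫ p) ⁻¹ᵁ U₀)) := by
  obtain ⟨P⟩ := h
  let W : D.obj.left.Opens := (D.obj.hom ≫ p) ⁻¹ᵁ U₀
  let c' := c ≫ (p ⁻¹ᵁ U₀).ι
  let fs := pullback.fst D.obj.hom c'
  let sn := pullback.snd D.obj.hom c'
  have hst : Stable D W := fun T a b hab t ht => by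
    change ((b ≫ D.obj.hom) ≫ p).base t ∈ U₀
    rw [← hab.1]
    exact ht
  let zW : W.toScheme ⟶ (p ⁻¹ᵁ U₀).toScheme := D.obj.hom.resLE (p ⁻¹ᵁ U₀) W le_rfl
  have hzW : zW ≫ (p ⁻¹ᵁ U₀).ι = W.ι ≫ D.obj.hom := Scheme.Hom.resLE_comp_ι _ _
  have hfsr : Set.range fs.base ⊆ Set.range W.ι.base := by
    rintro _ ⟨t, rfl⟩
    rw [Scheme.Opens.range_ι]
    change (p.base ((fs ≫ D.obj.hom).base t)) ∈ U₀
    rw [pullback.condition]
    exact ((sn ≫ c).base t).2
  let e : pullback D.obj.hom c' ⟶ W.toScheme := IsOpenImmersion.lift W.ι fs hfsr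
  have he : e ≫ W.ι = fs := IsOpenImmersion.lift_fac _ _ _
  have hz : e ≫ zW = sn ≫ c := by
    rw [← cancel_mono (p ⁻¹ᵁ U₀).ι, Category.assoc, hzW, reassoc_of% he, pullback.condition,
      Category.assoc]
  have hleft : IsPullback zW W.ι (p ⁻¹ᵁ U₀).ι D.obj.hom :=
    IsOpenImmersion.isPullback _ _ _ _ hzW.symm
      (by rw [Scheme.Opens.opensRange_ι, Scheme.Opens.opensRange_ι]; rfl)
  have he' : IsPullback e sn zW c := by
    refine IsPullback.of_right ?_ hz hleft.flip
    rw [he]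
    exact IsPullback.of_hasPullback D.obj.hom c'
  haveI : Flat e := MorphismProperty.of_isPullback he'.flip ‹Flat c›
  haveI : Surjective e := MorphismProperty.of_isPullback he'.flip ‹Surjective c›
  haveI : LocallyOfFinitePresentation e :=
    MorphismProperty.of_isPullback he'.flip ‹LocallyOfFinitePresentation c›
  obtain ⟨q'', hsq'', hcompat⟩ : ∃ q'' : pullback D.obj.hom c' ⟶ P.base,
      IsPullback q'' sn P.str (c ≫ p ∣_ U₀) ∧ ∀ ⦃T : Scheme.{u}⦄ (a b : T ⟶ pullback D.obj.hom c'),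
        Rel (D := pullDatum D (c ≫ p ∣_ U₀) c' U₀.ι (by simp [c', morphismRestrict_ι])) a b →
        a ≫ q'' = b ≫ q'' :=
    P.exists_total
  have hcoeq : ∀ {T : Scheme.{u}} (a b : T ⟶ pullback D.obj.hom c'),
      (a ≫ sn) ≫ c ≫ p ∣_ U₀ = (b ≫ sn) ≫ c ≫ p ∣_ U₀ →
      Rel D (a ≫ fs) (b ≫ fs) → a ≫ q'' = b ≫ q'' :=
    fun a b hp hr => hcompat a b (pullDatum_rel' _ _ _ _ a b hp hr)
  let q : W.toScheme ⟶ P.base := EffectiveEpi.desc e q'' fun a b hab => by
    refine hcoeq a b ?_ ?_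
    · simp only [Category.assoc, ← reassoc_of% hz, reassoc_of% hab]
    · rw [← he, reassoc_of% hab]; exact rel_refl _
  have heq : e ≫ q = q'' := EffectiveEpi.fac _ _ _
  have hw : q ≫ P.str = zW ≫ p ∣_ U₀ := by
    rw [← cancel_epi e, reassoc_of% heq, hsq''.w, reassoc_of% hz]
  have hsq : IsPullback q zW P.str (p ∣_ U₀) := by
    let k : W.toScheme ⟶ pullback P.str (p ∣_ U₀) := pullback.lift q zW hw
    let d : pullback D.obj.hom c' ⟶ pullback P.str (c ≫ p ∣_ U₀) := hsq''.isoPullback.hom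
    let g : pullback P.str (c ≫ p ∣_ U₀) ⟶ pullback P.str (p ∣_ U₀) :=
      pullback.map _ _ _ _ (𝟙 _) c (𝟙 _) (by simp) (by simp)
    have hg : IsPullback g (pullback.snd P.str (c ≫ p ∣_ U₀))
        (pullback.snd P.str (p ∣_ U₀)) c := by
      refine IsPullback.of_right (h₁₂ := pullback.fst P.str (p ∣_ U₀)) ?_ (pullback.lift_snd _ _ _)
        (IsPullback.of_hasPullback P.str (p ∣_ U₀))
      rw [pullback.lift_fst, Category.comp_id]
      exact IsPullback.of_hasPullback P.str (c ≫ p ∣_ U₀)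
    have hd : IsPullback e d k g := by
      refine IsPullback.of_bot ?_ ?_ hg
      · simp only [d, k, IsPullback.isoPullback_hom_snd, pullback.lift_snd]
        exact he'
      · apply pullback.hom_ext
        · simp [d, k, g, heq]
        · simp [d, k, g, hz]
    have hg' : (@Surjective ⊓ @Flat ⊓ @LocallyOfFinitePresentation : MorphismProperty Scheme.{u}) g :=
      ⟨⟨MorphismProperty.of_isPullback hg.flip ‹Surjective c›,
        MorphismProperty.of_isPullback hg.flip ‹Flat c›⟩,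
        MorphismProperty.of_isPullback hg.flip ‹LocallyOfFinitePresentation c›⟩
    have hk : MorphismProperty.isomorphisms Scheme k :=
      MorphismProperty.of_isPullback_of_descendsAlong hd.flip hg'
        (show IsIso d from hsq''.isoPullback.isIso_hom)
    haveI : IsIso k := hk
    exact IsPullback.of_iso_pullback ⟨hw⟩ (asIso k) (by simp [k]) (by simp [k])
  refine ⟨{ stable := hst, base := P.base, str := P.str ≫ U₀.ι, q := q,
            isPullback := ?_, compat := ?_ }⟩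
  · have := hsq.paste_vert (isPullback_morphismRestrict p U₀)
    rwa [hzW] at this
  · intro T a b hab
    have hpb : (a ≫ zW) ≫ p ∣_ U₀ = (b ≫ zW) ≫ p ∣_ U₀ := by
      rw [← cancel_mono U₀.ι]
      simp only [Category.assoc, morphismRestrict_ι, reassoc_of% hzW]
      simpa only [Category.assoc] using hab.1
    let f₁ := pullback.fst a e
    let g₁ := pullback.snd a e
    let f₂ := pullback.fst (f₁ ≫ b) e
    let g₂ := pullback.snd (f₁ ≫ b) e
    have e1 : f₁ ≫ a = g₁ ≫ e := pullback.condition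
    have e2 : f₂ ≫ f₁ ≫ b = g₂ ≫ e := pullback.condition
    haveI : Surjective f₁ := MorphismProperty.pullback_fst _ _ ‹Surjective e›
    haveI : Flat f₁ := MorphismProperty.pullback_fst _ _ ‹Flat e›
    haveI : LocallyOfFinitePresentation f₁ :=
      MorphismProperty.pullback_fst _ _ ‹LocallyOfFinitePresentation e›
    haveI : Surjective f₂ := MorphismProperty.pullback_fst _ _ ‹Surjective e›
    haveI : Flat f₂ := MorphismProperty.pullback_fst _ _ ‹Flat e›
    haveI : LocallyOfFinitePresentation f₂ :=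
      MorphismProperty.pullback_fst _ _ ‹LocallyOfFinitePresentation e›
    haveI : Epi (f₂ ≫ f₁) := inferInstance
    rw [← cancel_epi (f₂ ≫ f₁)]
    simp only [Category.assoc]
    rw [reassoc_of% e1, reassoc_of% e2, heq]
    have hA : (f₂ ≫ g₁) ≫ q'' = g₂ ≫ q'' := by
      refine hcoeq _ _ ?_ ?_
      · simp only [Category.assoc, ← reassoc_of% hz]
        rw [← reassoc_of% e1, ← reassoc_of% e2]
        simpa only [Category.assoc] using congrArg (fun m => f₂ ≫ f₁ ≫ m) hpb
      · have := rel_comp (f₂ ≫ f₁) hab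
        simp only [Category.assoc, reassoc_of% e1, reassoc_of% e2] at this ⊢
        rw [← he]
        exact this
    simpa only [Category.assoc] using hA

/-- A descent datum is effective if its pullbacks to affine covers of affine opens of the base
are. -/
theorem effective_of_affine [Flat p] [Surjective p] [QuasiCompact p]
    (h : ∀ {X'' : Scheme.{u}} [IsAffine X''] (U₀ : S.Opens) (_ : IsAffineOpen U₀)
      (c : X'' ⟶ (p ⁻¹ᵁ U₀).toScheme) [Flat c] [Surjective c] [LocallyOfFinitePresentation c],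
      Nonempty (Piece (pullDatum D (c ≫ p ∣_ U₀) (c ≫ (p ⁻¹ᵁ U₀).ι) U₀.ι
        (by simp [morphismRestrict_ι])) ⊤)) :
    ∃ U : Over S, Nonempty ((Desc.toDD p).obj U ≅ D) := by
  refine effective_of_pieces D fun z => ?_
  obtain ⟨U₀, hU₀, hz, -⟩ := exists_isAffineOpen_mem_and_subset
    (x := p.base (D.obj.hom.base z)) (U := ⊤) trivial
  haveI : CompactSpace (p ⁻¹ᵁ U₀ : Scheme.{u}) :=
    isCompact_iff_compactSpace.mp
      (QuasiCompact.isCompact_preimage (f := p) _ U₀.2 hU₀.isCompact)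
  haveI : IsZariskiLocalAtSource (@Etale : MorphismProperty Scheme.{u}) :=
    HasRingHomProperty.instIsZariskiLocalAtSource (Q := RingHom.Etale)
  haveI : MorphismProperty.ContainsIdentities (@Etale : MorphismProperty Scheme.{u}) :=
    ⟨fun X => inferInstanceAs (Etale (𝟙 X))⟩
  obtain ⟨X'', c, hcs, hcf, hX''⟩ :=
    Scheme.exists_hom_isAffine_of_isZariskiLocalAtSource.{u} @Etale (p ⁻¹ᵁ U₀ : Scheme.{u})
  exact ⟨_, hz, exists_piece_of_cover D U₀ c (h U₀ hU₀ c)⟩

end Groth.Agent.SGA1Desc
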