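import Mathlib
import Groth.Agent.SGA1Desc.Reduce
import Groth.Agent.AlgSp.DescentQAffine

/-!
# fpqc descent of quasi-affine schemes over an affine base
-/

set_option autoImplicit false
set_option linter.style.haveILetI false
set_option maxHeartbeats 800000
set_option backward.isDefEq.respectTransparency false

universe u

open CategoryTheory CategoryTheory.Limits AlgebraicGeometry Topology TopologicalSpace
open scoped TensorProduct
open Groth.Agent.AlgSp (isPullback_tensor specMap_algHom_comp exists_hull_baseChange exists_theta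
  theta_unit theta_cocycle exists_descended hull_hom_ext)

namespace Groth.Agent.SGA1Desc

variable {X S : Scheme.{u}} {p : X ⟶ S}

/-- A map out of the total scheme gives a piece over the whole of it. -/
theorem Piece.nonempty_top {D : Desc.SchDD p} {U : Scheme.{u}} (str : U ⟶ S) (q : D.obj.left ⟶ U)
    (hsq : IsPullback q D.obj.hom str p)
    (hq : ∀ ⦃T : Scheme.{u}⦄ (a b : T ⟶ D.obj.left), Rel D a b → a ≫ q = b ≫ q) :
    Nonempty (Piece D ⊤) := by
  refine ⟨{ stable := stable_top, base := U, str := str, q := (⊤ : D.obj.left.Opens).ι ≫ q,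
            isPullback := ?_, compat := fun T a b hab => ?_ }⟩
  · haveI : IsIso (⊤ : D.obj.left.Opens).ι := (Scheme.topIso D.obj.left).isIso_hom
    exact IsPullback.of_iso hsq (asIso (⊤ : D.obj.left.Opens).ι).symm (Iso.refl _) (Iso.refl _)
      (Iso.refl _) (by simp) (by simp) (by simp) (by simp)
  · simp only [← Category.assoc]
    exact hq _ _ hab

/-- Descent of quasi-affine schemes along a faithfully flat map of affine schemes. -/
theorem exists_piece_of_quasiAffine [IsAffine X] [IsAffine S] [Flat p] [Surjective p]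
    (D : Desc.SchDD p) [D.obj.left.IsQuasiAffine] : Nonempty (Piece D ⊤) := by
  let Z := D.obj.left
  let z : Z ⟶ X := D.obj.hom
  let A := Γ(S, ⊤)
  let A' := Γ(X, ⊤)
  let B' := Γ(Z, ⊤)
  letI : Algebra A A' := p.appTop.hom.toAlgebra
  letI : Algebra A' B' := z.appTop.hom.toAlgebra
  letI : Algebra A B' := (z.appTop.hom.comp p.appTop.hom).toAlgebra
  haveI : IsScalarTower A A' B' := IsScalarTower.of_algebraMap_eq fun _ => rfl
  let iU : S ≅ Spec A := S.isoSpec
  let iV : X ≅ Spec A' := X.isoSpec
  have hp : iV.hom ≫ Spec.map (CommRingCat.ofHom (algebraMap A A')) = p ≫ iU.hom :=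
    (Scheme.toSpecΓ_naturality p).symm
  let j : Z ⟶ Spec B' := Z.toSpecΓ
  haveI : IsIso j.appTop := by
    rw [Scheme.toSpecΓ_appTop]
    infer_instance
  have hj : j ≫ Spec.map (CommRingCat.ofHom (algebraMap A' B')) = z ≫ iV.hom :=
    (Scheme.toSpecΓ_naturality z).symm
  haveI : Module.Flat A A' := by
    have : Flat (Spec.map (CommRingCat.ofHom (algebraMap A A'))) := by
      rw [← MorphismProperty.cancel_left_of_respectsIso @Flat iV.hom, hp,
        MorphismProperty.cancel_right_of_respectsIso @Flat]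
      infer_instance
    rw [HasRingHomProperty.Spec_iff (P := @Flat)] at this
    exact RingHom.flat_algebraMap_iff.1 this
  let U₁ : Over S := Over.mk (𝟙 S)
  let V : Over S := Over.mk p
  let W : Over S := Over.mk (z ≫ p)
  let pp : V ⟶ U₁ := Over.homMk p (Category.comp_id _)
  let w : W ⟶ V := Over.homMk z rfl
  haveI : Flat pp.left := inferInstanceAs (Flat p)
  let R := pullback p (z ≫ p)
  let Xo : Over S := Over.mk (pullback.fst p (z ≫ p) ≫ p)
  let v : Xo ⟶ V := Over.homMk (pullback.fst p (z ≫ p)) rfl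
  let s : Xo ⟶ W := Over.homMk (pullback.snd p (z ≫ p)) pullback.condition.symm
  have h2 : IsPullback v s pp (w ≫ pp) :=
    IsPullback.of_map (Over.forget S) (Over.OverMorphism.ext pullback.condition)
      (IsPullback.of_hasPullback p (z ≫ p))
  have hjA : j ≫ Spec.map (CommRingCat.ofHom (algebraMap A B')) = (z ≫ p) ≫ iU.hom := by
    rw [IsScalarTower.algebraMap_eq A A' B', CommRingCat.ofHom_comp, Spec.map_comp, reassoc_of% hj,
      Category.assoc, ← hp]
  haveI : CompactSpace W.left := inferInstanceAs (CompactSpace Z)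
  haveI : QuasiSeparatedSpace W.left := inferInstanceAs (QuasiSeparatedSpace Z)
  obtain ⟨c2, hL, hR, hc2i⟩ := exists_hull_baseChange iU iV hp (w ≫ pp) j hjA h2
  obtain ⟨t₀, ht₀, ht₀X⟩ := exists_rel (D := D) (pullback.snd p (z ≫ p)) (pullback.fst p (z ≫ p))
    (by rw [Category.assoc, ← pullback.condition])
  let t : Xo ⟶ W := Over.homMk t₀ (by
    change t₀ ≫ z ≫ p = pullback.fst p (z ≫ p) ≫ p
    rw [← Category.assoc]
    exact congrArg (· ≫ p) ht₀X)
  have htw : t ≫ w = v := Over.OverMorphism.ext ht₀X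
  obtain ⟨θ, hθ, htb⟩ := exists_theta iV j hj c2 hL (t := t) htw
  obtain ⟨d, hdv, hds⟩ := h2.exists_lift w (𝟙 W) (by simp)
  have hdt : d ≫ t = 𝟙 W := by
    refine Over.OverMorphism.ext ?_
    have e1 : d.left ≫ pullback.snd p (z ≫ p) = 𝟙 Z := congrArg (fun k => k.left) hds
    have e2 : d.left ≫ pullback.fst p (z ≫ p) = z := congrArg (fun k => k.left) hdv
    refine rel_unique (D := D) (rel_comp d.left ht₀) ?_ ?_
    · rw [e1]; exact rel_refl _
    · change (d.left ≫ t₀) ≫ z = 𝟙 Z ≫ z
      rw [Category.assoc, ht₀X, e2, Category.id_comp]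
  have hunit := theta_unit (W := W) (w := w) (t := t) iV j hj c2 hL hR θ htb d hdv hds hdt
  have hcocycle : (Algebra.TensorProduct.map (AlgHom.id A A') θ).comp θ =
      (Algebra.TensorProduct.map (AlgHom.id A A') Algebra.TensorProduct.includeRight).comp θ := by
    haveI : QuasiCompact s.left := MorphismProperty.of_isPullback
      (IsPullback.of_hasPullback p (z ≫ p)) (inferInstanceAs (QuasiCompact p))
    haveI : QuasiSeparated s.left := MorphismProperty.of_isPullback
      (IsPullback.of_hasPullback p (z ≫ p)) (inferInstanceAs (QuasiSeparated p))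
    haveI : CompactSpace Xo.left := QuasiCompact.compactSpace_of_compactSpace s.left
    haveI : QuasiSeparatedSpace Xo.left := quasiSeparatedSpace_of_quasiSeparated s.left
    have hc2A : c2 ≫ Spec.map (CommRingCat.ofHom (algebraMap A (A' ⊗[A] B'))) =
        (v ≫ pp).left ≫ iU.hom := by
      rw [← specMap_algHom_comp (Algebra.TensorProduct.includeLeft (S := A) (A := A') (B := B'))]
      change c2 ≫ Spec.map (CommRingCat.ofHom Algebra.TensorProduct.includeLeftRingHom) ≫
        Spec.map (CommRingCat.ofHom (algebraMap A A')) = _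
      rw [reassoc_of% hL, hp, Over.comp_left, Category.assoc]
      rfl
    let X3 : Over S := Over.mk (pullback.fst p (v.left ≫ p) ≫ p)
    let v3 : X3 ⟶ V := Over.homMk (pullback.fst p (v.left ≫ p)) rfl
    let s3 : X3 ⟶ Xo := Over.homMk (pullback.snd p (v.left ≫ p)) pullback.condition.symm
    have h3 : IsPullback v3 s3 pp (v ≫ pp) :=
      IsPullback.of_map (Over.forget S) (Over.OverMorphism.ext pullback.condition)
        (IsPullback.of_hasPullback p (v.left ≫ p))
    obtain ⟨c3, h3L, h3R, hc3i⟩ := exists_hull_baseChange iU iV hp (v ≫ pp) c2 hc2A h3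
    obtain ⟨g1, hg1v, hg1s⟩ := h2.exists_lift v3 (s3 ≫ t)
      (by rw [Category.assoc, reassoc_of% htw, h3.w])
    obtain ⟨g2, hg2v, hg2s⟩ := h2.exists_lift v3 (s3 ≫ s)
      (by rw [Category.assoc, ← h2.w, h3.w])
    refine theta_cocycle (W := W) (t := t) iV j c2 hL hR θ htb c3 h3L h3R hg1v hg1s hg2v hg2s ?_
    refine Over.OverMorphism.ext ?_
    have a1 : g1.left ≫ pullback.snd p (z ≫ p) = s3.left ≫ t₀ := congrArg (fun k => k.left) hg1s
    have a2 : g2.left ≫ pullback.snd p (z ≫ p) = s3.left ≫ pullback.snd p (z ≫ p) :=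
      congrArg (fun k => k.left) hg2s
    have b1 : g1.left ≫ pullback.fst p (z ≫ p) = v3.left := congrArg (fun k => k.left) hg1v
    have b2 : g2.left ≫ pullback.fst p (z ≫ p) = v3.left := congrArg (fun k => k.left) hg2v
    have r1 : Rel D (g2.left ≫ pullback.snd p (z ≫ p)) (g1.left ≫ pullback.snd p (z ≫ p)) := by
      rw [a1, a2]
      exact rel_comp _ ht₀
    refine rel_unique (D := D) (rel_trans r1 (rel_comp g1.left ht₀)) (rel_comp g2.left ht₀) ?_
    change (g1.left ≫ t₀) ≫ D.obj.hom = (g2.left ≫ t₀) ≫ D.obj.hom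
    rw [Category.assoc, Category.assoc, ht₀X, b1, b2]
  obtain ⟨B, hB, hBeq⟩ := exists_descended θ hθ (AlgHom.congr_fun hunit)
    (AlgHom.congr_fun hcocycle)
  let H := Spec (CommRingCat.of B')
  let qH : H ⟶ Spec (CommRingCat.of B) := Spec.map (CommRingCat.ofHom B.val.toRingHom)
  let aH : H ⟶ Spec (CommRingCat.of A') := Spec.map (CommRingCat.ofHom (algebraMap A' B'))
  let pA : Spec (CommRingCat.of A') ⟶ Spec (CommRingCat.of A) :=
    Spec.map (CommRingCat.ofHom (algebraMap A A'))
  have hsqH : IsPullback qH aH (Spec.map (CommRingCat.ofHom (algebraMap A B))) pA := hB.flip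
  let jH : Z ⟶ H := j
  haveI : IsOpenImmersion jH := inferInstanceAs (IsOpenImmersion Z.toSpecΓ)
  let sd : Spec (CommRingCat.of (A' ⊗[A] B')) ⟶ H :=
    Spec.map (CommRingCat.ofHom (Algebra.TensorProduct.includeRight (R := A) (A := A')).toRingHom)
  let td : Spec (CommRingCat.of (A' ⊗[A] B')) ⟶ H := Spec.map (CommRingCat.ofHom θ.toRingHom)
  have htd : c2 ≫ td = t₀ ≫ jH := htb
  have hsd : c2 ≫ sd = pullback.snd p (z ≫ p) ≫ jH := hR
  have hBeq' : td ≫ qH = sd ≫ qH := hBeq
  have htens : IsPullback (Spec.map (CommRingCat.ofHom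
      (Algebra.TensorProduct.includeLeftRingHom : A' →+* A' ⊗[A] B'))) sd pA
      (Spec.map (CommRingCat.ofHom (algebraMap A B'))) := isPullback_tensor A A' B'
  have hc2sq : IsPullback c2 (pullback.snd p (z ≫ p)) sd jH := by
    refine IsPullback.of_right ?_ hsd htens
    rw [show c2 ≫ Spec.map (CommRingCat.ofHom
      (Algebra.TensorProduct.includeLeftRingHom : A' →+* A' ⊗[A] B')) = v.left ≫ iV.hom from hL]
    exact IsPullback.of_iso (IsPullback.of_hasPullback p (z ≫ p)) (Iso.refl _) iV (Iso.refl _) iU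
      (by simp [v]) (by simp) hp.symm
      (by simp only [Iso.refl_hom, Category.id_comp]; exact hjA.symm)
  haveI : Flat pA := by
    rw [← MorphismProperty.cancel_left_of_respectsIso @Flat iV.hom, hp,
      MorphismProperty.cancel_right_of_respectsIso @Flat]
    infer_instance
  haveI : Surjective pA := by
    rw [← MorphismProperty.cancel_left_of_respectsIso @Surjective iV.hom, hp,
      MorphismProperty.cancel_right_of_respectsIso @Surjective]
    infer_instance
  haveI : Flat qH := MorphismProperty.of_isPullback hsqH.flip ‹Flat pA›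
  haveI : Surjective qH := MorphismProperty.of_isPullback hsqH.flip ‹Surjective pA›
  have hsat : ∀ h h' : H, qH.base h = qH.base h' →
      h ∈ Set.range jH.base → h' ∈ Set.range jH.base := by
    intro h h' hh hm
    obtain ⟨x, hx1, hx2⟩ := Scheme.Pullback.exists_preimage_pullback (f := qH) (g := qH) h h' hh
    obtain ⟨l, hl1, hl2⟩ := htens.exists_lift (pullback.snd qH qH ≫ aH) (pullback.fst qH qH)
      (by
        have e : Spec.map (CommRingCat.ofHom (algebraMap A B')) = aH ≫ pA := by
          rw [IsScalarTower.algebraMap_eq A A' B', CommRingCat.ofHom_comp, Spec.map_comp]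
        rw [e, Category.assoc, ← hsqH.w, pullback.condition_assoc])
    have hl3 : l ≫ td = pullback.snd qH qH := by
      refine hsqH.hom_ext ?_ ?_
      · rw [Category.assoc, hBeq', reassoc_of% hl2, pullback.condition]
      · rw [Category.assoc, ← hl1]
        congr 1
        change Spec.map _ ≫ Spec.map _ = _
        rw [← Spec.map_comp]
        congr 1
        ext a
        exact hθ a
    obtain ⟨z₀, hz₀⟩ := hm
    have e1 : sd.base (l.base x) = jH.base z₀ := by
      rw [← Scheme.Hom.comp_apply, hl2, hx1, hz₀]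
    obtain ⟨r', hr', -⟩ := Scheme.Pullback.exists_preimage_pullback (f := sd) (g := jH) _ _ e1
    let r := hc2sq.isoPullback.inv.base r'
    have hr1 : c2.base r = l.base x := by
      rw [← hr']
      change (hc2sq.isoPullback.inv ≫ c2).base r' = _
      rw [hc2sq.isoPullback_inv_fst]
    refine ⟨t₀.base r, ?_⟩
    rw [← Scheme.Hom.comp_apply, ← htd, Scheme.Hom.comp_apply]
    refine (congrArg (fun y => td.base y) hr1).trans ?_
    rw [← hx2, ← hl3]
    rfl
  let O : (Spec (CommRingCat.of B)).Opens := ⟨qH.base '' Set.range jH.base, by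
    rw [← (Flat.isQuotientMap_of_surjective qH).isOpen_preimage]
    convert jH.opensRange.isOpen using 1
    ext h'
    constructor
    · rintro ⟨h, hh, he⟩
      exact hsat h h' he hh
    · exact fun hh => ⟨h', hh, rfl⟩⟩
  have hO : qH ⁻¹ᵁ O = jH.opensRange := by
    refine TopologicalSpace.Opens.ext (Set.ext fun h' => ⟨?_, fun hh => ⟨h', hh, rfl⟩⟩)
    rintro ⟨h, hh, he⟩
    exact hsat h h' he hh
  have hrange : Set.range (jH ≫ qH).base ⊆ Set.range O.ι.base := by
    rintro _ ⟨z₀, rfl⟩
    rw [Scheme.Opens.range_ι]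
    exact ⟨_, ⟨z₀, rfl⟩, rfl⟩
  let q : Z ⟶ O.toScheme := IsOpenImmersion.lift O.ι (jH ≫ qH) hrange
  have hq : q ≫ O.ι = jH ≫ qH := IsOpenImmersion.lift_fac _ _ _
  let str : O.toScheme ⟶ S := O.ι ≫ Spec.map (CommRingCat.ofHom (algebraMap A B)) ≫ iU.inv
  have hsq : IsPullback q z str p := by
    have h1 : IsPullback q jH O.ι qH :=
      IsOpenImmersion.isPullback _ _ _ _ hq.symm (by rw [Scheme.Opens.opensRange_ι, hO])
    have h3 := h1.paste_vert hsqH
    refine IsPullback.of_iso h3 (Iso.refl _) (Iso.refl _) iV.symm iU.symm (by simp) ?_ ?_ ?_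
    · rw [Iso.refl_hom, Category.id_comp, Iso.symm_hom, Iso.comp_inv_eq]
      exact hj
    · simp [str]
    · rw [Iso.symm_hom, Iso.symm_hom, Iso.comp_inv_eq, Category.assoc, ← hp]
      simp [pA]
  refine Piece.nonempty_top str q hsq fun T a b hab => ?_
  let l : T ⟶ R := pullback.lift (b ≫ z) a (by
    rw [Category.assoc]
    exact (by simpa [Category.assoc] using hab.1.symm : b ≫ z ≫ p = a ≫ z ≫ p))
  have hla : l ≫ pullback.snd p (z ≫ p) = a := pullback.lift_snd _ _ _
  have hlb : l ≫ t₀ = b := by
    refine rel_unique (a := a) ?_ hab ?_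
    · have := rel_comp l ht₀
      rwa [hla] at this
    · rw [Category.assoc, ht₀X]
      exact pullback.lift_fst _ _ _
  rw [← cancel_mono O.ι, Category.assoc, Category.assoc, hq, ← hla, ← hlb]
  simp only [Category.assoc]
  rw [← reassoc_of% hsd, ← reassoc_of% htd, hBeq']

end Groth.Agent.SGA1Desc
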