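import Mathlib
import Groth.Agent.SGA1Desc.QuasiAffine
import Groth.Agent.AlgSp.DescentLqf
import Groth.Agent.FpqcDesc.Props

/-!
# fpqc descent of schemes with quasi-affine affine base changes
-/

set_option autoImplicit false
set_option linter.style.haveILetI false
set_option backward.isDefEq.respectTransparency false

universe u

open CategoryTheory CategoryTheory.Limits AlgebraicGeometry Topology TopologicalSpace

namespace Groth.Agent.SGA1Desc

variable {X S : Scheme.{u}} {p : X ⟶ S} [Flat p] [Surjective p] [QuasiCompact p] (D : Desc.SchDD p)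

/-- A descent datum whose base changes to affine schemes are quasi-affine is effective. -/
theorem effective_of_quasiAffine
    (h : ∀ (X'' : Scheme.{u}) [IsAffine X''] (c : X'' ⟶ X),
      (pullback D.obj.hom c).IsQuasiAffine) :
    ∃ U : Over S, Nonempty ((Desc.toDD p).obj U ≅ D) := by
  refine effective_of_affine D fun {X''} _ U₀ hU₀ c _ _ _ => ?_
  haveI : IsAffine U₀.toScheme := hU₀
  haveI : Surjective (p ∣_ U₀) :=
    MorphismProperty.of_isPullback (isPullback_morphismRestrict p U₀).flip ‹Surjective p›
  haveI : Flat (p ∣_ U₀) :=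
    MorphismProperty.of_isPullback (isPullback_morphismRestrict p U₀).flip ‹Flat p›
  haveI : (pullDatum D (c ≫ p ∣_ U₀) (c ≫ (p ⁻¹ᵁ U₀).ι) U₀.ι
      (by simp [morphismRestrict_ι])).obj.left.IsQuasiAffine :=
    h X'' (c ≫ (p ⁻¹ᵁ U₀).ι)
  exact exists_piece_of_quasiAffine _

/-- Effective fpqc descent of separated quasi-compact locally quasi-finite schemes. -/
theorem effective_of_sepLqf [QuasiCompact D.obj.hom] [IsSeparated D.obj.hom]
    [LocallyQuasiFinite D.obj.hom] [LocallyOfFiniteType D.obj.hom] :
    ∃ U : Over S, Nonempty ((Desc.toDD p).obj U ≅ D) := by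
  refine effective_of_quasiAffine D fun X'' _ c => ?_
  haveI : CompactSpace (pullback D.obj.hom c : Scheme.{u}) :=
    QuasiCompact.compactSpace_of_compactSpace (pullback.snd D.obj.hom c)
  exact Groth.Agent.AlgSp.isQuasiAffine_of_lqf (pullback.snd D.obj.hom c)

variable {D} in
/-- Properties which descend pass from the total scheme to the descended scheme. -/
theorem of_iso_toDD {U : Over S} (e : (Desc.toDD p).obj U ≅ D) (P : MorphismProperty Scheme.{u})
    [P.RespectsIso] [P.DescendsAlong (@Surjective ⊓ @Flat ⊓ @QuasiCompact)]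
    (hP : P D.obj.hom) : P U.hom := by
  have hw : e.hom.hom.left ≫ D.obj.hom = pullback.fst p U.hom := Over.w e.hom.hom
  haveI : IsIso e.hom.hom.left := by
    refine ⟨e.inv.hom.left, ?_, ?_⟩
    · exact congrArg (fun k => k.hom.left) e.hom_inv_id
    · exact congrArg (fun k => k.hom.left) e.inv_hom_id
  have h1 : P (pullback.fst p U.hom) := by
    rw [← hw]
    exact (P.cancel_left_of_respectsIso _ _).2 hP
  exact MorphismProperty.of_pullback_fst_of_descendsAlong
    (Q := @Surjective ⊓ @Flat ⊓ @QuasiCompact) (P := P)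
    ⟨⟨inferInstance, inferInstance⟩, inferInstance⟩ h1

end Groth.Agent.SGA1Desc
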