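import Mathlib
import Groth.Agent.SGA1Desc.Etale
import Groth.Agent.SGA1Desc.Effective
import Groth.Agent.SGA1Desc.EffFam
import Groth.Agent.AlgSpCov.Instances

/-!
# Étale separated effectiveness descends along fpqc morphisms of the base
-/

set_option autoImplicit false
set_option linter.style.haveILetI false
set_option maxHeartbeats 400000
set_option backward.isDefEq.respectTransparency false

universe u

open CategoryTheory CategoryTheory.Limits AlgebraicGeometry Topology TopologicalSpace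

namespace Groth.Agent.SGA1Desc

variable {X S S₁ : Scheme.{u}} {g : X ⟶ S} {D : Desc.SchDD g} {j : S₁ ⟶ S}

/-- `v'` is the translate of `v`. -/
def Transl (E : Eff D j) {T : Scheme.{u}} (x₁ : T ⟶ S₁) (v v' : T ⟶ E.base) : Prop :=
  ∀ ⦃T' : Scheme.{u}⦄ (d : T' ⟶ T) (a b : T' ⟶ pullback (D.obj.hom ≫ g) j),
    a ≫ E.q = d ≫ v →
    Rel D (a ≫ pullback.fst (D.obj.hom ≫ g) j) (b ≫ pullback.fst (D.obj.hom ≫ g) j) →
    b ≫ pullback.snd (D.obj.hom ≫ g) j = d ≫ x₁ → b ≫ E.q = d ≫ v'

variable (E : Eff D j) (hg : SGA1.UnivSubmersive g)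

theorem transl_comp {T : Scheme.{u}} (x₁ x₂ : T ⟶ S₁) {v v' v'' : T ⟶ E.base}
    (h : v ≫ E.str ≫ j = x₁ ≫ j) (h₁ : Transl E x₁ v v') (h₂ : Transl E x₂ v' v'') :
    Transl E x₂ v v'' := by
  intro T' d a c ha hr hc
  let b : T' ⟶ pullback (D.obj.hom ≫ g) j :=
    pullback.lift (a ≫ pullback.fst _ _) (d ≫ x₁) (by
      rw [Category.assoc, pullback.condition, Category.assoc, ← h, ← E.q_str, Category.assoc,
        reassoc_of% ha])
  have hb1 : b ≫ pullback.fst (D.obj.hom ≫ g) j = a ≫ pullback.fst _ _ := pullback.lift_fst _ _ _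
  have hb : b ≫ E.q = d ≫ v' :=
    h₁ d a b ha (by rw [hb1]; exact rel_refl _) (pullback.lift_snd _ _ _)
  exact h₂ d b c hb (by rw [hb1]; exact hr) hc

theorem transl_precomp {T T' : Scheme.{u}} (k : T' ⟶ T) (x₁ : T ⟶ S₁) {v v' : T ⟶ E.base}
    (h : Transl E x₁ v v') : Transl E (k ≫ x₁) (k ≫ v) (k ≫ v') := fun T'' d a b ha hr hb =>
  (h (d ≫ k) a b (ha.trans (Category.assoc _ _ _).symm) hr
    (hb.trans (Category.assoc _ _ _).symm)).trans (Category.assoc _ _ _)

theorem transl_refl {T : Scheme.{u}} (x : T ⟶ S₁) (v : T ⟶ E.base) (h : v ≫ E.str = x) :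
    Transl E x v v := fun T' d a b ha hr hb => by
  rw [← ha]
  refine (E.compat a b hr ?_).symm
  rw [hb, ← E.q_str, reassoc_of% ha, h]

include hg

theorem transl_exists {T : Scheme.{u}} (x₁ : T ⟶ S₁) (v : T ⟶ E.base)
    (h : v ≫ E.str ≫ j = x₁ ≫ j) : ∃ v' : T ⟶ E.base, v' ≫ E.str = x₁ ∧ Transl E x₁ v v' := by
  haveI := E.etale
  let c := pullback.fst v E.q
  let a₀ := pullback.snd v E.q
  have hc : SGA1.UnivSubmersive c :=
    (MorphismProperty.universally_isStableUnderBaseChange _).of_isPullback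
      (IsPullback.of_hasPullback v E.q).flip (E.univSubmersive_q hg)
  have hw : c ≫ v = a₀ ≫ E.q := pullback.condition
  let b₀ : pullback v E.q ⟶ pullback (D.obj.hom ≫ g) j :=
    pullback.lift (a₀ ≫ pullback.fst _ _) (c ≫ x₁) (by
      rw [Category.assoc, pullback.condition, Category.assoc, ← h, ← E.q_str, Category.assoc,
        reassoc_of% hw])
  have hb1 : b₀ ≫ pullback.fst (D.obj.hom ≫ g) j = a₀ ≫ pullback.fst _ _ := pullback.lift_fst _ _ _
  have hb2 : b₀ ≫ pullback.snd (D.obj.hom ≫ g) j = c ≫ x₁ := pullback.lift_snd _ _ _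
  obtain ⟨v', hv', hv''⟩ := exists_desc_etale x₁ E.str c hc (b₀ ≫ E.q)
    (by rw [Category.assoc, E.q_str, hb2]) (by
      simp only [← Category.assoc]
      refine E.compat _ _ ?_ ?_
      · simp only [Category.assoc, hb1]
        simp only [← Category.assoc]
        refine E.rel_of_eq ?_
        simp only [Category.assoc, ← hw]
        simp only [← Category.assoc, pullback.condition]
      · simp only [Category.assoc, hb2]
        simp only [← Category.assoc, pullback.condition])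
  refine ⟨v', hv', fun T' d a b ha hr hb => ?_⟩
  let r := pullback.fst d c
  let r' := pullback.snd d c
  have hrr : r ≫ d = r' ≫ c := pullback.condition
  haveI : Surjective c := SGA1Misc.univSubmersive_surjective hc
  haveI : Surjective r := MorphismProperty.pullback_fst _ _ ‹Surjective c›
  refine SGA1Misc.eq_of_surjective_comp_eq E.str _ _
    (by rw [Category.assoc, E.q_str, hb, Category.assoc, hv']) r ?_
  rw [reassoc_of% hrr, hv'']
  simp only [← Category.assoc]
  refine (E.compat _ _ ?_ ?_).symm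
  · have r1 : Rel D ((r' ≫ b₀) ≫ pullback.fst (D.obj.hom ≫ g) j)
        ((r ≫ a) ≫ pullback.fst (D.obj.hom ≫ g) j) := by
      rw [Category.assoc, hb1, ← Category.assoc]
      refine E.rel_of_eq ?_
      rw [Category.assoc, Category.assoc, ha, ← hw, reassoc_of% hrr]
    refine rel_trans r1 ?_
    rw [Category.assoc, Category.assoc]
    exact rel_comp r hr
  · simp only [Category.assoc, hb, hb2, reassoc_of% hrr]

theorem transl_unique {T : Scheme.{u}} (x₁ : T ⟶ S₁) {v v₁ v₂ : T ⟶ E.base}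
    (h : v ≫ E.str ≫ j = x₁ ≫ j)
    (h₁ : Transl E x₁ v v₁) (h₁' : v₁ ≫ E.str = x₁)
    (h₂ : Transl E x₁ v v₂) (h₂' : v₂ ≫ E.str = x₁) : v₁ = v₂ := by
  haveI := E.etale
  let c := pullback.fst v E.q
  let a₀ := pullback.snd v E.q
  haveI : Surjective c := MorphismProperty.pullback_fst _ _
    (SGA1Misc.univSubmersive_surjective (E.univSubmersive_q hg))
  have hw : c ≫ v = a₀ ≫ E.q := pullback.condition
  let b₀ : pullback v E.q ⟶ pullback (D.obj.hom ≫ g) j :=
    pullback.lift (a₀ ≫ pullback.fst _ _) (c ≫ x₁) (by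
      rw [Category.assoc, pullback.condition, Category.assoc, ← h, ← E.q_str, Category.assoc,
        reassoc_of% hw])
  refine SGA1Misc.eq_of_surjective_comp_eq E.str _ _ (h₁'.trans h₂'.symm) c ?_
  rw [← h₁ c a₀ b₀ hw.symm (by rw [pullback.lift_fst]; exact rel_refl _) (pullback.lift_snd _ _ _),
    h₂ c a₀ b₀ hw.symm (by rw [pullback.lift_fst]; exact rel_refl _) (pullback.lift_snd _ _ _)]

section

variable {T₁ T : Scheme.{u}} {c : T₁ ⟶ T} {j₀ : T ⟶ S} (E : Eff D (c ≫ j₀))

omit hg in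
theorem lifts_cond {W : Scheme.{u}} {x₀ x₁ : W ⟶ T₁} (h : x₀ ≫ c = x₁ ≫ c)
    (v : Desc.Lifts (Over.mk E.str) x₀) : v.1 ≫ E.str ≫ c ≫ j₀ = x₁ ≫ c ≫ j₀ := by
  rw [← reassoc_of% h, ← Category.assoc]
  exact congrArg (· ≫ c ≫ j₀) v.2

/-- The translate of a point. -/
noncomputable def translMap {W : Scheme.{u}} (x₀ x₁ : W ⟶ T₁) (h : x₀ ≫ c = x₁ ≫ c)
    (v : Desc.Lifts (Over.mk E.str) x₀) : Desc.Lifts (Over.mk E.str) x₁ :=
  ⟨(transl_exists E hg x₁ v.1 (lifts_cond E h v)).choose,
    (transl_exists E hg x₁ v.1 (lifts_cond E h v)).choose_spec.1⟩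

theorem translMap_spec {W : Scheme.{u}} (x₀ x₁ : W ⟶ T₁) (h : x₀ ≫ c = x₁ ≫ c)
    (v : Desc.Lifts (Over.mk E.str) x₀) : Transl E x₁ v.1 (translMap hg E x₀ x₁ h v).1 :=
  (transl_exists E hg x₁ v.1 (lifts_cond E h v)).choose_spec.2

theorem translMap_eq {W : Scheme.{u}} (x₀ x₁ : W ⟶ T₁) (h : x₀ ≫ c = x₁ ≫ c)
    (v : Desc.Lifts (Over.mk E.str) x₀) (v' : Desc.Lifts (Over.mk E.str) x₁)
    (hv : Transl E x₁ v.1 v'.1) : translMap hg E x₀ x₁ h v = v' :=
  Subtype.ext (transl_unique E hg x₁ (lifts_cond E h v) (translMap_spec hg E x₀ x₁ h v)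
    (translMap hg E x₀ x₁ h v).2 hv v'.2)

/-- The descent datum on the étale scheme over `S₁`. -/
@[reducible] noncomputable def translDatum : Desc.SchDD c where
  obj := Over.mk E.str
  φ W x₀ x₁ h :=
    { toFun := translMap hg E x₀ x₁ h
      invFun := translMap hg E x₁ x₀ h.symm
      left_inv := fun v => translMap_eq hg E x₁ x₀ h.symm _ v
        (by
          have := transl_comp E x₁ x₀ (lifts_cond E h v) (translMap_spec hg E x₀ x₁ h v)
            (translMap_spec hg E x₁ x₀ h.symm (translMap hg E x₀ x₁ h v))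
          have e := transl_unique E hg x₀ (lifts_cond E rfl v) this
            (translMap hg E x₁ x₀ h.symm (translMap hg E x₀ x₁ h v)).2
            (transl_refl E x₀ v.1 v.2) v.2
          have h2 := translMap_spec hg E x₁ x₀ h.symm (translMap hg E x₀ x₁ h v)
          rwa [e] at h2)
      right_inv := fun v => translMap_eq hg E x₀ x₁ h _ v
        (by
          have := transl_comp E x₀ x₁ (lifts_cond E h.symm v) (translMap_spec hg E x₁ x₀ h.symm v)
            (translMap_spec hg E x₀ x₁ h (translMap hg E x₁ x₀ h.symm v))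
          have e := transl_unique E hg x₁ (lifts_cond E rfl v) this
            (translMap hg E x₀ x₁ h (translMap hg E x₁ x₀ h.symm v)).2
            (transl_refl E x₁ v.1 v.2) v.2
          have h2 := translMap_spec hg E x₀ x₁ h (translMap hg E x₁ x₀ h.symm v)
          rwa [e] at h2) }
  φ_natural W W' k x₀ x₁ h h' v v' hv := by
    have e := translMap_eq hg E (k ≫ x₀) (k ≫ x₁) h' v'
      ⟨k ≫ (translMap hg E x₀ x₁ h v).1, by
        rw [Category.assoc, (translMap hg E x₀ x₁ h v).2]⟩ (by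
          rw [hv]
          exact transl_precomp E k x₁ (translMap_spec hg E x₀ x₁ h v))
    exact congrArg Subtype.val e
  φ_self W x v := translMap_eq hg E x x rfl v v (transl_refl E x v.1 v.2)
  φ_comp W x₀ x₁ x₂ h₀₁ h₁₂ v := (translMap_eq hg E x₀ x₂ (h₀₁.trans h₁₂) v
    (translMap hg E x₁ x₂ h₁₂ (translMap hg E x₀ x₁ h₀₁ v))
    (transl_comp E x₁ x₂ (lifts_cond E h₀₁ v) (translMap_spec hg E x₀ x₁ h₀₁ v)
      (translMap_spec hg E x₁ x₂ h₁₂ _))).symm

theorem rel_translDatum {W : Scheme.{u}} {a b : W ⟶ pullback (D.obj.hom ≫ g) (c ≫ j₀)}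
    (hr : Rel D (a ≫ pullback.fst (D.obj.hom ≫ g) (c ≫ j₀))
      (b ≫ pullback.fst (D.obj.hom ≫ g) (c ≫ j₀)))
    (hc : a ≫ pullback.snd (D.obj.hom ≫ g) (c ≫ j₀) ≫ c =
      b ≫ pullback.snd (D.obj.hom ≫ g) (c ≫ j₀) ≫ c) :
    Rel (D := translDatum hg E) (a ≫ E.q) (b ≫ E.q) := by
  have ha : (a ≫ E.q) ≫ E.str = a ≫ pullback.snd _ _ := by rw [Category.assoc, E.q_str]
  have hb : (b ≫ E.q) ≫ E.str = b ≫ pullback.snd _ _ := by rw [Category.assoc, E.q_str]
  have h : ((a ≫ E.q) ≫ E.str) ≫ c = ((b ≫ E.q) ≫ E.str) ≫ c := by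
    rw [ha, hb, Category.assoc, Category.assoc]
    exact hc
  refine ⟨h, ?_⟩
  have := translMap_spec hg E _ _ h ⟨a ≫ E.q, rfl⟩ (𝟙 W) a b (Category.id_comp _).symm hr
    (by rw [Category.id_comp, hb])
  rw [Category.id_comp] at this
  exact this.symm

/-- Étale separated quasi-compact effectiveness descends along fpqc morphisms. -/
theorem exists_eff_descend' [Flat c] [Surjective c] [QuasiCompact c] [IsSeparated E.str]
    [QuasiCompact E.str] :
    ∃ E' : Eff D j₀, IsSeparated E'.str ∧ QuasiCompact E'.str := by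
  haveI hE : Etale E.str := E.etale
  haveI : Etale (translDatum hg E).obj.hom := hE
  haveI : IsSeparated (translDatum hg E).obj.hom := ‹IsSeparated E.str›
  haveI : QuasiCompact (translDatum hg E).obj.hom := ‹QuasiCompact E.str›
  haveI : LocallyQuasiFinite (translDatum hg E).obj.hom :=
    Groth.Agent.AlgSpCov.etale_le_locallyQuasiFinite _ _ _ hE
  obtain ⟨U, ⟨i⟩⟩ := effective_of_sepLqf (translDatum hg E)
  haveI := Groth.Agent.FpqcDesc.descendsAlong_quasiCompact.{u}
  haveI := Groth.Agent.FpqcDesc.descendsAlong_isSeparated.{u}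
  have hUs : IsSeparated U.hom := of_iso_toDD i @IsSeparated ‹_›
  have hUq : QuasiCompact U.hom := of_iso_toDD i @QuasiCompact ‹_›
  have hUe : Etale U.hom := of_iso_toDD i @Etale ‹_›
  obtain ⟨q₁, hsq₁, hq₁⟩ := exists_of_iso (D := translDatum hg E) i
  let m := Eff.bcMap (D := D) c (c ≫ j₀) rfl
  have hm1 : m ≫ pullback.fst (D.obj.hom ≫ g) j₀ = pullback.fst _ _ := Eff.bcMap_fst _ _ _
  have hm2 : m ≫ pullback.snd (D.obj.hom ≫ g) j₀ = pullback.snd _ _ ≫ c := Eff.bcMap_snd _ _ _
  have hm : IsPullback m (pullback.snd (D.obj.hom ≫ g) (c ≫ j₀)) (pullback.snd (D.obj.hom ≫ g) j₀)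
      c := Eff.isPullback_bcMap _ _ _
  haveI : Surjective m := MorphismProperty.of_isPullback hm.flip ‹Surjective c›
  haveI : Flat m := MorphismProperty.of_isPullback hm.flip ‹Flat c›
  haveI : QuasiCompact m := MorphismProperty.of_isPullback hm.flip ‹QuasiCompact c›
  have hq₁' : q₁ ≫ U.hom = E.str ≫ c := hsq₁.w
  let q₀ : pullback (D.obj.hom ≫ g) j₀ ⟶ U.left := EffectiveEpi.desc m (E.q ≫ q₁) fun a b hab => by
    simp only [← Category.assoc]
    refine hq₁ _ _ (rel_translDatum hg E ?_ ?_)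
    · rw [← hm1, reassoc_of% hab]; exact rel_refl _
    · rw [← hm2, reassoc_of% hab]
  have hq₀ : m ≫ q₀ = E.q ≫ q₁ := EffectiveEpi.fac _ _ _
  have hw : q₀ ≫ U.hom = pullback.snd (D.obj.hom ≫ g) j₀ := by
    rw [← cancel_epi m, reassoc_of% hq₀, hq₁', reassoc_of% E.q_str, hm2]
  let z₀ := pullback.fst (D.obj.hom ≫ g) j₀ ≫ D.obj.hom
  have hz₀ : z₀ ≫ g = q₀ ≫ U.hom ≫ j₀ := by
    rw [reassoc_of% hw, Category.assoc, pullback.condition]
  let k : pullback (D.obj.hom ≫ g) j₀ ⟶ pullback (U.hom ≫ j₀) g := pullback.lift q₀ z₀ hz₀.symm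
  let θ : pullback (U.hom ≫ j₀) g ⟶ T := pullback.fst (U.hom ≫ j₀) g ≫ U.hom
  have hk : k ≫ θ = pullback.snd (D.obj.hom ≫ g) j₀ := by simp [k, θ, hw]
  let d : pullback (D.obj.hom ≫ g) (c ≫ j₀) ⟶ pullback θ c :=
    pullback.lift (m ≫ k) (pullback.snd _ _) (by rw [Category.assoc, hk, hm2])
  have hd : IsPullback m d k (pullback.fst θ c) := by
    refine IsPullback.of_bot ?_ (pullback.lift_fst _ _ _).symm (IsPullback.of_hasPullback θ c)
    rw [hk, pullback.lift_snd]
    exact hm
  have hiso : IsIso d := by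
    let l : pullback θ c ⟶ E.base := hsq₁.lift (pullback.fst θ c ≫ pullback.fst (U.hom ≫ j₀) g)
      (pullback.snd θ c) (by
        simp only [Category.assoc]
        exact pullback.condition (f := θ) (g := c))
    have hl1 : l ≫ q₁ = pullback.fst θ c ≫ pullback.fst (U.hom ≫ j₀) g := hsq₁.lift_fst _ _ _
    have hl2 : l ≫ E.str = pullback.snd θ c := hsq₁.lift_snd _ _ _
    let d' : pullback θ c ⟶ pullback (D.obj.hom ≫ g) (c ≫ j₀) :=
      E.isPullback.lift l (pullback.fst θ c ≫ pullback.snd (U.hom ≫ j₀) g) (by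
        rw [reassoc_of% hl2, ← pullback.condition_assoc (f := θ) (g := c)]
        simp [θ, pullback.condition])
    have hd'1 : d' ≫ E.q = l := E.isPullback.lift_fst _ _ _
    have hd'2 : d' ≫ pullback.fst _ _ ≫ D.obj.hom =
        pullback.fst θ c ≫ pullback.snd (U.hom ≫ j₀) g := E.isPullback.lift_snd _ _ _
    have hd1 : d ≫ pullback.fst θ c = m ≫ k := pullback.lift_fst _ _ _
    have hd2 : d ≫ pullback.snd θ c = pullback.snd (D.obj.hom ≫ g) (c ≫ j₀) :=
      pullback.lift_snd _ _ _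
    refine ⟨d', ?_, ?_⟩
    · refine E.isPullback.hom_ext ?_ ?_
      · rw [Category.assoc, hd'1, Category.id_comp]
        refine hsq₁.hom_ext ?_ ?_
        · rw [Category.assoc, hl1, reassoc_of% hd1, pullback.lift_fst, hq₀]
        · change (d ≫ l) ≫ E.str = E.q ≫ E.str
          rw [Category.assoc, hl2, hd2, E.q_str]
      · rw [Category.assoc, hd'2, reassoc_of% hd1, pullback.lift_snd, Category.id_comp]
        rw [reassoc_of% hm1]
    · apply pullback.hom_ext
      · apply pullback.hom_ext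
        · simp only [Category.assoc, Category.id_comp, reassoc_of% hd1, k, pullback.lift_fst]
          rw [hq₀, reassoc_of% hd'1, hl1]
        · simp only [Category.assoc, Category.id_comp, reassoc_of% hd1, k, pullback.lift_snd, z₀]
          rw [reassoc_of% hm1]
          exact hd'2
      · rw [Category.assoc, hd2, Category.id_comp, ← E.q_str, reassoc_of% hd'1, hl2]
  have hkiso : MorphismProperty.isomorphisms Scheme k :=
    MorphismProperty.of_isPullback_of_descendsAlong
      (Q := @Surjective ⊓ @Flat ⊓ @QuasiCompact) hd.flip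
      ⟨⟨MorphismProperty.pullback_fst _ _ ‹Surjective c›,
        MorphismProperty.pullback_fst _ _ ‹Flat c›⟩,
        MorphismProperty.pullback_fst _ _ ‹QuasiCompact c›⟩ hiso
  haveI : IsIso k := hkiso
  have hsq : IsPullback q₀ z₀ (U.hom ≫ j₀) g :=
    IsPullback.of_iso_pullback ⟨hz₀.symm⟩ (asIso k) (by simp [k]) (by simp [k])
  refine ⟨{ base := U.left, str := U.hom, etale := hUe, q := q₀, q_str := hw,
            isPullback := hsq, compat := fun W a b hr hs => ?_ }, hUs, hUq⟩
  let e := pullback.fst (a ≫ pullback.snd (D.obj.hom ≫ g) j₀) c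
  let t := pullback.snd (a ≫ pullback.snd (D.obj.hom ≫ g) j₀) c
  haveI : Surjective e := MorphismProperty.pullback_fst _ _ ‹Surjective c›
  haveI : Flat e := MorphismProperty.pullback_fst _ _ ‹Flat c›
  haveI : QuasiCompact e := MorphismProperty.pullback_fst _ _ ‹QuasiCompact c›
  have het : e ≫ a ≫ pullback.snd (D.obj.hom ≫ g) j₀ = t ≫ c := pullback.condition
  let a₁ := hm.lift (e ≫ a) t (by rw [Category.assoc, het])
  let b₁ := hm.lift (e ≫ b) t (by rw [Category.assoc, ← hs, het])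
  have ha₁ : a₁ ≫ m = e ≫ a := hm.lift_fst _ _ _
  have hb₁ : b₁ ≫ m = e ≫ b := hm.lift_fst _ _ _
  have := E.compat a₁ b₁ (by
    rw [← hm1, reassoc_of% ha₁, reassoc_of% hb₁]; exact rel_comp e hr)
    (by rw [hm.lift_snd, hm.lift_snd])
  rw [← cancel_epi e, ← reassoc_of% ha₁, ← reassoc_of% hb₁, hq₀, reassoc_of% this]

end

/-- Étale separated quasi-compact effectiveness descends along fpqc morphisms to the base. -/
theorem exists_eff_descend [Flat j] [Surjective j] [QuasiCompact j] [IsSeparated E.str]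
    [QuasiCompact E.str] :
    ∃ E' : Eff D (𝟙 S), IsSeparated E'.str ∧ QuasiCompact E'.str := by
  let E₁ := E.pull (𝟙 S₁) (j ≫ 𝟙 S) (by simp)
  haveI : IsSeparated E₁.str := MorphismProperty.pullback_snd _ _ ‹IsSeparated E.str›
  haveI : QuasiCompact E₁.str := MorphismProperty.pullback_snd _ _ ‹QuasiCompact E.str›
  exact exists_eff_descend' hg E₁

end Groth.Agent.SGA1Desc
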