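import Mathlib
import Groth.Agent.SGA1Desc.Etale
import Groth.Agent.LimLib.Model
import Groth.Agent.LimLib.Smooth
import Groth.Agent.LimLib.Props

/-!
# Étale effectiveness over a limit comes from a stage
-/

set_option autoImplicit false
set_option linter.style.haveILetI false
set_option maxHeartbeats 1600000
set_option backward.isDefEq.respectTransparency false

universe u

open CategoryTheory CategoryTheory.Limits AlgebraicGeometry Topology TopologicalSpace
open Groth.Agent.LimLib (bcDiag bcι bcCone isLimitBcCone hasModel HasModel property_of_factor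
  descends_etale descends_isIso)

namespace Groth.Agent.SGA1Desc

section bc

variable {S T T' Y : Scheme.{u}} (f : Y ⟶ S) {j : T ⟶ S} {j' : T' ⟶ S} (k : T' ⟶ T)
  (hk : k ≫ j = j')

/-- The map between the base changes of a scheme over `S`. -/
noncomputable def bcY : pullback f j' ⟶ pullback f j :=
  pullback.lift (pullback.fst _ _) (pullback.snd _ _ ≫ k)
    (by rw [pullback.condition, Category.assoc, hk])

theorem bcY_fst : bcY f k hk ≫ pullback.fst f j = pullback.fst f j' := pullback.lift_fst _ _ _

theorem bcY_snd : bcY f k hk ≫ pullback.snd f j = pullback.snd f j' ≫ k := pullback.lift_snd _ _ _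

theorem isPullback_bcY :
    IsPullback (bcY f k hk) (pullback.snd f j') (pullback.snd f j) k := by
  refine IsPullback.of_right ?_ (bcY_snd f k hk) (IsPullback.of_hasPullback f j)
  rw [bcY_fst, hk]
  exact IsPullback.of_hasPullback _ _

/-- Base change of `U ×_S X` along `T' ⟶ T`. -/
theorem isPullback_bcP {X U U' : Scheme.{u}} (g : X ⟶ S) (str : U ⟶ T) (str' : U' ⟶ T')
    (gU : U' ⟶ U) (h : IsPullback gU str' str k) :
    IsPullback (pullback.map (str' ≫ j') g (str ≫ j) g gU (𝟙 X) (𝟙 S)
        (by rw [reassoc_of% h.w, hk, Category.comp_id]) (by simp))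
      (pullback.fst (str' ≫ j') g ≫ str') (pullback.fst (str ≫ j) g ≫ str) k := by
  refine IsPullback.paste_vert ?_ h
  refine IsPullback.of_right (h₁₂ := pullback.snd (str ≫ j) g) (v₁₃ := g) (h₂₂ := str ≫ j) ?_
    (pullback.lift_fst _ _ _) (IsPullback.of_hasPullback (str ≫ j) g).flip
  rw [pullback.lift_snd, Category.comp_id, reassoc_of% h.w, hk]
  exact (IsPullback.of_hasPullback (str' ≫ j') g).flip

end bc

variable {X S : Scheme.{u}} {g : X ⟶ S} (D : Desc.SchDD g)

section kappa

variable {T : Scheme.{u}} {j : T ⟶ S} {U : Scheme.{u}} (str : U ⟶ T)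
  (q : pullback (D.obj.hom ≫ g) j ⟶ U) (hq : q ≫ str = pullback.snd (D.obj.hom ≫ g) j)

/-- The comparison map of a candidate descended scheme. -/
noncomputable def kappa : pullback (D.obj.hom ≫ g) j ⟶ pullback (str ≫ j) g :=
  pullback.lift q (pullback.fst _ _ ≫ D.obj.hom) (by
    rw [reassoc_of% hq, Category.assoc, pullback.condition])

theorem kappa_fst : kappa D str q hq ≫ pullback.fst (str ≫ j) g = q := pullback.lift_fst _ _ _

theorem kappa_snd : kappa D str q hq ≫ pullback.snd (str ≫ j) g =
    pullback.fst _ _ ≫ D.obj.hom := pullback.lift_snd _ _ _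

theorem isPullback_of_isIso_kappa [IsIso (kappa D str q hq)] :
    IsPullback q (pullback.fst (D.obj.hom ≫ g) j ≫ D.obj.hom) (str ≫ j) g :=
  IsPullback.of_iso_pullback ⟨by rw [reassoc_of% hq, Category.assoc, pullback.condition]⟩
    (asIso (kappa D str q hq)) (kappa_fst D str q hq) (kappa_snd D str q hq)

variable {T' : Scheme.{u}} {j' : T' ⟶ S} (k : T' ⟶ T) (hk : k ≫ j = j') {U' : Scheme.{u}}
  (str' : U' ⟶ T') (gU : U' ⟶ U) (h : IsPullback gU str' str k)
  (q' : pullback (D.obj.hom ≫ g) j' ⟶ U')
  (hq' : q' ≫ str' = pullback.snd (D.obj.hom ≫ g) j')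
  (hqq : q' ≫ gU = bcY (D.obj.hom ≫ g) k hk ≫ q)

include hqq in
theorem isPullback_kappa : IsPullback (bcY (D.obj.hom ≫ g) k hk) (kappa D str' q' hq')
    (kappa D str q hq) (pullback.map (str' ≫ j') g (str ≫ j) g gU (𝟙 X) (𝟙 S)
        (by rw [reassoc_of% h.w, hk, Category.comp_id]) (by simp)) := by
  refine IsPullback.of_bot ?_ ?_ (isPullback_bcP k hk g str str' gU h)
  · rw [reassoc_of% (kappa_fst D str' q' hq'), reassoc_of% (kappa_fst D str q hq), hq, hq']
    exact isPullback_bcY _ k hk
  · apply pullback.hom_ext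
    · simp only [Category.assoc, kappa_fst, pullback.lift_fst, reassoc_of% (kappa_fst D str' q' hq'),
        hqq]
    · simp only [Category.assoc, kappa_snd, pullback.lift_snd, Category.comp_id,
        reassoc_of% (bcY_fst (D.obj.hom ≫ g) k hk)]

end kappa

variable {I : Type u} [SmallCategory I] [IsCofiltered I] {Dg : I ⥤ Scheme.{u}} {c : Cone Dg}
  (hc : IsLimit c) [∀ (i j : I) (a : i ⟶ j), IsAffineHom (Dg.map a)]
  [∀ i, CompactSpace (Dg.obj i)] [∀ i, QuasiSeparatedSpace (Dg.obj i)]
  (t : ∀ i, Dg.obj i ⟶ S) (ht : ∀ {i j : I} (a : i ⟶ j), Dg.map a ≫ t j = t i)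
  {jl : c.pt ⟶ S} (hjl : ∀ i, c.π.app i ≫ t i = jl)

include hc ht hjl in
/-- Étale effectiveness over a limit of quasi-compact quasi-separated schemes comes from a
stage. -/
theorem exists_eff_stage [QuasiCompact g] [QuasiSeparated g]
    [LocallyOfFinitePresentation D.obj.hom] [QuasiCompact D.obj.hom] [QuasiSeparated D.obj.hom]
    (E : Eff D jl) [CompactSpace E.base] [QuasiSeparatedSpace E.base] :
    ∃ i, Nonempty (Eff D (t i)) := by
  let zg := D.obj.hom ≫ g
  haveI : QuasiCompact zg := inferInstanceAs (QuasiCompact (D.obj.hom ≫ g))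
  haveI : QuasiSeparated zg := inferInstanceAs (QuasiSeparated (D.obj.hom ≫ g))
  haveI := E.etale
  haveI hZc : ∀ i, CompactSpace (pullback zg (t i) : Scheme.{u}) := fun i =>
    QuasiCompact.compactSpace_of_compactSpace (pullback.snd zg (t i))
  haveI hZs : ∀ i, QuasiSeparatedSpace (pullback zg (t i) : Scheme.{u}) := fun i =>
    quasiSeparatedSpace_of_quasiSeparated (pullback.snd zg (t i))
  -- a model of the descended scheme
  obtain ⟨i₀, U₀, str₀, gU₀, h₁, h₂, h₃, hU₀⟩ := hasModel hc E.str
  obtain ⟨i, φ₀, he⟩ := descends_etale Dg c hc inferInstance inferInstance inferInstance i₀ U₀ str₀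
    h₂ h₃ h₁ _ _ _ hU₀ E.etale
  obtain ⟨-, hUc, hUs, hU⟩ := HasModel.at_finer h₁ h₂ h₃ hU₀ φ₀
  obtain ⟨U, str, gU, he, hUc, hUs, hU⟩ : ∃ (U : Scheme.{u}) (str : U ⟶ Dg.obj i)
      (gU : E.base ⟶ U), Etale str ∧ CompactSpace U ∧ QuasiSeparatedSpace U ∧
        IsPullback gU E.str str (c.π.app i) := ⟨_, _, _, he, hUc, hUs, hU⟩
  haveI := he
  haveI := hUc
  haveI := hUs
  -- the projection
  let tY : bcDiag Dg i (pullback.snd zg (t i)) ⟶ (Functor.const (Over i)).obj (Dg.obj i) :=
    bcι Dg i _ ≫ ({ app := fun k => Dg.map k.hom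
                    naturality := fun k l a => by simp [← Dg.map_comp] } :
      Over.forget i ⋙ Dg ⟶ (Functor.const (Over i)).obj (Dg.obj i))
  have hY := isPullback_bcY zg (c.π.app i) (hjl i)
  obtain ⟨k, a, ha₁, ha₂⟩ := Scheme.exists_π_app_comp_eq_of_locallyOfFinitePresentation
    (bcDiag Dg i (pullback.snd zg (t i))) tY str _ (isLimitBcCone hc hY) (E.q ≫ gU) (by
      ext l
      simp [tY, hU.w, reassoc_of% E.q_str, zg])
  change a ≫ str = pullback.snd _ _ ≫ Dg.map k.hom at ha₂
  change pullback.lift _ _ _ ≫ a = E.q ≫ gU at ha₁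
  have hkt : Dg.map k.hom ≫ t i = t k.left := ht k.hom
  let e : pullback zg (t k.left) ⟶ pullback (pullback.snd zg (t i)) (Dg.map k.hom) :=
    pullback.lift (bcY zg (Dg.map k.hom) hkt) (pullback.snd _ _) (bcY_snd zg (Dg.map k.hom) hkt)
  let strk := pullback.snd str (Dg.map k.hom)
  let qk : pullback zg (t k.left) ⟶ pullback str (Dg.map k.hom) :=
    pullback.lift (e ≫ a) (pullback.snd _ _) (by
      rw [Category.assoc, ha₂, reassoc_of% (pullback.lift_snd _ _ _ : e ≫ pullback.snd _ _ = _)])
  have hqk : qk ≫ strk = pullback.snd zg (t k.left) := pullback.lift_snd _ _ _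
  let gUk : E.base ⟶ pullback str (Dg.map k.hom) := pullback.lift gU (E.str ≫ c.π.app k.left)
    (by rw [hU.w, Category.assoc, c.w])
  have hUk : IsPullback gUk E.str strk (c.π.app k.left) :=
    IsPullback.of_right (by simpa [gUk] using hU) (by simp [gUk, strk])
      (IsPullback.of_hasPullback _ _)
  have hqq : E.q ≫ gUk = bcY zg (c.π.app k.left) (hjl k.left) ≫ qk := by
    apply pullback.hom_ext
    · simp only [gUk, qk, Category.assoc, pullback.lift_fst]
      rw [← ha₁, ← Category.assoc]
      congr 1
      apply pullback.hom_ext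
      · simp only [e, Category.assoc, pullback.lift_fst]
        apply pullback.hom_ext
        · simp only [Category.assoc, bcY_fst, zg]
        · simp only [Category.assoc, bcY_snd, zg]
          rw [← Category.assoc (bcY _ _ _), bcY_snd, Category.assoc, c.w]
      · simp only [e, Category.assoc, pullback.lift_snd, bcY_snd, zg]
    · simp only [gUk, qk, Category.assoc, pullback.lift_snd, bcY_snd, zg, reassoc_of% E.q_str]
  -- cartesian at a stage
  haveI : CompactSpace (pullback str (Dg.map k.hom) : Scheme.{u}) :=
    QuasiCompact.compactSpace_of_compactSpace (pullback.fst str (Dg.map k.hom))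
  haveI : QuasiSeparatedSpace (pullback str (Dg.map k.hom) : Scheme.{u}) :=
    quasiSeparatedSpace_of_quasiSeparated (pullback.fst str (Dg.map k.hom))
  haveI : CompactSpace (pullback (strk ≫ t k.left) g : Scheme.{u}) :=
    QuasiCompact.compactSpace_of_compactSpace (pullback.fst (strk ≫ t k.left) g)
  haveI : QuasiSeparatedSpace (pullback (strk ≫ t k.left) g : Scheme.{u}) :=
    quasiSeparatedSpace_of_quasiSeparated (pullback.fst (strk ≫ t k.left) g)
  haveI : LocallyOfFinitePresentation (kappa D strk qk hqk) := by
    let α : pullback (strk ≫ t k.left) g ⟶ pullback (t k.left) g :=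
      pullback.map (strk ≫ t k.left) g (t k.left) g strk (𝟙 X) (𝟙 S) (by simp) (by simp)
    haveI : LocallyOfFiniteType α := by
      have h1 : IsPullback (pullback.fst (strk ≫ t k.left) g) α strk
          (pullback.fst (t k.left) g) :=
        IsPullback.of_bot (IsPullback.of_hasPullback (strk ≫ t k.left) g |> fun h => by
          simpa [α] using h) (pullback.lift_fst _ _ _).symm
          (IsPullback.of_hasPullback (t k.left) g)
      exact MorphismProperty.of_isPullback (P := @LocallyOfFiniteType) h1
        (inferInstance : LocallyOfFiniteType strk)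
    haveI : LocallyOfFinitePresentation (kappa D strk qk hqk ≫ α) := by
      have h1 : IsPullback (pullback.fst zg (t k.left)) (kappa D strk qk hqk ≫ α) D.obj.hom
          (pullback.snd (t k.left) g) := by
        refine IsPullback.of_bot ?_ ?_ (IsPullback.of_hasPullback (t k.left) g).flip
        · have e : (kappa D strk qk hqk ≫ α) ≫ pullback.fst (t k.left) g =
              pullback.snd zg (t k.left) := by
            simp only [α, Category.assoc, pullback.lift_fst, reassoc_of% (kappa_fst D strk qk hqk),
              hqk, zg]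
          rw [e]
          exact IsPullback.of_hasPullback _ _
        · simp only [α, Category.assoc, pullback.lift_snd, Category.comp_id,
            kappa_snd D strk qk hqk, zg]
      exact MorphismProperty.of_isPullback (P := @LocallyOfFinitePresentation) h1
        ‹LocallyOfFinitePresentation D.obj.hom›
    exact MorphismProperty.of_postcomp (W' := @LocallyOfFiniteType) @LocallyOfFinitePresentation
      (kappa D strk qk hqk) α inferInstance ‹LocallyOfFinitePresentation _›
  have hXsq := isPullback_kappa D strk qk hqk (c.π.app k.left) (hjl k.left) E.str gUk hUk E.q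
    E.q_str hqq
  have hYsq := isPullback_bcP (c.π.app k.left) (hjl k.left) g strk E.str gUk hUk
  have hEiso : IsIso (kappa D E.str E.q E.q_str) := by
    have : kappa D E.str E.q E.q_str = E.isPullback.isoPullback.hom := by
      apply pullback.hom_ext <;> simp [kappa]
    rw [this]
    exact E.isPullback.isoPullback.isIso_hom
  obtain ⟨l, ψ, Xi, Yi, fi, gi, pY, pX, hYi, hXi, hfi⟩ := descends_isIso.exists_stage hc
    (kappa D strk qk hqk) hYsq hXsq (show LocallyOfFinitePresentation _ by infer_instance) hEiso
  have hψ : Dg.map ψ ≫ t k.left = t l := ht ψ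
  let strl := pullback.snd strk (Dg.map ψ)
  let gl := pullback.fst strk (Dg.map ψ)
  let ql : pullback zg (t l) ⟶ pullback strk (Dg.map ψ) :=
    pullback.lift (bcY zg (Dg.map ψ) hψ ≫ qk) (pullback.snd _ _) (by
      rw [Category.assoc, hqk, bcY_snd])
  have hql : ql ≫ strl = pullback.snd zg (t l) := pullback.lift_snd _ _ _
  have hgl : IsPullback gl strl strk (Dg.map ψ) := IsPullback.of_hasPullback _ _
  have hlsq := isPullback_kappa D strk qk hqk (Dg.map ψ) hψ strl gl hgl ql hql
    (pullback.lift_fst _ _ _)
  have hPl := isPullback_bcP (Dg.map ψ) hψ g strk strl gl hgl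
  haveI : IsIso (kappa D strl ql hql) := property_of_factor (P := MorphismProperty.isomorphisms _)
    hXi hlsq (hYi.lift _ _ hPl.w) (hYi.lift_fst _ _ _) hfi
  have hUl := isPullback_of_isIso_kappa D strl ql hql
  haveI hel : Etale strl := inferInstance
  -- related points
  obtain ⟨tgt, htgt, htgtX⟩ := exists_rel (D := D) (pullback.fst zg g) (pullback.snd zg g)
    (by rw [Category.assoc]; exact pullback.condition)
  have htgt' : tgt ≫ zg = pullback.fst zg g ≫ zg := by
    simp only [zg, reassoc_of% htgtX]
    exact pullback.condition.symm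
  let r := pullback.fst zg g ≫ zg
  haveI : QuasiCompact r := inferInstanceAs (QuasiCompact (pullback.fst zg g ≫ zg))
  haveI : QuasiSeparated r := inferInstanceAs (QuasiSeparated (pullback.fst zg g ≫ zg))
  haveI : CompactSpace (pullback r (t l) : Scheme.{u}) :=
    QuasiCompact.compactSpace_of_compactSpace (pullback.snd r (t l))
  haveI : QuasiSeparatedSpace (pullback r (t l) : Scheme.{u}) :=
    quasiSeparatedSpace_of_quasiSeparated (pullback.snd r (t l))
  let A : pullback r (t l) ⟶ pullback zg (t l) :=
    pullback.lift (pullback.fst _ _ ≫ pullback.fst zg g) (pullback.snd _ _) (by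
      rw [Category.assoc]; exact pullback.condition)
  let B : pullback r (t l) ⟶ pullback zg (t l) :=
    pullback.lift (pullback.fst _ _ ≫ tgt) (pullback.snd _ _) (by
      rw [Category.assoc, htgt']; exact pullback.condition)
  let tR : bcDiag Dg l (pullback.snd r (t l)) ⟶ (Functor.const (Over l)).obj (Dg.obj l) :=
    bcι Dg l _ ≫ ({ app := fun k => Dg.map k.hom
                    naturality := fun k l a => by simp [← Dg.map_comp] } :
      Over.forget l ⋙ Dg ⟶ (Functor.const (Over l)).obj (Dg.obj l))
  have hR := isPullback_bcY r (c.π.app l) (hjl l)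
  let gUl : E.base ⟶ pullback strk (Dg.map ψ) := pullback.lift gUk (E.str ≫ c.π.app l)
    (by rw [hUk.w, Category.assoc, c.w])
  have hqql : bcY zg (c.π.app l) (hjl l) ≫ ql = E.q ≫ gUl := by
    apply pullback.hom_ext
    · simp only [gUl, ql, Category.assoc, pullback.lift_fst, hqq]
      rw [← Category.assoc]
      congr 1
      apply pullback.hom_ext
      · simp only [Category.assoc, bcY_fst, zg]
      · simp only [Category.assoc, bcY_snd, zg]
        rw [← Category.assoc, bcY_snd, Category.assoc, c.w]
    · simp only [gUl, ql, Category.assoc, pullback.lift_snd, bcY_snd, zg, reassoc_of% E.q_str]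
  obtain ⟨m, μ, hm⟩ := Scheme.exists_hom_comp_eq_comp_of_locallyOfFiniteType
    (bcDiag Dg l (pullback.snd r (t l))) tR strl _ (isLimitBcCone hc hR) (i := Over.mk (𝟙 l))
    (pullback.fst _ _ ≫ A ≫ ql) (pullback.fst _ _ ≫ B ≫ ql)
    (by simp [tR, hql, A, pullback.condition]) (by simp [tR, hql, B, pullback.condition])
    (by
      simp only [Groth.Agent.LimLib.bcCone_π_app]
      rw [pullback.lift_fst_assoc, pullback.lift_fst_assoc]
      let A' : pullback r jl ⟶ pullback zg jl :=
        pullback.lift (pullback.fst _ _ ≫ pullback.fst zg g) (pullback.snd _ _) (by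
          rw [Category.assoc]; exact pullback.condition)
      let B' : pullback r jl ⟶ pullback zg jl :=
        pullback.lift (pullback.fst _ _ ≫ tgt) (pullback.snd _ _) (by
          rw [Category.assoc, htgt']; exact pullback.condition)
      have hA : bcY r (c.π.app l) (hjl l) ≫ A = A' ≫ bcY zg (c.π.app l) (hjl l) := by
        apply pullback.hom_ext
        · simp only [A, A', Category.assoc, pullback.lift_fst, bcY_fst]
          rw [← Category.assoc, bcY_fst]
        · simp only [A, A', Category.assoc, pullback.lift_snd, bcY_snd]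
          rw [← Category.assoc, pullback.lift_snd]
      have hB : bcY r (c.π.app l) (hjl l) ≫ B = B' ≫ bcY zg (c.π.app l) (hjl l) := by
        apply pullback.hom_ext
        · simp only [B, B', Category.assoc, pullback.lift_fst, bcY_fst]
          rw [← Category.assoc, bcY_fst]
        · simp only [B, B', Category.assoc, pullback.lift_snd, bcY_snd]
          rw [← Category.assoc, pullback.lift_snd]
      rw [reassoc_of% hA, reassoc_of% hB, hqql, ← Category.assoc A', ← Category.assoc B']
      congr 1
      refine E.compat A' B' ?_ ((pullback.lift_snd _ _ _).trans (pullback.lift_snd _ _ _).symm)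
      have e1 : A' ≫ pullback.fst zg jl = pullback.fst r jl ≫ pullback.fst zg g :=
        pullback.lift_fst _ _ _
      have e2 : B' ≫ pullback.fst zg jl = pullback.fst r jl ≫ tgt := pullback.lift_fst _ _ _
      exact (congrArg₂ (Rel D) e1 e2).mpr (rel_comp _ htgt))
  have hmt : Dg.map m.hom ≫ t l = t m.left := ht m.hom
  let strm := pullback.snd strl (Dg.map m.hom)
  let qm : pullback zg (t m.left) ⟶ pullback strl (Dg.map m.hom) :=
    pullback.lift (bcY zg (Dg.map m.hom) hmt ≫ ql) (pullback.snd _ _) (by
      rw [Category.assoc, hql, bcY_snd])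
  have hqm : qm ≫ strm = pullback.snd zg (t m.left) := pullback.lift_snd _ _ _
  have hgm : IsPullback (pullback.fst strl (Dg.map m.hom)) strm strl (Dg.map m.hom) :=
    IsPullback.of_hasPullback _ _
  haveI : IsIso (kappa D strm qm hqm) := by
    have := isPullback_kappa D strl ql hql (Dg.map m.hom) hmt strm _ hgm qm hqm
      (pullback.lift_fst _ _ _)
    exact MorphismProperty.of_isPullback (P := MorphismProperty.isomorphisms _) this
      (show IsIso (kappa D strl ql hql) by infer_instance)
  let isP := isPullback_of_isIso_kappa D strm qm hqm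
  refine ⟨m.left, ⟨⟨pullback strl (Dg.map m.hom), strm, inferInstance, qm, hqm, isP,
    fun W a b hr hs => ?_⟩⟩⟩
  apply pullback.hom_ext
  · simp only [qm, Category.assoc, pullback.lift_fst]
    have hw : ((a ≫ pullback.fst zg (t m.left)) ≫ zg) =
        (b ≫ pullback.fst zg (t m.left) ≫ D.obj.hom) ≫ g := by
      simpa only [zg, Category.assoc] using hr.1
    let w₀ : W ⟶ pullback zg g := pullback.lift (a ≫ pullback.fst _ _)
      (b ≫ pullback.fst _ _ ≫ D.obj.hom) hw
    have hw₁ : w₀ ≫ pullback.fst zg g = a ≫ pullback.fst _ _ := pullback.lift_fst _ _ _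
    have hw₂ : w₀ ≫ tgt = b ≫ pullback.fst zg (t m.left) := by
      have r1 := rel_comp w₀ htgt
      rw [hw₁] at r1
      refine rel_unique r1 hr ?_
      rw [Category.assoc, htgtX]
      exact (pullback.lift_snd _ _ _).trans (Category.assoc _ _ _).symm
    let w₁ : W ⟶ pullback r (t l) := pullback.lift w₀ (a ≫ pullback.snd _ _ ≫ Dg.map m.hom) (by
      change w₀ ≫ pullback.fst zg g ≫ zg = _
      rw [reassoc_of% hw₁, Category.assoc, Category.assoc, hmt, pullback.condition])
    let w₂ : W ⟶ (bcDiag Dg l (pullback.snd r (t l))).obj m :=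
      pullback.lift w₁ (a ≫ pullback.snd _ _) (by
        change w₁ ≫ pullback.snd r (t l) = _
        simp [w₁])
    have hwa : w₁ ≫ A = a ≫ bcY zg (Dg.map m.hom) hmt := by
      apply pullback.hom_ext
      · simp only [A, w₁, Category.assoc, pullback.lift_fst, pullback.lift_fst_assoc, bcY_fst]
        exact hw₁
      · simp only [A, w₁, Category.assoc, pullback.lift_snd, bcY_snd]; rfl
    have hwb : w₁ ≫ B = b ≫ bcY zg (Dg.map m.hom) hmt := by
      apply pullback.hom_ext
      · simp only [B, w₁, Category.assoc, pullback.lift_fst, pullback.lift_fst_assoc, bcY_fst]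
        exact hw₂
      · simp only [B, w₁, Category.assoc, pullback.lift_snd, bcY_snd]
        rw [reassoc_of% hs]
    have h4 := congrArg (w₂ ≫ ·) hm
    have e : w₂ ≫ (bcDiag Dg l (pullback.snd r (t l))).map μ ≫ pullback.fst _ _ = w₁ := by
      simp [w₂]
    simp only [← Category.assoc] at h4 e
    rw [e] at h4
    rw [hwa, hwb] at h4
    simpa only [Category.assoc] using h4
  · simp only [qm, Category.assoc, pullback.lift_snd]
    exact hs

end Groth.Agent.SGA1Desc
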