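import Mathlib
import Groth.Agent.SGA1Desc.LimEff
import Groth.Agent.LimLib.StalkSystem

/-!
# Étale effectiveness near a point and over the local ring
-/

set_option autoImplicit false
set_option linter.style.haveILetI false
set_option maxHeartbeats 400000
set_option backward.isDefEq.respectTransparency false

universe u

open CategoryTheory CategoryTheory.Limits AlgebraicGeometry Topology TopologicalSpace

namespace Groth.Agent.SGA1Desc

variable {X S T : Scheme.{u}} {g : X ⟶ S} {D : Desc.SchDD g} {j : T ⟶ S}

theorem Eff.surjective_q (E : Eff D j) (hg : SGA1.UnivSubmersive g) : Surjective E.q :=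
  SGA1Misc.univSubmersive_surjective (E.univSubmersive_q hg)

theorem Eff.compactSpace_base (E : Eff D j) (hg : SGA1.UnivSubmersive g) [CompactSpace T]
    [QuasiCompact g] [QuasiCompact D.obj.hom] : CompactSpace E.base := by
  haveI : QuasiCompact (D.obj.hom ≫ g) := inferInstance
  haveI : CompactSpace (pullback (D.obj.hom ≫ g) j : Scheme.{u}) :=
    QuasiCompact.compactSpace_of_compactSpace (pullback.snd (D.obj.hom ≫ g) j)
  haveI := E.surjective_q hg
  exact ⟨by rw [← E.q.surjective.range_eq]; exact isCompact_range E.q.continuous⟩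

theorem Eff.quasiSeparatedSpace_base (E : Eff D j) (hg : SGA1.UnivSubmersive g)
    [QuasiSeparatedSpace T] [QuasiCompact g] [QuasiSeparated g]
    [QuasiSeparated D.obj.hom] : QuasiSeparatedSpace E.base := by
  haveI : QuasiSeparated (D.obj.hom ≫ g) := inferInstance
  haveI : QuasiSeparatedSpace (pullback (D.obj.hom ≫ g) j : Scheme.{u}) :=
    quasiSeparatedSpace_of_quasiSeparated (pullback.snd (D.obj.hom ≫ g) j)
  haveI := E.surjective_q hg
  haveI : QuasiCompact E.q := MorphismProperty.of_isPullback E.isPullback.flip ‹QuasiCompact g›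
  refine ⟨fun U V hU hU' hV hV' => ?_⟩
  rw [← Set.image_preimage_eq (U ∩ V) E.q.surjective, Set.preimage_inter]
  exact (QuasiSeparatedSpace.inter_isCompact _ _ (hU.preimage E.q.continuous)
    (QuasiCompact.isCompact_preimage _ hU hU') (hV.preimage E.q.continuous)
    (QuasiCompact.isCompact_preimage _ hV hV')).image E.q.continuous

variable (D) in
/-- Étale effectiveness over the spectrum of the local ring spreads out to a neighbourhood. -/
theorem exists_eff_nbhd (hg : SGA1.UnivSubmersive g) [LocallyOfFinitePresentation g]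
    [QuasiCompact g] [QuasiSeparated g] [LocallyOfFinitePresentation D.obj.hom]
    [QuasiCompact D.obj.hom] [QuasiSeparated D.obj.hom] (a : S)
    (E : Eff D (S.fromSpecStalk a)) : ∃ W : S.Opens, a ∈ W ∧ Nonempty (Eff D W.ι) := by
  obtain ⟨P⟩ := LimLib.nonempty_stalkSystem S a
  obtain ⟨hc⟩ := P.isLimit
  haveI := E.compactSpace_base hg
  haveI := E.quasiSeparatedSpace_base hg
  haveI : ∀ (i k : P.Jᵒᵖ) (e : i ⟶ k), IsAffineHom (P.D.map e) := fun i k e => inferInstance
  obtain ⟨i, ⟨Ei⟩⟩ := exists_eff_stage D hc (fun i => P.ι.app i)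
    (fun e => by simpa using P.ι.naturality e) (fun i => P.fac i) E
  refine ⟨(P.ι.app i : P.D.obj i ⟶ S).opensRange, P.mem i, ⟨Ei.pull
    (P.ι.app i : P.D.obj i ⟶ S).isoOpensRange.inv _
    ((Iso.inv_comp_eq _).2 (Scheme.Hom.isoOpensRange_hom_ι _).symm)⟩⟩

variable (D) in
/-- Étale effectiveness is detected on the local rings. -/
theorem exists_eff_of_forall_stalk (hg : SGA1.UnivSubmersive g) [LocallyOfFinitePresentation g]
    [QuasiCompact g] [QuasiSeparated g] [LocallyOfFinitePresentation D.obj.hom]
    [QuasiCompact D.obj.hom] [QuasiSeparated D.obj.hom]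
    (h : ∀ a : S, Nonempty (Eff D (S.fromSpecStalk a))) : Nonempty (Eff D (𝟙 S)) :=
  exists_eff_of_openCover D hg fun a => exists_eff_nbhd D hg a (h a).some

/-- Restriction of effectiveness on a neighbourhood to the local ring. -/
theorem exists_eff_stalk {W : S.Opens} {a : S} (ha : a ∈ W) (E : Eff D W.ι) :
    Nonempty (Eff D (S.fromSpecStalk a)) :=
  ⟨E.pull (W.fromSpecStalkOfMem a ha) _ (Scheme.Opens.fromSpecStalkOfMem_ι _ _ _)⟩

end Groth.Agent.SGA1Desc
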