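import Mathlib
import Groth.Agent.SGA1Desc.Stalk
import Groth.Agent.SGA1Desc.EffDescend
import Groth.Agent.SGA1Misc.SubmDescent

/-!
# Étale separated effectiveness and faithfully flat extensions of local rings
-/

set_option autoImplicit false
set_option linter.style.haveILetI false
set_option maxHeartbeats 400000
set_option backward.isDefEq.respectTransparency false

universe u

open CategoryTheory CategoryTheory.Limits AlgebraicGeometry Topology TopologicalSpace

namespace Groth.Agent.SGA1Desc

variable {X S T : Scheme.{u}} {g : X ⟶ S} {D : Desc.SchDD g} {j : T ⟶ S}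

theorem Eff.isSeparated_str (E : Eff D j) (hg : SGA1.UnivSubmersive g)
    [IsSeparated D.obj.hom] : IsSeparated E.str := by
  let f' : pullback (D.obj.hom ≫ g) j ⟶ pullback g j :=
    pullback.lift (pullback.fst _ _ ≫ D.obj.hom) (pullback.snd _ _)
      (by rw [Category.assoc, pullback.condition])
  have h1 : IsPullback f' (pullback.fst (D.obj.hom ≫ g) j) (pullback.fst g j) D.obj.hom := by
    refine IsPullback.of_right ?_ (pullback.lift_fst _ _ _)
      (IsPullback.of_hasPullback g j).flip
    rw [pullback.lift_snd]
    exact (IsPullback.of_hasPullback (D.obj.hom ≫ g) j).flip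
  haveI : IsSeparated f' := MorphismProperty.of_isPullback h1.flip ‹IsSeparated D.obj.hom›
  have h2 : IsPullback E.q f' E.str (pullback.snd g j) :=
    IsPullback.of_bot (by rw [pullback.lift_fst]; exact E.isPullback)
      (by rw [pullback.lift_snd, E.q_str]) (IsPullback.of_hasPullback g j).flip
  exact SGA1Misc.isSeparated_of_isPullback h2
    ((MorphismProperty.universally_isStableUnderBaseChange _).of_isPullback
      (IsPullback.of_hasPullback g j) hg) inferInstance

/-- Effectiveness over a faithfully flat affine cover of an affine scheme descends. -/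
theorem exists_eff_of_faithfullyFlat (hg : SGA1.UnivSubmersive g) [QuasiCompact g]
    [QuasiCompact D.obj.hom] [IsSeparated D.obj.hom] {R R' : CommRingCat.{u}} (φ : R ⟶ R')
    (hφ : φ.hom.FaithfullyFlat) {j : Spec R ⟶ S} (E : Eff D (Spec.map φ ≫ j)) :
    ∃ E' : Eff D j, IsSeparated E'.str ∧ QuasiCompact E'.str := by
  obtain ⟨hf, hs⟩ := (flat_and_surjective_SpecMap_iff φ).2 hφ
  haveI := E.compactSpace_base hg
  haveI := E.isSeparated_str hg
  haveI : QuasiCompact E.str := quasiCompact_of_compactSpace E.str
  exact exists_eff_descend' hg E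

end Groth.Agent.SGA1Desc
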