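import Mathlib
import Groth.Agent.SGA1Desc.Piece
import Groth.Agent.SGA1Desc.Etale

/-!
# Pieces along universally submersive morphisms and disjoint decompositions
-/

set_option autoImplicit false
set_option linter.style.haveILetI false
set_option maxHeartbeats 400000
set_option backward.isDefEq.respectTransparency false

universe u

open CategoryTheory CategoryTheory.Limits AlgebraicGeometry Topology TopologicalSpace

namespace Groth.Agent.SGA1Desc

variable {X S : Scheme.{u}} {p : X ⟶ S} {D : Desc.SchDD p}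

/-- A piece along a universally submersive morphism restricts to smaller stable opens. -/
theorem Piece.exists_restrict {W W' : D.obj.left.Opens} (P : Piece D W)
    (hp : SGA1.UnivSubmersive p) (hW' : Stable D W') (h : W' ≤ W) (hP : Etale P.str) :
    ∃ R : Piece D W', Etale R.str := by
  have hq : SGA1.UnivSubmersive P.q :=
    (MorphismProperty.universally_isStableUnderBaseChange _).of_isPullback P.isPullback.flip hp
  have hqm : IsQuotientMap P.q.base := hq _ _ _ IsPullback.of_id_snd
  let V : P.base.Opens := ⟨P.q.base '' (W.ι.base ⁻¹' W'), by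
    rw [← hqm.isOpen_preimage]
    convert (W.ι ⁻¹ᵁ W').isOpen using 1
    ext x
    exact ⟨fun ⟨y, hy, hyx⟩ => P.mem_of_eq hW' hyx hy, fun hx => ⟨x, hx, rfl⟩⟩⟩
  have hpre : P.q ⁻¹ᵁ V = W.ι ⁻¹ᵁ W' := by
    refine TopologicalSpace.Opens.ext (Set.ext fun x => ⟨?_, fun hx => ⟨x, hx, rfl⟩⟩)
    rintro ⟨y, hy, hyx⟩
    exact P.mem_of_eq hW' hyx hy
  have hle : Set.range (D.obj.left.homOfLE h ≫ P.q).base ⊆ Set.range V.ι.base := by
    rintro _ ⟨w, rfl⟩
    rw [Scheme.Opens.range_ι]
    refine ⟨(D.obj.left.homOfLE h).base w, ?_, rfl⟩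
    change (D.obj.left.homOfLE h ≫ W.ι).base w ∈ W'
    rw [Scheme.homOfLE_ι]
    exact w.2
  let q' := IsOpenImmersion.lift V.ι (D.obj.left.homOfLE h ≫ P.q) hle
  have hq' : q' ≫ V.ι = D.obj.left.homOfLE h ≫ P.q := IsOpenImmersion.lift_fac _ _ _
  refine ⟨{ stable := hW', base := V.toScheme, str := V.ι ≫ P.str, q := q', isPullback := ?_,
            compat := fun T a b hab => ?_ }, MorphismProperty.comp_mem _ _ _ inferInstance hP⟩
  · have hr : P.q ⁻¹ᵁ V.ι.opensRange = (D.obj.left.homOfLE h).opensRange := by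
      rw [Scheme.Opens.opensRange_ι, hpre]
      refine TopologicalSpace.Opens.ext (Set.ext fun x => ⟨fun hx => ⟨⟨x.1, hx⟩, ?_⟩, ?_⟩)
      · apply W.ι.isOpenEmbedding.injective
        rw [← Scheme.Hom.comp_apply, Scheme.homOfLE_ι]
        rfl
      · rintro ⟨w, rfl⟩
        change (D.obj.left.homOfLE h ≫ W.ι).base w ∈ W'
        rw [Scheme.homOfLE_ι]
        exact w.2
    have h1 := (IsOpenImmersion.isPullback q' (D.obj.left.homOfLE h) V.ι P.q hq'.symm hr).paste_vert
      P.isPullback
    rwa [Scheme.homOfLE_ι_assoc] at h1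
  · rw [← cancel_mono V.ι, Category.assoc, Category.assoc, hq', ← Category.assoc, ← Category.assoc]
    refine P.compat _ _ ?_
    simpa [Category.assoc] using hab

/-- Étale effectiveness over an open of the base gives a piece over its preimage. -/
theorem Eff.exists_piece (V : S.Opens) (E : Eff D V.ι) :
    ∃ P : Piece D ((D.obj.hom ≫ p) ⁻¹ᵁ V), Etale P.str := by
  let f := D.obj.hom ≫ p
  let e : (f ⁻¹ᵁ V).toScheme ≅ pullback f V.ι :=
    ((isPullback_morphismRestrict f V).flip).isoPullback
  have he1 : e.hom ≫ pullback.fst f V.ι = (f ⁻¹ᵁ V).ι :=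
    ((isPullback_morphismRestrict f V).flip).isoPullback_hom_fst
  have he2 : e.hom ≫ pullback.snd f V.ι = f ∣_ V :=
    ((isPullback_morphismRestrict f V).flip).isoPullback_hom_snd
  have hst : Stable D (f ⁻¹ᵁ V) := fun T a b hab t ht => by
    change ((b ≫ D.obj.hom) ≫ p).base t ∈ V
    rw [← hab.1]
    exact ht
  refine ⟨{ stable := hst, base := E.base, str := E.str ≫ V.ι, q := e.hom ≫ E.q, isPullback := ?_,
            compat := fun T a b hab => ?_ }, MorphismProperty.comp_mem _ _ _ E.etale inferInstance⟩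
  · exact IsPullback.of_iso E.isPullback e.symm (Iso.refl _) (Iso.refl _) (Iso.refl _)
      (by simp [f]) (by
        simp only [Iso.refl_hom, Category.comp_id, Iso.symm_hom]
        rw [← he1]
        simp [f]) (by simp) (by simp)
  · simp only [← Category.assoc]
    refine E.compat _ _ ?_ ?_
    · simp only [Category.assoc]
      refine (congrArg₂ (Rel D) (congrArg (a ≫ ·) he1) (congrArg (b ≫ ·) he1)).mpr ?_
      exact hab
    · simp only [Category.assoc]
      refine (congrArg (a ≫ ·) he2).trans (Eq.trans ?_ (congrArg (b ≫ ·) he2).symm)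
      rw [← cancel_mono V.ι, Category.assoc, Category.assoc, morphismRestrict_ι]
      simpa [f, Category.assoc] using hab.1

/-- A descent datum split into disjoint stable opens with étale pieces is étale effective. -/
theorem exists_eff_of_disjoint {ι : Type u} (C : ι → D.obj.left.Opens)
    (P : ∀ i, Piece D (C i)) (hP : ∀ i, Etale (P i).str)
    (hcov : ∀ x, ∃ i, x ∈ C i) (hdis : ∀ x i i', x ∈ C i → x ∈ C i' → i = i') :
    Nonempty (Eff D (𝟙 S)) := by
  let U := ∐ fun i => (P i).base
  let str : U ⟶ S := Sigma.desc fun i => (P i).str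
  let inj : ∀ i, (P i).base ⟶ U := Sigma.ι _
  have hinj : ∀ i, inj i ≫ str = (P i).str := fun i => Sigma.ι_desc _ _
  haveI : ∀ i, IsOpenImmersion (inj i) := fun i =>
    inferInstanceAs (IsOpenImmersion (Sigma.ι (fun i => (P i).base) i))
  have hC : IsOpenCover C :=
    IsOpenCover.mk (eq_top_iff.2 fun x _ => Opens.mem_iSup.2 (hcov x))
  let 𝒰 := D.obj.left.openCoverOfIsOpenCover C hC
  let q : D.obj.left ⟶ U := 𝒰.glueMorphisms (fun i => (P i).q ≫ inj i) fun i i' => by
    by_cases hii : i = i'
    · subst hii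
      have : pullback.fst (C i).ι (C i).ι = pullback.snd (C i).ι (C i).ι := by
        rw [← cancel_mono (C i).ι]
        exact pullback.condition
      exact congrArg (· ≫ (P i).q ≫ inj i) this
    · haveI : IsEmpty (pullback (𝒰.f i) (𝒰.f i') : Scheme.{u}) := ⟨fun t => hii (by
        have e : (pullback.fst (C i).ι (C i').ι ≫ (C i).ι).base t =
            (pullback.snd (C i).ι (C i').ι ≫ (C i').ι).base t := by rw [pullback.condition]
        exact hdis _ i i' ((pullback.fst (C i).ι (C i').ι).base t).2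
          (by
            change ((pullback.fst (C i).ι (C i').ι ≫ (C i).ι).base t) ∈ C i'
            rw [e]
            exact ((pullback.snd (C i).ι (C i').ι).base t).2))⟩
      exact (isInitialOfIsEmpty (X := pullback (𝒰.f i) (𝒰.f i'))).hom_ext _ _
  have hq : ∀ i, (C i).ι ≫ q = (P i).q ≫ inj i := fun i => 𝒰.ι_glueMorphisms _ _ i
  have hqs : q ≫ str = D.obj.hom ≫ p := by
    refine Scheme.Cover.hom_ext 𝒰 _ _ fun i => ?_
    change (C i).ι ≫ q ≫ str = (C i).ι ≫ D.obj.hom ≫ p
    rw [reassoc_of% (hq i), hinj, (P i).q_w]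
  have hqp : ∀ i, q ⁻¹ᵁ (inj i).opensRange = C i := by
    intro i
    refine TopologicalSpace.Opens.ext (Set.ext fun x => ⟨?_, fun hx => ?_⟩)
    · rintro ⟨y, hy⟩
      obtain ⟨i', hi'⟩ := hcov x
      have e : q.base x = (inj i').base ((P i').q.base ⟨x, hi'⟩) := by
        rw [← Scheme.Hom.comp_apply, ← hq]
        rfl
      by_cases hii : i = i'
      · exact hii ▸ hi'
      · exfalso
        have h0 := eq_bot_iff.mp (disjoint_iff.mp
          (disjoint_opensRange_sigmaι (fun i => (P i).base) i i' hii))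
        exact h0 (x := q.base x) ⟨⟨y, hy⟩, ⟨_, e.symm⟩⟩
    · refine ⟨(P i).q.base ⟨x, hx⟩, ?_⟩
      rw [← Scheme.Hom.comp_apply, ← hq]
      rfl
  let π := pullback.fst (D.obj.hom ≫ p) (𝟙 S)
  haveI : IsIso π := inferInstanceAs (IsIso (pullback.fst (D.obj.hom ≫ p) (𝟙 S)))
  have hst : IsPullback q D.obj.hom str p := by
    refine Scheme.isPullback_of_openCover _ _ _ _ (sigmaOpenCover fun i => (P i).base) fun i => ?_
    have h1 : IsPullback (P i).q (C i).ι (inj i) q :=
      IsOpenImmersion.isPullback _ _ _ _ (hq i)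
        ((hqp i).trans (Scheme.Opens.opensRange_ι (C i)).symm)
    let e := h1.flip.isoPullback
    refine IsPullback.of_iso (P i).isPullback e (Iso.refl _) (Iso.refl _) (Iso.refl _) ?_ ?_ ?_ ?_
    · simp only [Iso.refl_hom, Category.comp_id]
      exact h1.flip.isoPullback_hom_snd.symm
    · simp only [Iso.refl_hom, Category.comp_id]
      change _ = e.hom ≫ pullback.fst q _ ≫ D.obj.hom
      rw [h1.flip.isoPullback_hom_fst_assoc]
    · simp only [Iso.refl_hom, Category.comp_id, Category.id_comp]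
      exact (hinj i).symm
    · simp
  refine ⟨⟨U, str, ?_, π ≫ q, ?_, ?_, fun W a b hab _ => ?_⟩⟩
  · exact IsZariskiLocalAtSource.sigmaDesc hP
  · rw [Category.assoc, hqs]
    exact pullback.condition.trans (Category.comp_id _)
  · rw [Category.comp_id]
    exact IsPullback.of_iso hst (asIso π).symm (Iso.refl _) (Iso.refl _) (Iso.refl _)
      (by simp) (by
        simp only [Iso.refl_hom, Category.comp_id, Iso.symm_hom, asIso_inv]
        exact (IsIso.inv_hom_id_assoc π D.obj.hom).symm) (by simp) (by simp)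
  · simp only [← Category.assoc]
    generalize a ≫ π = a₀ at hab
    generalize b ≫ π = b₀ at hab
    let A := fun i => a₀ ⁻¹ᵁ C i
    have hA : IsOpenCover A :=
      IsOpenCover.mk (eq_top_iff.2 fun t _ => Opens.mem_iSup.2 (hcov (a₀.base t)))
    refine Scheme.Cover.hom_ext (W.openCoverOfIsOpenCover A hA) _ _ fun i => ?_
    change (A i).ι ≫ a₀ ≫ q = (A i).ι ≫ b₀ ≫ q
    have hb : A i ≤ b₀ ⁻¹ᵁ C i := (P i).stable _ _ hab
    let a' := a₀.resLE (C i) (A i) le_rfl
    let b' := b₀.resLE (C i) (A i) hb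
    have ha' : a' ≫ (C i).ι = (A i).ι ≫ a₀ := Scheme.Hom.resLE_comp_ι _ _
    have hb' : b' ≫ (C i).ι = (A i).ι ≫ b₀ := Scheme.Hom.resLE_comp_ι _ _
    have := (P i).compat a' b' (by rw [ha', hb']; exact rel_comp _ hab)
    rw [← reassoc_of% ha', ← reassoc_of% hb', hq, reassoc_of% this]

end Groth.Agent.SGA1Desc
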