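import Mathlib
import Groth.Agent.SGA1Desc.Disjoint
import Groth.Agent.Hens.FinitePart
import Groth.Agent.SGA1Quot.Sigma

/-!
# Descent data along finite surjective morphisms over a strictly henselian local ring

The part of an étale separated descent datum which meets the closed fibre is a disjoint union of
stable pieces, one for each class of points of the closed fibre, each descending to the base.
-/

set_option autoImplicit false
set_option linter.style.haveILetI false
set_option maxHeartbeats 800000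
set_option backward.isDefEq.respectTransparency false

universe u

open CategoryTheory CategoryTheory.Limits AlgebraicGeometry Topology TopologicalSpace IsLocalRing
open Groth.Agent.Hens (FinPart.exists_finPart FinPart.range_subset_of_forall_closedPoint
  FinPart.subset_of_forall_closedPoint)
open Groth.Agent.EtaleSite (closedPt)

namespace Groth.Agent.SGA1Desc

variable (R : Type u) [CommRing R] [HenselianLocalRing R]

theorem closedPt_apply (t : Spec (CommRingCat.of (ResidueField R))) :
    (closedPt R).base t = closedPoint R := by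
  haveI : IsLocalHom (CommRingCat.ofHom (residue R)).hom := inferInstanceAs (IsLocalHom (residue R))
  rw [show t = closedPoint (ResidueField R) from Subsingleton.elim _ _]
  exact Spec_closedPoint (f := CommRingCat.ofHom (residue R))

theorem isClosedImmersion_closedPt : IsClosedImmersion (closedPt R) :=
  IsClosedImmersion.spec_of_surjective (CommRingCat.ofHom (residue R))
    (residue_surjective (R := R))

variable {R} [IsAlgClosed (ResidueField R)] {Y : Scheme.{u}}
  (g : Y ⟶ Spec (CommRingCat.of R)) [LocallyOfFiniteType g]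

/-- Two rational points over the closed point with the same image agree. -/
theorem kpt_ext {P Q : Spec (CommRingCat.of (ResidueField R)) ⟶ Y} (hP : P ≫ g = closedPt R)
    (hQ : Q ≫ g = closedPt R)
    (h : P.base (closedPoint (ResidueField R)) = Q.base (closedPoint (ResidueField R))) :
    P = Q := by
  haveI := isClosedImmersion_closedPt R
  let P' := pullback.lift (f := g) (g := closedPt R) P (𝟙 _) (by simpa using hP)
  let Q' := pullback.lift (f := g) (g := closedPt R) Q (𝟙 _) (by simpa using hQ)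
  have : P' = Q' := by
    refine ext_of_apply_closedPoint_eq (pullback.snd g (closedPt R)) (pullback.lift_snd _ _ _)
      (pullback.lift_snd _ _ _) ?_
    haveI : IsClosedImmersion (pullback.fst g (closedPt R)) :=
      MorphismProperty.pullback_fst _ _ ‹IsClosedImmersion (closedPt R)›
    refine (pullback.fst g (closedPt R)).isClosedEmbedding.injective ?_
    rw [← Scheme.Hom.comp_apply, ← Scheme.Hom.comp_apply, pullback.lift_fst, pullback.lift_fst]
    exact h
  simpa [P', Q'] using congrArg (· ≫ pullback.fst g (closedPt R)) this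

/-- Points over the closed point are rational. -/
theorem exists_kpt [LocallyQuasiFinite g] (y : Y) (hy : g.base y = closedPoint R) :
    ∃ P : Spec (CommRingCat.of (ResidueField R)) ⟶ Y, P ≫ g = closedPt R ∧
      P.base (closedPoint (ResidueField R)) = y := by
  obtain ⟨ζ, hζ, -⟩ := Scheme.Pullback.exists_preimage_pullback (f := g) (g := closedPt R) y
    (closedPoint (ResidueField R)) (hy.trans (closedPt_apply R _).symm)
  let π := pullback.snd g (closedPt R)
  haveI : LocallyQuasiFinite π := MorphismProperty.pullback_snd _ _ ‹LocallyQuasiFinite g›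
  have hd : _root_.IsDiscrete (Set.univ : Set (pullback g (closedPt R) : Scheme.{u})) := by
    convert π.isDiscrete_preimage_singleton (closedPoint (ResidueField R)) using 1
    ext x
    simp [Subsingleton.elim (π.base x) (closedPoint (ResidueField R))]
  haveI := isDiscrete_univ_iff.1 hd
  refine ⟨pointOfClosedPoint π ζ (isClosed_discrete _) ≫ pullback.fst g (closedPt R), ?_, ?_⟩
  · rw [Category.assoc, pullback.condition, ← Category.assoc, pointOfClosedPoint_comp]
    exact Category.id_comp _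
  · rw [Scheme.Hom.comp_apply, pointOfClosedPoint_apply]
    exact hζ

variable {X : Scheme.{u}} {p : X ⟶ Spec (CommRingCat.of R)} [IsFinite p] {D : Desc.SchDD p}
  [QuasiCompact D.obj.hom] [IsSeparated D.obj.hom] [Etale D.obj.hom]
  [LocallyQuasiFinite D.obj.hom]

/-- An open finite over the base is stable if it contains the translates of its rational
points. -/
theorem stable_of_kpts (C : D.obj.left.Opens) [IsFinite (C.ι ≫ D.obj.hom ≫ p)]
    (h : ∀ P Q : Spec (CommRingCat.of (ResidueField R)) ⟶ D.obj.left, Rel D P Q →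
      P ≫ D.obj.hom ≫ p = closedPt R → P.base (closedPoint (ResidueField R)) ∈ C →
        Q.base (closedPoint (ResidueField R)) ∈ C) : Stable D C := by
  let f := D.obj.hom ≫ p
  let r := pullback.fst f p
  obtain ⟨b₀, hb₀, hb₀X⟩ := exists_rel (D := D) r (pullback.snd f p)
    (by rw [Category.assoc]; exact pullback.condition)
  haveI : IsFinite r := MorphismProperty.pullback_fst _ _ ‹IsFinite p›
  have hres : (r ⁻¹ᵁ C).ι ≫ r ≫ f = (r ∣_ C) ≫ C.ι ≫ f := by rw [morphismRestrict_ι_assoc]
  haveI : IsFinite (r ∣_ C) := IsZariskiLocalAtTarget.restrict ‹IsFinite r› C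
  haveI : IsFinite (C.ι ≫ f) := ‹IsFinite (C.ι ≫ D.obj.hom ≫ p)›
  haveI : IsFinite ((r ⁻¹ᵁ C).ι ≫ r ≫ f) := by
    rw [hres]; exact MorphismProperty.comp_mem _ _ _ ‹IsFinite (r ∣_ C)› ‹IsFinite (C.ι ≫ f)›
  haveI : LocallyQuasiFinite (r ≫ f) := inferInstanceAs (LocallyQuasiFinite (r ≫ D.obj.hom ≫ p))
  haveI : LocallyOfFiniteType (r ≫ f) := inferInstanceAs (LocallyOfFiniteType (r ≫ D.obj.hom ≫ p))
  have key : Set.range (r ⁻¹ᵁ C).ι.base ⊆ b₀.base ⁻¹' C := by
    refine FinPart.range_subset_of_forall_closedPoint (r ≫ f) (r ⁻¹ᵁ C).ι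
      (C.2.preimage b₀.continuous) fun z hz => ?_
    obtain ⟨Ξ, hΞ, hΞz⟩ := exists_kpt (r ≫ f) ((r ⁻¹ᵁ C).ι.base z) hz
    have h1 : (Ξ ≫ r).base (closedPoint (ResidueField R)) ∈ C := by
      rw [Scheme.Hom.comp_apply, hΞz]
      exact z.2
    have h2 := h (Ξ ≫ r) (Ξ ≫ b₀) (rel_comp Ξ hb₀) (by rw [Category.assoc]; exact hΞ) h1
    rwa [Scheme.Hom.comp_apply, hΞz] at h2
  intro T a b hab t ht
  let l : T ⟶ pullback f p :=
    pullback.lift a (b ≫ D.obj.hom) (by simpa [f, Category.assoc] using hab.1)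
  have hla : l ≫ r = a := pullback.lift_fst _ _ _
  have hlb : l ≫ b₀ = b := by
    have h1 : Rel D (l ≫ r) (l ≫ b₀) := rel_comp l hb₀
    rw [hla] at h1
    refine rel_unique h1 hab ?_
    rw [Category.assoc, hb₀X]
    exact pullback.lift_snd _ _ _
  have hl : l.base t ∈ r ⁻¹ᵁ C := by
    change (l ≫ r).base t ∈ C
    rw [hla]
    exact ht
  change b.base t ∈ C
  rw [← hlb, Scheme.Hom.comp_apply]
  exact key ⟨⟨l.base t, hl⟩, rfl⟩

/-- An open finite over the base containing exactly one class of rational points maps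
isomorphically to the source. -/
theorem isIso_of_orbit (C : D.obj.left.Opens) [IsFinite (C.ι ≫ D.obj.hom ≫ p)]
    (hrel : ∀ A B : Spec (CommRingCat.of (ResidueField R)) ⟶ D.obj.left,
      A ≫ D.obj.hom ≫ p = closedPt R → B ≫ D.obj.hom ≫ p = closedPt R →
      A.base (closedPoint (ResidueField R)) ∈ C → B.base (closedPoint (ResidueField R)) ∈ C →
        Rel D A B)
    (P : Spec (CommRingCat.of (ResidueField R)) ⟶ D.obj.left)
    (hP : P ≫ D.obj.hom ≫ p = closedPt R)
    (hPC : ∀ Q, Rel D P Q → Q.base (closedPoint (ResidueField R)) ∈ C) :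
    IsIso (C.ι ≫ D.obj.hom) := by
  haveI : IsFinite ((C.ι ≫ D.obj.hom) ≫ p) := by rwa [Category.assoc]
  haveI : IsFinite (C.ι ≫ D.obj.hom) := IsFinite.of_comp _ p
  let h := C.ι ≫ D.obj.hom
  haveI : Etale h := inferInstanceAs (Etale (C.ι ≫ D.obj.hom))
  let π := pullback.fst h h ≫ C.ι ≫ D.obj.hom ≫ p
  haveI : IsFinite (pullback.fst h h) := MorphismProperty.pullback_fst _ _ ‹IsFinite h›
  haveI : IsFinite π :=
    MorphismProperty.comp_mem _ _ _ ‹IsFinite (pullback.fst h h)› ‹IsFinite (C.ι ≫ D.obj.hom ≫ p)›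
  haveI : UniversallyClosed (𝟙 (pullback h h) ≫ π) := by rw [Category.id_comp]; infer_instance
  have hd : Set.range (𝟙 (pullback h h) : _ ⟶ _).base ⊆ Set.range (pullback.diagonal h).base := by
    refine FinPart.range_subset_of_forall_closedPoint π (𝟙 _)
      (pullback.diagonal h).isOpenEmbedding.isOpen_range fun ξ hξ => ?_
    obtain ⟨Ξ, hΞ, hΞξ⟩ := exists_kpt π ξ hξ
    let A := (Ξ ≫ pullback.fst h h) ≫ C.ι
    let B := (Ξ ≫ pullback.snd h h) ≫ C.ι
    have hAB : A ≫ D.obj.hom = B ≫ D.obj.hom := by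
      simp only [A, B, Category.assoc]
      exact congrArg (Ξ ≫ ·) (pullback.condition (f := h) (g := h))
    have hA : A ≫ D.obj.hom ≫ p = closedPt R := by simpa [A, π, Category.assoc] using hΞ
    have hB : B ≫ D.obj.hom ≫ p = closedPt R := by
      rw [← reassoc_of% hAB]; exact hA
    have hr : Rel D A B := hrel A B hA hB ((Ξ ≫ pullback.fst h h).base _).2
      ((Ξ ≫ pullback.snd h h).base _).2
    have e : Ξ ≫ pullback.fst h h = Ξ ≫ pullback.snd h h := by
      rw [← cancel_mono C.ι]
      exact rel_unique (rel_refl A) hr hAB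
    have e2 : (Ξ ≫ pullback.fst h h) ≫ pullback.diagonal h = Ξ := by
      apply pullback.hom_ext <;> simp [e]
    refine ⟨(Ξ ≫ pullback.fst h h).base (closedPoint (ResidueField R)), ?_⟩
    rw [← Scheme.Hom.comp_apply, e2]
    exact hΞξ
  haveI : Surjective (pullback.diagonal h) := ⟨fun ξ => hd ⟨ξ, rfl⟩⟩
  haveI : IsIso (pullback.diagonal h) := IsOpenImmersion.isIso _
  haveI : Mono h := ⟨fun {W₀} a b hab => by
    have e : pullback.fst h h = pullback.snd h h := by
      rw [← cancel_epi (pullback.diagonal h)]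
      simp
    simpa using congrArg (pullback.lift a b hab ≫ ·) e⟩
  haveI : IsOpenImmersion h := IsOpenImmersion.of_flat_of_mono h
  haveI : Surjective h := ⟨fun x => by
    refine FinPart.range_subset_of_forall_closedPoint p (𝟙 X)
      h.isOpenEmbedding.isOpen_range (fun y hy => ?_) ⟨x, rfl⟩
    obtain ⟨χ, hχ, hχy⟩ := exists_kpt p y hy
    obtain ⟨b, hub, hbX⟩ := exists_rel (D := D) P χ (by rw [Category.assoc, hχ, hP])
    refine ⟨⟨_, hPC b hub⟩, ?_⟩
    change (b ≫ D.obj.hom).base _ = _
    rw [hbX]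
    exact hχy⟩
  exact IsOpenImmersion.isIso h

variable [IsNoetherianRing R]

/-- Over a strictly henselian local ring, étale separated descent data along finite surjective
morphisms are effective if their restrictions to the punctured spectrum are. -/
theorem exists_eff_of_punctured [Surjective p] (V : (Spec (CommRingCat.of R)).Opens)
    (hV : ∀ x, x ≠ closedPoint R → x ∈ V) (hEV : Nonempty (Eff D V.ι)) :
    Nonempty (Eff D (𝟙 _)) := by
  have hp : SGA1.UnivSubmersive p := SGA1Quot.univSubmersive_of_isFinite_of_surjective p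
  let z := D.obj.hom
  let f := z ≫ p
  let pt : Spec (CommRingCat.of (ResidueField R)) := closedPoint (ResidueField R)
  haveI : QuasiCompact f := inferInstanceAs (QuasiCompact (z ≫ p))
  haveI : IsSeparated f := inferInstanceAs (IsSeparated (z ≫ p))
  haveI : LocallyQuasiFinite f := inferInstanceAs (LocallyQuasiFinite (z ≫ p))
  haveI : LocallyOfFiniteType f := inferInstanceAs (LocallyOfFiniteType (z ≫ p))
  have rel_cpt : ∀ {P Q : Spec (CommRingCat.of (ResidueField R)) ⟶ D.obj.left},
      Rel D P Q → P ≫ f = closedPt R → Q ≫ f = closedPt R := fun {P Q} h hP => by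
    rw [← hP]
    simpa [f, Category.assoc] using h.1.symm
  let Pts := {P : Spec (CommRingCat.of (ResidueField R)) ⟶ D.obj.left // P ≫ f = closedPt R}
  let st : Setoid Pts :=
    ⟨fun P Q => Rel D P.1 Q.1, ⟨fun P => rel_refl _, rel_symm, rel_trans⟩⟩
  have hpt : ∀ P : Pts, f.base (P.1.base pt) = closedPoint R := fun P => by
    rw [← Scheme.Hom.comp_apply, P.2, closedPt_apply]
  let F : Set D.obj.left := f.base ⁻¹' {closedPoint R}
  have hF : F.Finite := f.finite_preimage_singleton _
  let Oc : Quotient st → Set D.obj.left := fun c => {x | ∃ P : Pts, ⟦P⟧ = c ∧ P.1.base pt = x}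
  haveI := isClosedImmersion_closedPt R
  have hcl : ∀ x ∈ F, IsClosed ({x} : Set D.obj.left) := fun x hx => by
    obtain ⟨P, hP, rfl⟩ := exists_kpt f x hx
    haveI : IsClosedImmersion (P ≫ f) := by rw [hP]; infer_instance
    haveI : IsClosedImmersion P := IsClosedImmersion.of_comp P f
    have := P.isClosedEmbedding.isClosed_range
    rwa [Set.range_eq_singleton (y := P.base (closedPoint (ResidueField R)))
      fun t => congrArg P.base (Subsingleton.elim t _)] at this
  -- the opens
  have hW : ∀ O : D.obj.left.Opens, ∃ C : D.obj.left.Opens, C ≤ O ∧ IsClosed (C : Set D.obj.left) ∧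
      IsFinite (C.ι ≫ f) ∧ ∀ x ∈ O, f.base x = closedPoint R → x ∈ C := by
    intro O
    haveI : QuasiCompact (O.ι ≫ f) := by
      haveI : IsLocallyNoetherian D.obj.left := LocallyOfFiniteType.isLocallyNoetherian f
      infer_instance
    obtain ⟨W', -, hW'f, hW'⟩ := FinPart.exists_finPart (O.ι ≫ f)
    let C : D.obj.left.Opens := O.ι ''ᵁ W'
    have hCO : C ≤ O := fun x hx => by
      obtain ⟨w, -, rfl⟩ := hx
      exact w.2
    have hCf : IsFinite (C.ι ≫ f) := by
      have e : (W'.ι ≫ O.ι).opensRange = C := by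
        rw [Scheme.Hom.opensRange_comp, Scheme.Opens.opensRange_ι]
      let i : W'.toScheme ≅ C.toScheme :=
        (W'.ι ≫ O.ι).isoOpensRange ≪≫ Scheme.isoOfEq _ e
      have hi : i.hom ≫ C.ι = W'.ι ≫ O.ι := by simp [i]
      have : C.ι ≫ f = i.inv ≫ W'.ι ≫ O.ι ≫ f := by
        rw [← reassoc_of% hi, Iso.inv_hom_id_assoc]
      rw [this]
      exact MorphismProperty.comp_mem _ _ _ (inferInstanceAs (IsFinite i.inv)) hW'f
    refine ⟨C, hCO, ?_, hCf, fun x hx hxs => ⟨⟨x, hx⟩, hW' ⟨x, hx⟩ hxs, rfl⟩⟩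
    haveI := hCf
    haveI : IsFinite C.ι := IsFinite.of_comp C.ι f
    have := C.ι.isClosedMap.isClosed_range
    rwa [Scheme.Opens.range_ι] at this
  have hO : ∀ c, IsOpen (F \ Oc c)ᶜ := fun c => by
    refine (Set.biUnion_of_singleton (F \ Oc c) ▸ ?_ : IsClosed (F \ Oc c)).isOpen_compl
    exact (hF.subset Set.sdiff_subset).isClosed_biUnion fun x hx => hcl x hx.1
  choose C hCO hCc hCf hCmem using fun c => hW ⟨_, hO c⟩
  have hCF : ∀ c x, f.base x = closedPoint R → (x ∈ C c ↔ x ∈ Oc c) := fun c x hx =>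
    ⟨fun h => by_contra fun hn => hCO c h ⟨hx, hn⟩, fun h => hCmem c x (fun hn => hn.2 h) hx⟩
  obtain ⟨W, -, hWc, hWf, hWmem⟩ := hW ⊤
  have hCW : ∀ c, C c ≤ W := fun c => by
    haveI := hCf c
    exact FinPart.subset_of_forall_closedPoint f (C c) W.2 fun x _ hx => hWmem x trivial hx
  have hCst : ∀ c, Stable D (C c) := fun c => by
    haveI : IsFinite ((C c).ι ≫ D.obj.hom ≫ p) := hCf c
    refine stable_of_kpts (C c) fun P Q hPQ hP hPC => ?_
    obtain ⟨P', hP', hP'e⟩ := (hCF c _ (hpt ⟨P, hP⟩)).1 hPC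
    have : P'.1 = P := kpt_ext f P'.2 hP hP'e
    refine (hCF c _ (hpt ⟨Q, rel_cpt hPQ hP⟩)).2 ⟨⟨Q, rel_cpt hPQ hP⟩, ?_, rfl⟩
    rw [← hP']
    exact Quotient.sound (rel_symm (this ▸ hPQ))
  have hWst : Stable D W := by
    haveI : IsFinite (W.ι ≫ D.obj.hom ≫ p) := hWf
    exact stable_of_kpts W fun P Q hPQ hP _ => hWmem _ trivial (hpt ⟨Q, rel_cpt hPQ hP⟩)
  let W' : D.obj.left.Opens := ⟨(W : Set D.obj.left)ᶜ, hWc.isOpen_compl⟩
  have hW'st : Stable D W' := fun T a b hab t ht hb => ht (hWst b a (rel_symm hab) hb)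
  -- the pieces
  obtain ⟨EV⟩ := hEV
  obtain ⟨P₁, hP₁⟩ := EV.exists_piece V
  obtain ⟨P₀, hP₀⟩ := P₁.exists_restrict hp hW'st
    (fun x hx => hV _ fun he => hx (hWmem x trivial he)) hP₁
  have hiso : ∀ c, IsIso ((C c).ι ≫ z) := fun c => by
    haveI : IsFinite ((C c).ι ≫ D.obj.hom ≫ p) := hCf c
    obtain ⟨u, hu⟩ := Quotient.exists_rep c
    have hmem : ∀ M : Pts, M.1.base pt ∈ C c → ⟦M⟧ = c := fun M hM => by
      obtain ⟨M', hM', hM'e⟩ := (hCF c _ (hpt M)).1 hM
      rw [← hM', show M' = M from Subtype.ext (kpt_ext f M'.2 M.2 hM'e)]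
    refine isIso_of_orbit (C c) (fun A B hA hB hAC hBC =>
      Quotient.exact (s := st) ((hmem ⟨A, hA⟩ hAC).trans (hmem ⟨B, hB⟩ hBC).symm)) u.1 u.2
      fun Q hQ => ?_
    exact (hCF c _ (hpt ⟨Q, rel_cpt hQ u.2⟩)).2
      ⟨⟨Q, rel_cpt hQ u.2⟩, hu ▸ Quotient.sound (rel_symm hQ), rfl⟩
  let Cs : Option (Quotient st) → D.obj.left.Opens := fun o => o.elim W' C
  have hP : ∀ o, ∃ P : Piece D (Cs o), Etale P.str := by
    rintro (_ | c)
    · exact ⟨P₀, hP₀⟩
    · haveI := hiso c
      refine ⟨{ stable := hCst c, base := Spec (CommRingCat.of R), str := 𝟙 _,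
                q := (C c).ι ≫ z ≫ p, isPullback := ?_, compat := fun T a b hab => ?_ },
        (inferInstance : Etale (𝟙 (Spec (CommRingCat.of R))))⟩
      · haveI : IsIso ((Cs (some c)).ι ≫ D.obj.hom) := hiso c
        exact IsPullback.of_vert_isIso ⟨by simp; rfl⟩
      · have e := hab.1
        simp only [Category.assoc] at e
        exact e
  choose P hPe using hP
  refine exists_eff_of_disjoint Cs P hPe (fun x => ?_) ?_
  · by_cases hx : x ∈ W
    · haveI := hWf
      let U : D.obj.left.Opens := ⨆ c, C c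
      have hU : (W : Set D.obj.left) ⊆ U :=
        FinPart.subset_of_forall_closedPoint f W U.2 fun y _ hy => by
          obtain ⟨P', hP', hP'y⟩ := exists_kpt f y hy
          exact Opens.mem_iSup.2 ⟨⟦⟨P', hP'⟩⟧, (hCF _ y hy).2 ⟨⟨P', hP'⟩, rfl, hP'y⟩⟩
      obtain ⟨c, hc⟩ := Opens.mem_iSup.1 (hU hx)
      exact ⟨some c, hc⟩
    · exact ⟨none, hx⟩
  · rintro x (_ | c) (_ | d) h h'
    · rfl
    · exact absurd (hCW d h') h
    · exact absurd (hCW c h) h'
    · refine congrArg some (by_contra fun hne => ?_)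
      haveI := hCf c
      refine FinPart.subset_of_forall_closedPoint f (C c) (hCc d).isOpen_compl
        (fun y hy hys hy' => hne ?_) h h'
      obtain ⟨A, hA, hAy⟩ := (hCF c y hys).1 hy
      obtain ⟨B, hB, hBy⟩ := (hCF d y hys).1 hy'
      rw [← hA, ← hB, show A = B from Subtype.ext (kpt_ext f A.2 B.2 (hAy.trans hBy.symm))]

end Groth.Agent.SGA1Desc
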