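import Mathlib
import Groth.Agent.SGA1Desc.Etale
import Groth.Agent.SGA1Desc.Reduce

/-!
# Étale effectiveness of pulled back descent data
-/

set_option autoImplicit false
set_option linter.style.haveILetI false
set_option maxHeartbeats 800000
set_option backward.isDefEq.respectTransparency false

universe u

open CategoryTheory CategoryTheory.Limits AlgebraicGeometry Topology TopologicalSpace

namespace Groth.Agent.SGA1Desc

variable {X X'' S T T' : Scheme.{u}} {g : X ⟶ S} (D : Desc.SchDD g) (p'' : X'' ⟶ T) (c : X'' ⟶ X)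
  (j : T ⟶ S) (w : c ≫ g = p'' ≫ j)

/-- A pulled back datum is étale effective if the datum is. -/
theorem Eff.exists_pullDatum {k : T' ⟶ T} (E : Eff D (k ≫ j)) :
    Nonempty (Eff (pullDatum D p'' c j w) k) := by
  let z := D.obj.hom
  let z2 : pullback z c ⟶ X'' := pullback.snd z c
  let m : pullback (z2 ≫ p'') k ⟶ pullback (z ≫ g) (k ≫ j) :=
    pullback.lift (pullback.fst _ _ ≫ pullback.fst z c) (pullback.snd _ _) (by
      rw [Category.assoc, pullback.condition_assoc, w, ← Category.assoc (pullback.snd _ _) k,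
        ← pullback.condition, Category.assoc, Category.assoc])
  have hm1 : m ≫ pullback.fst (z ≫ g) (k ≫ j) = pullback.fst _ _ ≫ pullback.fst z c :=
    pullback.lift_fst _ _ _
  have hm2 : m ≫ pullback.snd (z ≫ g) (k ≫ j) = pullback.snd _ _ := pullback.lift_snd _ _ _
  have hq : (m ≫ E.q) ≫ E.str = pullback.snd (z2 ≫ p'') k := by
    rw [Category.assoc, E.q_str]; exact hm2
  refine ⟨⟨E.base, E.str, E.etale, m ≫ E.q, hq, IsPullback.mk' ?_ ?_ ?_, fun W a b hr hs => ?_⟩⟩
  · refine (Category.assoc _ _ _).symm.trans ((congrArg (· ≫ k) hq).trans ?_)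
    refine pullback.condition.symm.trans ?_
    exact (Category.assoc _ _ _).symm
  · intro W φ ψ h1 h2
    change φ ≫ pullback.fst (z2 ≫ p'') k ≫ z2 = ψ ≫ pullback.fst (z2 ≫ p'') k ≫ z2 at h2
    have ht : φ ≫ pullback.snd (z2 ≫ p'') k = ψ ≫ pullback.snd (z2 ≫ p'') k := by
      rw [← hq]
      simp only [← Category.assoc] at h1 ⊢
      exact congrArg (· ≫ E.str) h1
    have hA : φ ≫ m = ψ ≫ m := by
      refine E.isPullback.hom_ext (by simpa only [Category.assoc] using h1) ?_
      change (φ ≫ m) ≫ pullback.fst (z ≫ g) (k ≫ j) ≫ z =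
        (ψ ≫ m) ≫ pullback.fst (z ≫ g) (k ≫ j) ≫ z
      simp only [Category.assoc, reassoc_of% hm1, pullback.condition]
      exact (reassoc_of% h2) c
    refine pullback.hom_ext (pullback.hom_ext ?_ ?_) ht
    · rw [Category.assoc, Category.assoc]
      refine (congrArg (φ ≫ ·) hm1.symm).trans (Eq.trans ?_ (congrArg (ψ ≫ ·) hm1))
      simp only [← Category.assoc, hA]
    · rw [Category.assoc, Category.assoc]
      exact h2
  · intro W v x hx
    let A := E.isPullback.lift v (x ≫ c) (by
      rw [Category.assoc, w, ← reassoc_of% hx])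
    have hA1 : A ≫ E.q = v := E.isPullback.lift_fst _ _ _
    have hA2 : A ≫ pullback.fst _ _ ≫ z = x ≫ c := E.isPullback.lift_snd _ _ _
    let B : W ⟶ pullback (z2 ≫ p'') k := pullback.lift
      (pullback.lift (A ≫ pullback.fst _ _) x (by rw [Category.assoc]; exact hA2))
      (v ≫ E.str) (by
        rw [← Category.assoc, pullback.lift_snd, Category.assoc]
        exact hx.symm)
    have hB : B ≫ m = A := by
      apply pullback.hom_ext
      · rw [Category.assoc]
        refine (congrArg (B ≫ ·) hm1).trans ?_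
        simp [B]; rfl
      · rw [Category.assoc]
        refine (congrArg (B ≫ ·) hm2).trans ?_
        simp only [B, pullback.lift_snd]
        rw [← hA1, Category.assoc, E.q_str]
    refine ⟨B, ?_, ?_⟩
    · exact (Category.assoc _ _ _).symm.trans ((congrArg (· ≫ E.q) hB).trans hA1)
    · change B ≫ pullback.fst (z2 ≫ p'') k ≫ z2 = x
      simp [B, z2]
  · simp only [← Category.assoc]
    refine E.compat (a ≫ m) (b ≫ m) ?_ ?_
    · simp only [Category.assoc]
      refine (congrArg₂ (Rel D) (congrArg (a ≫ ·) hm1) (congrArg (b ≫ ·) hm1)).mpr ?_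
      simp only [← Category.assoc]
      exact rel_pullDatum _ _ _ _ hr
    · simp only [Category.assoc]
      exact (congrArg (a ≫ ·) hm2).trans (hs.trans (congrArg (b ≫ ·) hm2).symm)

/-- Étale effectiveness of a pulled back datum along a universally submersive morphism gives
étale effectiveness. -/
theorem exists_eff_of_pullDatum [Etale D.obj.hom] (hp : SGA1.UnivSubmersive p'') {k : T' ⟶ T}
    (E : Eff (pullDatum D p'' c j w) k) : Nonempty (Eff D (k ≫ j)) := by
  haveI := E.etale
  let z := D.obj.hom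
  let z2 : pullback z c ⟶ X'' := pullback.snd z c
  let σT := pullback.snd p'' k
  have hσT : SGA1.UnivSubmersive σT :=
    (MorphismProperty.universally_isStableUnderBaseChange _).of_isPullback
      (IsPullback.of_hasPullback p'' k) hp
  -- the forward map
  let ρ := pullback.fst (pullback.snd (z ≫ g) (k ≫ j)) σT
  have hρ : SGA1.UnivSubmersive ρ :=
    (MorphismProperty.universally_isStableUnderBaseChange _).of_isPullback
      (IsPullback.of_hasPullback (pullback.snd (z ≫ g) (k ≫ j)) σT).flip hσT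
  let x'' := pullback.snd (pullback.snd (z ≫ g) (k ≫ j)) σT ≫ pullback.fst p'' k
  have ht : ρ ≫ pullback.snd (z ≫ g) (k ≫ j) ≫ k = x'' ≫ p'' := by
    simp only [ρ, x'', σT, Category.assoc, pullback.condition_assoc, pullback.condition]
  obtain ⟨b, hab, hbX⟩ := exists_rel (D := D) (ρ ≫ pullback.fst (z ≫ g) (k ≫ j)) (x'' ≫ c) (by
    simp only [Category.assoc]
    rw [w, ← reassoc_of% ht]
    exact congrArg (ρ ≫ ·) pullback.condition)
  let b'' : _ ⟶ pullback (z2 ≫ p'') k :=
    pullback.lift (pullback.lift b x'' hbX) (ρ ≫ pullback.snd (z ≫ g) (k ≫ j))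
      (by
        refine (Category.assoc _ _ _).symm.trans ?_
        rw [pullback.lift_snd]
        exact ht.symm.trans (Category.assoc _ _ _).symm)
  have hb1 : b'' ≫ pullback.fst (z2 ≫ p'') k ≫ pullback.fst z c = b := by simp [b'']
  have hb2 : b'' ≫ pullback.fst (z2 ≫ p'') k ≫ z2 = x'' := by simp [b'', z2]
  have hb3 : b'' ≫ pullback.snd (z2 ≫ p'') k = ρ ≫ pullback.snd (z ≫ g) (k ≫ j) :=
    pullback.lift_snd _ _ _
  have hh : (b'' ≫ E.q) ≫ E.str = ρ ≫ pullback.snd (z ≫ g) (k ≫ j) := by
    rw [Category.assoc, E.q_str]; exact hb3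
  have key : ∀ ⦃W : Scheme.{u}⦄ (A B : W ⟶ pullback (pullback.snd (z ≫ g) (k ≫ j)) σT),
      Rel D (A ≫ ρ ≫ pullback.fst (z ≫ g) (k ≫ j)) (B ≫ ρ ≫ pullback.fst (z ≫ g) (k ≫ j)) →
      A ≫ ρ ≫ pullback.snd (z ≫ g) (k ≫ j) = B ≫ ρ ≫ pullback.snd (z ≫ g) (k ≫ j) →
      A ≫ b'' ≫ E.q = B ≫ b'' ≫ E.q := by
    intro W A B hr hs
    simp only [← Category.assoc]
    refine E.compat (A ≫ b'') (B ≫ b'') ?_ ?_
    · refine pullDatum_rel' _ _ _ _ _ _ ?_ ?_
      · change ((((A ≫ b'') ≫ pullback.fst (z2 ≫ p'') k) ≫ z2) ≫ p'') =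
          (((B ≫ b'') ≫ pullback.fst (z2 ≫ p'') k) ≫ z2) ≫ p''
        simp only [Category.assoc, reassoc_of% hb2, ← ht, reassoc_of% hs]
      · simp only [Category.assoc]
        refine (congrArg₂ (Rel D) (congrArg (A ≫ ·) hb1) (congrArg (B ≫ ·) hb1)).mpr ?_
        exact rel_trans (rel_symm (rel_comp A hab)) (rel_trans hr (rel_comp B hab))
    · simp only [Category.assoc]
      exact (congrArg (A ≫ ·) hb3).trans (hs.trans (congrArg (B ≫ ·) hb3).symm)
  obtain ⟨q, hq, hρq⟩ := exists_desc_etale (pullback.snd (z ≫ g) (k ≫ j)) E.str ρ hρ (b'' ≫ E.q)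
    hh (key _ _ (by simp only [pullback.condition_assoc]; exact rel_refl _)
      (by simp only [pullback.condition_assoc]))
  -- the inverse
  let σ := pullback.fst (pullback.fst (E.str ≫ k ≫ j) g ≫ E.str) σT
  have hσ : SGA1.UnivSubmersive σ :=
    (MorphismProperty.universally_isStableUnderBaseChange _).of_isPullback
      (IsPullback.of_hasPullback (pullback.fst (E.str ≫ k ≫ j) g ≫ E.str) σT).flip hσT
  let y'' := pullback.snd (pullback.fst (E.str ≫ k ≫ j) g ≫ E.str) σT ≫ pullback.fst p'' k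
  have hy : (σ ≫ pullback.fst (E.str ≫ k ≫ j) g) ≫ E.str ≫ k = y'' ≫ p'' := by
    have e1 : (pullback.fst (pullback.fst (E.str ≫ k ≫ j) g ≫ E.str) σT ≫
        pullback.fst (E.str ≫ k ≫ j) g ≫ E.str) ≫ k =
        (pullback.snd (pullback.fst (E.str ≫ k ≫ j) g ≫ E.str) σT ≫ σT) ≫ k :=
      congrArg (· ≫ k) pullback.condition
    simp only [σT, Category.assoc, ← pullback.condition (f := p'') (g := k)] at e1
    simpa only [σ, y'', σT, Category.assoc] using e1
  let B := E.isPullback.lift (σ ≫ pullback.fst (E.str ≫ k ≫ j) g) y'' hy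
  have hB1 : B ≫ E.q = σ ≫ pullback.fst (E.str ≫ k ≫ j) g := E.isPullback.lift_fst _ _ _
  have hB2 : B ≫ pullback.fst (z2 ≫ p'') k ≫ z2 = y'' := E.isPullback.lift_snd _ _ _
  have hBz : (B ≫ pullback.fst (z2 ≫ p'') k ≫ pullback.fst z c) ≫ z = y'' ≫ c := by
    simp only [Category.assoc, pullback.condition]
    exact (reassoc_of% hB2) c
  obtain ⟨a₀, ha₀, ha₀X⟩ := exists_rel (D := D) (B ≫ pullback.fst (z2 ≫ p'') k ≫ pullback.fst z c)
    (σ ≫ pullback.snd (E.str ≫ k ≫ j) g) (by
      rw [show (B ≫ pullback.fst (z2 ≫ p'') k ≫ pullback.fst z c) ≫ D.obj.hom = _ from hBz,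
        Category.assoc, w, ← reassoc_of% hy, Category.assoc, ← pullback.condition])
  obtain ⟨l₀, hl₀, hσl⟩ := exists_desc_etale (pullback.snd (E.str ≫ k ≫ j) g) z σ hσ a₀ ha₀X (by
    have e : (pullback.fst σ σ ≫ B) ≫ E.q = (pullback.snd σ σ ≫ B) ≫ E.q := by
      simp only [Category.assoc, hB1, pullback.condition_assoc]
    have r1 := rel_pullDatum _ _ _ _ (E.rel_of_eq e)
    simp only [Category.assoc] at r1
    refine rel_unique (rel_refl _) ?_ (by rw [Category.assoc, Category.assoc, ha₀X,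
      pullback.condition_assoc])
    exact rel_trans (rel_symm (rel_comp _ ha₀)) (rel_trans r1 (rel_comp _ ha₀)))
  let l : pullback (E.str ≫ k ≫ j) g ⟶ pullback (z ≫ g) (k ≫ j) :=
    pullback.lift l₀ (pullback.fst _ _ ≫ E.str) (by
      rw [reassoc_of% hl₀, Category.assoc, pullback.condition])
  have hl1 : l ≫ pullback.fst (z ≫ g) (k ≫ j) = l₀ := pullback.lift_fst _ _ _
  have hl2 : l ≫ pullback.snd (z ≫ g) (k ≫ j) = pullback.fst _ _ ≫ E.str := pullback.lift_snd _ _ _
  let κ : pullback (z ≫ g) (k ≫ j) ⟶ pullback (E.str ≫ k ≫ j) g :=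
    pullback.lift q (pullback.fst _ _ ≫ z) (by
      rw [reassoc_of% hq, Category.assoc, pullback.condition])
  have hκ1 : κ ≫ pullback.fst (E.str ≫ k ≫ j) g = q := pullback.lift_fst _ _ _
  have hκ2 : κ ≫ pullback.snd (E.str ≫ k ≫ j) g = pullback.fst _ _ ≫ z := pullback.lift_snd _ _ _
  haveI : Surjective ρ := SGA1Misc.univSubmersive_surjective hρ
  haveI : Surjective σ := SGA1Misc.univSubmersive_surjective hσ
  haveI : IsIso κ := ⟨l, by
    apply pullback.hom_ext
    · rw [Category.assoc, hl1, Category.id_comp]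
      refine SGA1Misc.eq_of_surjective_comp_eq z _ _ (by rw [Category.assoc, hl₀, hκ2]) ρ ?_
      let C : _ ⟶ pullback (pullback.fst (E.str ≫ k ≫ j) g ≫ E.str) σT :=
        pullback.lift (ρ ≫ κ) (pullback.snd _ _) (by
          rw [Category.assoc, reassoc_of% hκ1, hq]; exact pullback.condition)
      have hC : C ≫ σ = ρ ≫ κ := pullback.lift_fst _ _ _
      rw [← reassoc_of% hC, hσl]
      have hCB : C ≫ B = b'' := by
        refine E.isPullback.hom_ext ?_ ?_
        · rw [Category.assoc, hB1, reassoc_of% hC, hκ1, hρq]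
        · change (C ≫ B) ≫ pullback.fst (z2 ≫ p'') k ≫ z2 = b'' ≫ pullback.fst (z2 ≫ p'') k ≫ z2
          rw [Category.assoc, hB2, hb2]
          simp [C, y'', x'']
      have r1 := rel_comp C ha₀
      rw [reassoc_of% hCB, hb1] at r1
      refine rel_unique r1 (rel_symm hab) ?_
      rw [Category.assoc, ha₀X, reassoc_of% hC, hκ2, Category.assoc]
    · rw [Category.assoc, hl2, reassoc_of% hκ1, hq, Category.id_comp], by
    apply pullback.hom_ext
    · rw [Category.assoc, hκ1, Category.id_comp]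
      refine SGA1Misc.eq_of_surjective_comp_eq E.str _ _ (by rw [Category.assoc, hq, hl2]) σ ?_
      let A : _ ⟶ pullback (pullback.snd (z ≫ g) (k ≫ j)) σT :=
        pullback.lift (σ ≫ l) (pullback.snd _ _) (by
          rw [Category.assoc, hl2]; exact pullback.condition)
      have hA : A ≫ ρ = σ ≫ l := pullback.lift_fst _ _ _
      rw [← reassoc_of% hA, hρq]
      refine Eq.trans ((Category.assoc _ _ _).symm.trans (congrArg (· ≫ E.q) ?_)) hB1
      have hAx : A ≫ x'' = y'' := by simp [A, x'', y'']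
      have r1 := rel_comp A hab
      rw [reassoc_of% hA, hl1, hσl] at r1
      apply pullback.hom_ext
      · apply pullback.hom_ext
        · simp only [Category.assoc]
          refine (congrArg (A ≫ ·) hb1).trans ?_
          refine rel_unique r1 (rel_symm ha₀) ?_
          rw [Category.assoc, hbX, reassoc_of% hAx]
          exact hBz.symm
        · simp only [Category.assoc]
          refine (congrArg (A ≫ ·) hb2).trans ?_
          rw [hAx]
          exact hB2.symm
      · rw [Category.assoc, hb3, reassoc_of% hA, hl2, ← reassoc_of% hB1, E.q_str]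
        rfl
    · rw [Category.assoc, hκ2, reassoc_of% hl1, hl₀, Category.id_comp]⟩
  refine ⟨⟨E.base, E.str, E.etale, q, hq, ?_, fun W a b hr hs => ?_⟩⟩
  · exact IsPullback.of_iso_pullback ⟨by rw [reassoc_of% hq, Category.assoc, pullback.condition]⟩
      (asIso κ) hκ1 hκ2
  · let e := pullback.fst (a ≫ pullback.snd (z ≫ g) (k ≫ j)) σT
    haveI : Surjective e := SGA1Misc.univSubmersive_surjective
      ((MorphismProperty.universally_isStableUnderBaseChange _).of_isPullback
        (IsPullback.of_hasPullback (a ≫ pullback.snd (z ≫ g) (k ≫ j)) σT).flip hσT)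
    refine SGA1Misc.eq_of_surjective_comp_eq E.str _ _
      (by rw [Category.assoc, Category.assoc, hq]; exact hs) e ?_
    let A₁ : _ ⟶ pullback (pullback.snd (z ≫ g) (k ≫ j)) σT :=
      pullback.lift (e ≫ a) (pullback.snd _ _) (by
        rw [Category.assoc]; exact pullback.condition)
    let B₁ : _ ⟶ pullback (pullback.snd (z ≫ g) (k ≫ j)) σT :=
      pullback.lift (e ≫ b) (pullback.snd _ _) (by
        rw [Category.assoc]
        exact (congrArg (e ≫ ·) hs).symm.trans pullback.condition)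
    have hA₁ : A₁ ≫ ρ = e ≫ a := pullback.lift_fst _ _ _
    have hB₁ : B₁ ≫ ρ = e ≫ b := pullback.lift_fst _ _ _
    rw [← reassoc_of% hA₁, ← reassoc_of% hB₁, hρq]
    refine key A₁ B₁ ?_ ?_
    · rw [reassoc_of% hA₁, reassoc_of% hB₁]; exact rel_comp e hr
    · rw [reassoc_of% hA₁, reassoc_of% hB₁]; exact congrArg (e ≫ ·) hs

end Groth.Agent.SGA1Desc
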