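import Mathlib
import Groth.Agent.SGA1Desc.FiniteLocal
import Groth.Agent.SGA1Desc.Refine
import Groth.Agent.SGA1Desc.CompletionEff
import Groth.Agent.CAlgLib.ResidueExt
import Groth.Agent.EtStruct.Completion
import Groth.Agent.RegLoc.Completion
import Groth.Agent.Hensel.Pair

/-!
# Effective descent of étale separated morphisms along finite surjective morphisms
-/

set_option autoImplicit false
set_option linter.style.haveILetI false
set_option maxHeartbeats 800000
set_option backward.isDefEq.respectTransparency false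

universe u

open CategoryTheory CategoryTheory.Limits AlgebraicGeometry Topology TopologicalSpace IsLocalRing

namespace Groth.Agent.SGA1Desc

theorem exists_complete_algClosed_extension (A : Type u) [CommRing A] [IsLocalRing A]
    [IsNoetherianRing A] :
    ∃ (B : Type u) (_ : CommRing B) (_ : IsLocalRing B) (_ : Algebra A B), IsNoetherianRing B ∧
      IsAdicComplete (maximalIdeal B) B ∧ IsAlgClosed (ResidueField B) ∧
      Module.FaithfullyFlat A B ∧ ringKrullDim B = ringKrullDim A := by
  let K : Type u := AlgebraicClosure (ResidueField A)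
  letI : Algebra A K := ((algebraMap (ResidueField A) K).comp (residue A)).toAlgebra
  have hA : RingHom.ker (algebraMap A K) = maximalIdeal A := by
    rw [RingHom.algebraMap_toAlgebra,
      RingHom.ker_comp_of_injective _ (algebraMap (ResidueField A) K).injective, ker_residue]
  obtain ⟨B₀, _, _, _, _, _, _, ψ, hψ, hψk⟩ :=
    Groth.Agent.CAlgLib.ResidueExt.exists_flat_extension A K hA
  have hmax : RingHom.ker ψ.toRingHom = maximalIdeal B₀ :=
    IsLocalRing.eq_maximalIdeal (RingHom.ker_isMaximal_of_surjective ψ.toRingHom hψ)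
  let B : Type u := AdicCompletion (maximalIdeal B₀) B₀
  haveI hBn : IsNoetherianRing B := Groth.Agent.EtStruct.Completion.isNoetherian B₀
  haveI : IsAlgClosed (ResidueField B₀) := IsAlgClosed.of_ringEquiv K _
    (((Ideal.quotEquivOfEq hmax.symm).trans
      (RingHom.quotientKerEquivOfSurjective (f := ψ.toRingHom) hψ)).symm)
  haveI : IsAlgClosed (ResidueField B) := IsAlgClosed.of_ringEquiv (ResidueField B₀) _
    (RingEquiv.ofBijective _ (AdicCompletion.residueField_map_bijective B₀))
  haveI : Module.FaithfullyFlat A B₀ := Module.FaithfullyFlat.of_flat_of_isLocalHom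
  haveI : Module.FaithfullyFlat B₀ B := Groth.Agent.EtStruct.Completion.faithfullyFlat B₀
  haveI : IsScalarTower A B₀ B := inferInstance
  have hd1 : ringKrullDim B₀ = ringKrullDim A :=
    RegLoc.Completion.ringKrullDim_eq_of_flat_of_map_eq A B₀ (hψk.symm.trans hmax)
  exact ⟨B, inferInstance, inferInstance, inferInstance, hBn, inferInstance, inferInstance,
    Module.FaithfullyFlat.trans A B₀ B, (RegLoc.Completion.ringKrullDim_completion B₀).trans hd1⟩

variable {S X : Scheme.{u}} {g : X ⟶ S} (D : Desc.SchDD g)

/-- Effectiveness over a locally Noetherian base is detected by complete local rings with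
algebraically closed residue field. -/
theorem exists_eff_of_forall_complete [IsLocallyNoetherian S] (hg : SGA1.UnivSubmersive g)
    [LocallyOfFinitePresentation g] [QuasiCompact g] [QuasiSeparated g]
    [LocallyOfFinitePresentation D.obj.hom] [QuasiCompact D.obj.hom] [IsSeparated D.obj.hom]
    (h : ∀ (a : S) (B : Type u) [CommRing B] [IsNoetherianRing B] [IsLocalRing B]
      [IsAdicComplete (maximalIdeal B) B] [IsAlgClosed (ResidueField B)]
      (q : Spec (CommRingCat.of B) ⟶ S), ringKrullDim B = ringKrullDim (S.presheaf.stalk a) →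
      Nonempty (Eff D q)) : Nonempty (Eff D (𝟙 S)) := by
  refine exists_eff_of_forall_stalk D hg fun a => ?_
  obtain ⟨B, _, _, _, _, _, _, hff, hdim⟩ :=
    exists_complete_algClosed_extension (S.presheaf.stalk a)
  obtain ⟨E⟩ := h a B
    (Spec.map (CommRingCat.ofHom (algebraMap (S.presheaf.stalk a) B)) ≫ S.fromSpecStalk a) hdim
  obtain ⟨E', -⟩ := exists_eff_of_faithfullyFlat hg (R := S.presheaf.stalk a)
    (R' := CommRingCat.of B) (CommRingCat.ofHom (algebraMap (S.presheaf.stalk a) B))
    (RingHom.faithfullyFlat_algebraMap_iff.2 hff) E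
  exact ⟨E'⟩

theorem ringKrullDim_stalk_lt {B : Type u} [CommRing B] [IsLocalRing B] [IsNoetherianRing B]
    (V : (Spec (CommRingCat.of B)).Opens) (hV : closedPoint B ∉ V) (a : V.toScheme) :
    ringKrullDim (V.toScheme.presheaf.stalk a) < ringKrullDim B := by
  rw [ringKrullDim_eq_of_ringEquiv (V.stalkIso a).commRingCatIsoToRingEquiv]
  let R := CommRingCat.of B
  letI k : Algebra R ((Spec R).presheaf.stalk a.1) := StructureSheaf.stalkAlgebra (↑R) a.1
  have : IsLocalization.AtPrime ((Spec R).presheaf.stalk a.1) (a.1 : PrimeSpectrum R).asIdeal :=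
    StructureSheaf.IsLocalization.to_stalk R a.1
  change ringKrullDim ((Spec R).presheaf.stalk a.1) < ringKrullDim B
  rw [IsLocalization.AtPrime.ringKrullDim_eq_height (a.1 : PrimeSpectrum R).asIdeal
      ((Spec R).presheaf.stalk a.1),
    ← IsLocalRing.maximalIdeal_height_eq_ringKrullDim, WithBot.coe_lt_coe]
  refine Ideal.height_strict_mono_of_isPrime_of_isPrime (lt_of_le_of_ne
    (IsLocalRing.le_maximalIdeal (a.1 : PrimeSpectrum B).isPrime.ne_top) fun he => hV ?_)
  have : (a.1 : PrimeSpectrum B) = closedPoint B := PrimeSpectrum.ext he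
  exact this ▸ a.2

/-- Effective descent along finite surjective morphisms over complete local rings. -/
theorem exists_eff_complete : ∀ (n : WithBot ℕ∞) (B : Type u) [CommRing B] [IsNoetherianRing B]
    [IsLocalRing B] [IsAdicComplete (maximalIdeal B) B] [IsAlgClosed (ResidueField B)],
    ringKrullDim B = n → ∀ {X : Scheme.{u}} (p : X ⟶ Spec (CommRingCat.of B)) [IsFinite p]
      [Surjective p] (D : Desc.SchDD p) [QuasiCompact D.obj.hom] [IsSeparated D.obj.hom]
      [Etale D.obj.hom], Nonempty (Eff D (𝟙 _)) := by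
  intro n
  induction n using WellFoundedLT.induction with
  | _ n IH =>
    intro B _ _ _ _ _ hn X p _ _ D _ _ _
    haveI : HenselianLocalRing B := Hensel.henselianLocalRing_of_henselianRing inferInstance
    haveI : LocallyQuasiFinite D.obj.hom :=
      Groth.Agent.AlgSpCov.etale_le_locallyQuasiFinite _ _ _ ‹Etale D.obj.hom›
    let V : (Spec (CommRingCat.of B)).Opens :=
      ⟨{closedPoint B}ᶜ, (IsLocalRing.isClosed_singleton_closedPoint (R := B)).isOpen_compl⟩
    refine exists_eff_of_punctured V (fun x hx => hx) ?_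
    let p₁ := pullback.snd p V.ι
    haveI : IsFinite p₁ := MorphismProperty.pullback_snd _ _ ‹IsFinite p›
    haveI : Surjective p₁ := MorphismProperty.pullback_snd _ _ ‹Surjective p›
    let D₁ := pullDatum D p₁ (pullback.fst p V.ι) V.ι pullback.condition
    haveI : QuasiCompact D₁.obj.hom := MorphismProperty.pullback_snd _ _ ‹QuasiCompact D.obj.hom›
    haveI : IsSeparated D₁.obj.hom := MorphismProperty.pullback_snd _ _ ‹IsSeparated D.obj.hom›
    haveI : Etale D₁.obj.hom := MorphismProperty.pullback_snd _ _ ‹Etale D.obj.hom›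
    have hp₁ : SGA1.UnivSubmersive p₁ := SGA1Quot.univSubmersive_of_isFinite_of_surjective p₁
    haveI : LocallyOfFinitePresentation p₁ :=
      LocallyOfFinitePresentation.iff_locallyOfFiniteType.2 inferInstance
    obtain ⟨E₁⟩ := exists_eff_of_forall_complete D₁ hp₁ fun a B' _ _ _ _ _ q hq => by
      let p₂ := pullback.snd p₁ q
      haveI : IsFinite p₂ := MorphismProperty.pullback_snd _ _ ‹IsFinite p₁›
      haveI : Surjective p₂ := MorphismProperty.pullback_snd _ _ ‹Surjective p₁›
      let D₂ := pullDatum D₁ p₂ (pullback.fst p₁ q) q pullback.condition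
      haveI : QuasiCompact D₂.obj.hom :=
        MorphismProperty.pullback_snd _ _ ‹QuasiCompact D₁.obj.hom›
      haveI : IsSeparated D₂.obj.hom := MorphismProperty.pullback_snd _ _ ‹IsSeparated D₁.obj.hom›
      haveI : Etale D₂.obj.hom := MorphismProperty.pullback_snd _ _ ‹Etale D₁.obj.hom›
      have hlt : ringKrullDim B' < n := by
        rw [hq, ← hn]
        exact ringKrullDim_stalk_lt V (fun h => h rfl) a
      obtain ⟨E₂⟩ := IH _ hlt B' rfl p₂ D₂
      obtain ⟨E⟩ := exists_eff_of_pullDatum D₁ p₂ (pullback.fst p₁ q) q pullback.condition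
        (SGA1Quot.univSubmersive_of_isFinite_of_surjective p₂) E₂
      exact ⟨E.pull (𝟙 _) q (by simp)⟩
    obtain ⟨E⟩ := exists_eff_of_pullDatum D p₁ (pullback.fst p V.ι) V.ι pullback.condition hp₁ E₁
    exact ⟨E.pull (𝟙 _) V.ι (by simp)⟩

/-- Effectiveness over complete local rings for morphisms admitting, there, a refinement by a
finite surjective morphism. -/
theorem exists_eff_of_finite_refinement [IsLocallyNoetherian S] (hg : SGA1.UnivSubmersive g)
    [LocallyOfFinitePresentation g] [QuasiCompact g] [QuasiSeparated g]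
    [QuasiCompact D.obj.hom] [IsSeparated D.obj.hom] [Etale D.obj.hom]
    (h : ∀ (B : Type u) [CommRing B] [IsNoetherianRing B] [IsLocalRing B]
      [IsAdicComplete (maximalIdeal B) B] [IsAlgClosed (ResidueField B)]
      (q : Spec (CommRingCat.of B) ⟶ S), ∃ (X' : Scheme.{u}) (p : X' ⟶ Spec (CommRingCat.of B))
        (c : X' ⟶ X), IsFinite p ∧ Surjective p ∧ c ≫ g = p ≫ q) :
    Nonempty (Eff D (𝟙 S)) := by
  refine exists_eff_of_forall_complete D hg fun a B _ _ _ _ _ q _ => ?_
  obtain ⟨X', p, c, hpf, hps, w⟩ := h B q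
  let D₂ := pullDatum D p c q w
  haveI : QuasiCompact D₂.obj.hom := MorphismProperty.pullback_snd _ _ ‹QuasiCompact D.obj.hom›
  haveI : IsSeparated D₂.obj.hom := MorphismProperty.pullback_snd _ _ ‹IsSeparated D.obj.hom›
  haveI : Etale D₂.obj.hom := MorphismProperty.pullback_snd _ _ ‹Etale D.obj.hom›
  obtain ⟨E₂⟩ := exists_eff_complete _ B rfl p D₂
  obtain ⟨E⟩ := exists_eff_of_pullDatum D p c q w
    (SGA1Quot.univSubmersive_of_isFinite_of_surjective p) E₂
  exact ⟨E.pull (𝟙 _) q (by simp)⟩

/-- Effective descent of étale separated schemes along finite surjective morphisms onto locally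
Noetherian schemes. -/
theorem exists_eff_of_finite [IsLocallyNoetherian S] [IsFinite g] [Surjective g]
    [QuasiCompact D.obj.hom] [IsSeparated D.obj.hom] [Etale D.obj.hom] :
    Nonempty (Eff D (𝟙 S)) := by
  haveI : LocallyOfFinitePresentation g :=
    LocallyOfFinitePresentation.iff_locallyOfFiniteType.2 inferInstance
  refine exists_eff_of_finite_refinement D (SGA1Quot.univSubmersive_of_isFinite_of_surjective g)
    fun B _ _ _ _ _ q => ⟨pullback g q, pullback.snd g q, pullback.fst g q,
      MorphismProperty.pullback_snd _ _ ‹IsFinite g›,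
      MorphismProperty.pullback_snd _ _ ‹Surjective g›, pullback.condition⟩

end Groth.Agent.SGA1Desc
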