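import Mathlib
import Groth.Agent.SGA1Desc.FiniteEff
import Groth.Agent.SubtrLib.Submersive

/-!
# Effective descent along universally submersive quasi-finite morphisms
-/

set_option autoImplicit false
set_option linter.style.haveILetI false
set_option maxHeartbeats 800000
set_option backward.isDefEq.respectTransparency false

universe u

open CategoryTheory CategoryTheory.Limits AlgebraicGeometry Topology TopologicalSpace IsLocalRing

namespace Groth.Agent.SGA1Desc

/-- Over a complete local base a universally submersive quasi-finite morphism is refined by a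
finite surjective one. -/
theorem exists_finite_refinement (B : Type u) [CommRing B] [IsNoetherianRing B] [IsLocalRing B]
    [IsAdicComplete (maximalIdeal B) B] {Y : Scheme.{u}} (p : Y ⟶ Spec (CommRingCat.of B))
    (hp : SGA1.UnivSubmersive p) [LocallyOfFiniteType p] [QuasiCompact p] [LocallyQuasiFinite p] :
    ∃ (X' : Scheme.{u}) (p' : X' ⟶ Spec (CommRingCat.of B)) (c : X' ⟶ Y),
      IsFinite p' ∧ Surjective p' ∧ c ≫ p = p' := by
  haveI : HenselianLocalRing B := Hensel.henselianLocalRing_of_henselianRing inferInstance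
  haveI : CompactSpace Y := QuasiCompact.compactSpace_of_compactSpace p
  let 𝒰 := Y.affineCover.finiteSubcover
  let c₀ : (∐ fun i => 𝒰.X i) ⟶ Y := Sigma.desc fun i => 𝒰.f i
  haveI : Etale c₀ := IsZariskiLocalAtSource.sigmaDesc fun i => inferInstance
  haveI : ∀ i, IsAffine (𝒰.X i) := fun i => by dsimp [𝒰]; infer_instance
  haveI : IsAffine (∐ fun i => 𝒰.X i) := inferInstance
  haveI : Surjective c₀ := ⟨fun y => by
    obtain ⟨w, hw⟩ := 𝒰.covers y
    refine ⟨(Sigma.ι (fun i => 𝒰.X i) (𝒰.idx y)).base w, ?_⟩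
    rw [← Scheme.Hom.comp_apply, Sigma.ι_desc]
    exact hw⟩
  let p₀ := c₀ ≫ p
  haveI : IsAffineHom p₀ := inferInstance
  haveI : QuasiCompact p₀ := inferInstance
  haveI : IsSeparated p₀ := inferInstance
  haveI : LocallyQuasiFinite c₀ :=
    Groth.Agent.AlgSpCov.etale_le_locallyQuasiFinite _ _ _ ‹Etale c₀›
  haveI : LocallyQuasiFinite p₀ := inferInstanceAs (LocallyQuasiFinite (c₀ ≫ p))
  obtain ⟨W, -, hWf, hWmem⟩ := Hens.FinPart.exists_finPart p₀
  refine ⟨W.toScheme, W.ι ≫ p₀, W.ι ≫ c₀, hWf, ⟨fun x => ?_⟩, Category.assoc _ _ _⟩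
  obtain ⟨y', y, hy, h1, h2⟩ := SubtrLib.univSSubtrusive_of_univSubmersive p hp
    _ _ _ IsPullback.of_id_snd (IsLocalRing.specializes_closedPoint x)
  obtain ⟨w, hw⟩ := c₀.surjective y'
  obtain ⟨w', hw', hww⟩ : ∃ w', c₀.base w' = y ∧ w' ⤳ w := by
    obtain ⟨w', hw', e⟩ := Flat.generalizingMap c₀ (hw ▸ hy : y ⤳ c₀.base w)
    exact ⟨w', e, hw'⟩
  have hwW : w ∈ W := hWmem w (by rw [Scheme.Hom.comp_apply, hw, h1])
  refine ⟨⟨w', hww.mem_open W.2 hwW⟩, ?_⟩
  change p₀.base w' = x
  rw [Scheme.Hom.comp_apply, hw', h2]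

variable {S X : Scheme.{u}} {g : X ⟶ S} (D : Desc.SchDD g)

/-- Effective descent along universally submersive quasi-finite morphisms. -/
theorem exists_eff_of_quasiFinite [IsLocallyNoetherian S] (hg : SGA1.UnivSubmersive g)
    [LocallyOfFiniteType g] [QuasiCompact g] [LocallyQuasiFinite g]
    [QuasiCompact D.obj.hom] [IsSeparated D.obj.hom] [Etale D.obj.hom] :
    Nonempty (Eff D (𝟙 S)) := by
  haveI : LocallyOfFinitePresentation g :=
    LocallyOfFinitePresentation.iff_locallyOfFiniteType.2 inferInstance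
  haveI : IsLocallyNoetherian X := LocallyOfFiniteType.isLocallyNoetherian g
  haveI : QuasiSeparated g := inferInstance
  refine exists_eff_of_finite_refinement D hg fun B _ _ _ _ _ q => ?_
  obtain ⟨X', p', c, hf, hs, hc⟩ := exists_finite_refinement B (pullback.snd g q)
    ((MorphismProperty.universally_isStableUnderBaseChange _).of_isPullback
      (IsPullback.of_hasPullback g q) hg)
  exact ⟨X', p', c ≫ pullback.fst g q, hf, hs, by
    rw [Category.assoc, pullback.condition, reassoc_of% hc]⟩

variable {D}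

/-- An effective étale separated quasi-compact datum comes from an étale separated quasi-compact
scheme over the base. -/
theorem Eff.exists_over [QuasiCompact g] [QuasiCompact D.obj.hom] [IsSeparated D.obj.hom]
    (hg : SGA1.UnivSubmersive g) (E : Eff D (𝟙 S)) :
    ∃ U : Over S, QuasiCompact U.hom ∧ IsSeparated U.hom ∧ Etale U.hom ∧
      Nonempty ((Desc.toDD g).obj U ≅ D) := by
  haveI := E.surjective_q hg
  have hqc : QuasiCompact E.str := by
    refine ⟨fun U hU hU' => ?_⟩
    rw [← Set.image_preimage_eq (E.str.base ⁻¹' U) E.q.surjective, ← Set.preimage_comp,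
      ← TopCat.coe_comp, ← Scheme.Hom.comp_base, E.q_str]
    exact (QuasiCompact.isCompact_preimage _ hU hU').image E.q.continuous
  let π := pullback.fst (D.obj.hom ≫ g) (𝟙 S)
  haveI : IsIso π := inferInstanceAs (IsIso (pullback.fst (D.obj.hom ≫ g) (𝟙 S)))
  have hπ : π ≫ D.obj.hom ≫ g = pullback.snd _ _ := pullback.condition.trans (Category.comp_id _)
  refine ⟨Over.mk E.str, hqc, E.isSeparated_str hg, E.etale,
    effective_of_isPullback (D := D) (U := Over.mk E.str) (inv π ≫ E.q) ?_ fun W a b hab => ?_⟩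
  · have := E.isPullback
    rw [Category.comp_id] at this
    exact IsPullback.of_iso this (asIso π) (Iso.refl _) (Iso.refl _) (Iso.refl _)
      (by simp) (by simp [π]) (by simp) (by simp)
  · simp only [← Category.assoc]
    refine E.compat _ _ (by simpa [π] using hab) ?_
    have h3 : ∀ c : W ⟶ D.obj.left, (c ≫ inv π) ≫ pullback.snd (D.obj.hom ≫ g) (𝟙 S) =
        (c ≫ D.obj.hom) ≫ g := fun c => by
      rw [← hπ]; simp
    exact (h3 a).trans (hab.1.trans (h3 b).symm)

end Groth.Agent.SGA1Desc
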