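import Mathlib
import Groth.Agent.SGA1Desc.FiniteLocal
import Groth.Agent.Hens.ProperClopenGen
import Groth.Agent.Wt.ExtendFinite
import Groth.Agent.Hensel.Pair
import Groth.Agent.AlgSpCov.Instances

/-!
# Descent data along proper surjective morphisms over a strictly henselian local ring

The part of an étale separated descent datum which meets the closed fibre is a disjoint union of
stable pieces, one for each point over a fixed rational point of the source, each mapping
isomorphically to the source.
-/

set_option autoImplicit false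
set_option linter.style.haveILetI false
set_option maxHeartbeats 800000
set_option backward.isDefEq.respectTransparency false

universe u

open CategoryTheory CategoryTheory.Limits AlgebraicGeometry Topology TopologicalSpace IsLocalRing
open Groth.Agent.EtaleSite (closedPt)
open Groth.Agent.Hens (FinPart.range_subset_of_forall_closedPoint)

namespace Groth.Agent.SGA1Desc

/-- Proper surjective morphisms are universally submersive. -/
theorem univSubmersive_of_isProper_of_surjective {X S : Scheme.{u}} (q : X ⟶ S) [IsProper q]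
    [Surjective q] : SGA1.UnivSubmersive q := by
  have key : (@IsProper ⊓ @Surjective : MorphismProperty Scheme.{u}) ≤
      AlgebraicGeometry.topologically fun f => Topology.IsQuotientMap f := by
    rintro A B f ⟨h1, h2⟩
    exact f.isClosedMap.isQuotientMap f.base.hom.continuous h2.surj
  intro A B i₁ i₂ f hsq
  exact key f ⟨MorphismProperty.of_isPullback hsq.flip ‹_›,
    MorphismProperty.of_isPullback hsq.flip ‹_›⟩

/-- Two maps into an étale scheme over an algebraically closed field with the same image agree. -/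
theorem eq_of_base_eq {k : Type u} [Field k] [IsAlgClosed k] {W : Scheme.{u}}
    (w : W ⟶ Spec (CommRingCat.of k)) [Etale w] {T : Scheme.{u}} [Subsingleton T] (a b : T ⟶ W)
    (hab : a ≫ w = b ≫ w) (h : ∀ t, a.base t = b.base t) : a = b := by
  haveI : LocallyQuasiFinite w := Groth.Agent.AlgSpCov.etale_le_locallyQuasiFinite _ _ _ ‹Etale w›
  let q := pullback.fst w w ≫ w
  haveI : Etale q := inferInstanceAs (Etale (pullback.fst w w ≫ w))
  haveI : LocallyQuasiFinite q := Groth.Agent.AlgSpCov.etale_le_locallyQuasiFinite _ _ _ ‹Etale q›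
  have disc : ∀ {V : Scheme.{u}} (v : V ⟶ Spec (CommRingCat.of k)) [LocallyQuasiFinite v],
      DiscreteTopology V := fun {V} v _ => by
    have hd : _root_.IsDiscrete (Set.univ : Set V) := by
      convert v.isDiscrete_preimage_singleton (closedPoint k) using 1
      ext x
      simp [Subsingleton.elim (v.base x) (closedPoint k)]
    exact isDiscrete_univ_iff.1 hd
  haveI := disc q
  haveI := disc w
  let l : T ⟶ pullback w w := pullback.lift a b hab
  have hl : Set.range l.base ⊆ Set.range (pullback.diagonal w).base := by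
    rintro _ ⟨t, rfl⟩
    let ξ := l.base t
    let Ξ := pointOfClosedPoint q ξ (isClosed_discrete _)
    have hΞ : Ξ ≫ q = 𝟙 _ := pointOfClosedPoint_comp _ _ _
    have hΞξ : Ξ.base (closedPoint k) = ξ := pointOfClosedPoint_apply _ _ _ _
    have e : Ξ ≫ pullback.fst w w = Ξ ≫ pullback.snd w w := by
      refine ext_of_apply_closedPoint_eq w (by simpa [q] using hΞ) ?_ ?_
      · rw [Category.assoc, ← pullback.condition]
        exact hΞ
      · rw [Scheme.Hom.comp_apply, Scheme.Hom.comp_apply, hΞξ, ← Scheme.Hom.comp_apply,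
          ← Scheme.Hom.comp_apply, pullback.lift_fst, pullback.lift_snd]
        exact h t
    refine ⟨(Ξ ≫ pullback.fst w w).base (closedPoint k), ?_⟩
    have e2 : (Ξ ≫ pullback.fst w w) ≫ pullback.diagonal w = Ξ := by
      apply pullback.hom_ext <;> simp [e]
    rw [← Scheme.Hom.comp_apply, e2]
    exact hΞξ
  let m := IsOpenImmersion.lift (pullback.diagonal w) l hl
  have hm : m ≫ pullback.diagonal w = l := IsOpenImmersion.lift_fac _ _ _
  have h1 := congrArg (· ≫ pullback.fst w w) hm
  have h2 := congrArg (· ≫ pullback.snd w w) hm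
  simp only [Category.assoc, pullback.diagonal_fst, pullback.diagonal_snd, Category.comp_id, l,
    pullback.lift_fst, pullback.lift_snd] at h1 h2
  exact h1.symm.trans h2

section

variable {R : Type u} [CommRing R] [HenselianLocalRing R]

/-- An open containing the closed fibre of a proper scheme over a local ring is everything. -/
theorem eq_univ_of_closedFibre {Y : Scheme.{u}} (g : Y ⟶ Spec (CommRingCat.of R))
    [UniversallyClosed g] {O : Set Y} (hO : IsOpen O) (h : ∀ y, g.base y = closedPoint R → y ∈ O) :
    O = Set.univ := by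
  haveI : UniversallyClosed (𝟙 Y ≫ g) := by rw [Category.id_comp]; infer_instance
  have := FinPart.range_subset_of_forall_closedPoint g (𝟙 Y) hO fun y hy => h y hy
  simpa using Set.univ_subset_iff.1 (by simpa using this)

/-- A field valued point over the closed point factors through it. -/
theorem exists_lift_closedPt {K : Type u} [Field K] (g : Spec (CommRingCat.of K) ⟶ Spec (CommRingCat.of R))
    (hg : ∀ t, g.base t = closedPoint R) :
    ∃ τ : Spec (CommRingCat.of K) ⟶ Spec (CommRingCat.of (ResidueField R)), τ ≫ closedPt R = g := by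
  obtain ⟨φ, rfl⟩ : ∃ φ, Spec.map φ = g := ⟨_, Spec.map_preimage g⟩
  have hker : maximalIdeal R ≤ RingHom.ker φ.hom := fun r hr => by
    have h := congrArg PrimeSpectrum.asIdeal (hg (closedPoint K))
    have hr' : r ∈ (Spec.map φ (closedPoint K) : PrimeSpectrum R).asIdeal := h.symm ▸ hr
    change φ.hom r ∈ (closedPoint K).asIdeal at hr'
    rw [RingHom.mem_ker]
    by_contra hne
    exact (closedPoint K).2.ne_top (Ideal.eq_top_of_isUnit_mem _ hr' (IsUnit.mk0 _ hne))
  refine ⟨Spec.map (CommRingCat.ofHom (Ideal.Quotient.lift (maximalIdeal R) φ.hom hker)), ?_⟩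
  rw [show closedPt R = Spec.map (CommRingCat.ofHom (residue R)) from rfl, ← Spec.map_comp]
  rfl

variable [IsAlgClosed (ResidueField R)] {X : Scheme.{u}}
  {p : X ⟶ Spec (CommRingCat.of R)} [IsProper p] (D : Desc.SchDD p)
  [QuasiCompact D.obj.hom] [IsSeparated D.obj.hom] [Etale D.obj.hom]

/-- The points of the datum over a fixed rational point. -/
abbrev Pts (x₀ : Spec (CommRingCat.of (ResidueField R)) ⟶ X) :=
  {P : Spec (CommRingCat.of (ResidueField R)) ⟶ D.obj.left // P ≫ D.obj.hom = x₀}

variable (x₀ : Spec (CommRingCat.of (ResidueField R)) ⟶ X) (hx₀ : x₀ ≫ p = closedPt R)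

/-- The section of the closed fibre through a point over the fixed rational point. -/
noncomputable def sec (P : Pts D x₀) : pullback p (closedPt R) ⟶ D.obj.left :=
  (exists_rel (D := D) (pullback.snd p (closedPt R) ≫ P.1) (pullback.fst p (closedPt R))
    (by simp only [Category.assoc, reassoc_of% P.2, hx₀, pullback.condition])).choose

theorem sec_rel (P : Pts D x₀) :
    Rel D (pullback.snd p (closedPt R) ≫ P.1) (sec D x₀ hx₀ P) :=
  (exists_rel (D := D) (pullback.snd p (closedPt R) ≫ P.1) (pullback.fst p (closedPt R))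
    (by simp only [Category.assoc, reassoc_of% P.2, hx₀, pullback.condition])).choose_spec.1

theorem sec_hom (P : Pts D x₀) : sec D x₀ hx₀ P ≫ D.obj.hom = pullback.fst p (closedPt R) :=
  (exists_rel (D := D) (pullback.snd p (closedPt R) ≫ P.1) (pullback.fst p (closedPt R))
    (by simp only [Category.assoc, reassoc_of% P.2, hx₀, pullback.condition])).choose_spec.2

include hx₀ in
/-- A field valued point over the closed point is related to a unique point over the fixed
rational point, and is the value of its section. -/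
theorem exists_pts {K : Type u} [Field K] (a : Spec (CommRingCat.of K) ⟶ D.obj.left)
    (τ : Spec (CommRingCat.of K) ⟶ Spec (CommRingCat.of (ResidueField R)))
    (ha : a ≫ D.obj.hom ≫ p = τ ≫ closedPt R) :
    ∃ P : Pts D x₀, Rel D a (τ ≫ P.1) ∧
      pullback.lift (a ≫ D.obj.hom) τ (by simpa using ha) ≫ sec D x₀ hx₀ P = a := by
  obtain ⟨b, hab, hb⟩ := exists_rel (D := D) a (τ ≫ x₀) (by simp only [Category.assoc, ha, hx₀])
  let w := pullback.snd D.obj.hom x₀
  haveI : Etale w := MorphismProperty.pullback_snd _ _ ‹Etale D.obj.hom›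
  haveI : LocallyQuasiFinite w := Groth.Agent.AlgSpCov.etale_le_locallyQuasiFinite _ _ _ ‹Etale w›
  let b' := pullback.lift b τ hb
  let pt : Spec (CommRingCat.of K) := closedPoint K
  have hdisc : IsClosed ({b'.base pt} : Set (pullback D.obj.hom x₀ : Scheme.{u})) := by
    have hd : _root_.IsDiscrete (Set.univ : Set (pullback D.obj.hom x₀ : Scheme.{u})) := by
      convert w.isDiscrete_preimage_singleton (closedPoint (ResidueField R)) using 1
      ext x
      simp [Subsingleton.elim (w.base x) (closedPoint (ResidueField R))]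
    haveI := isDiscrete_univ_iff.1 hd
    exact isClosed_discrete _
  let P' := pointOfClosedPoint w (b'.base pt) hdisc
  have hP' : P' ≫ w = 𝟙 _ := pointOfClosedPoint_comp _ _ _
  have hb' : b' = τ ≫ P' := by
    refine eq_of_base_eq w _ _ (by rw [Category.assoc, hP', Category.comp_id]; exact pullback.lift_snd _ _ _)
      fun t => ?_
    rw [Subsingleton.elim t pt, Scheme.Hom.comp_apply]
    exact (pointOfClosedPoint_apply w (b'.base pt) hdisc _).symm
  let P : Pts D x₀ := ⟨P' ≫ pullback.fst D.obj.hom x₀, by
    rw [Category.assoc, pullback.condition, ← Category.assoc, hP', Category.id_comp]⟩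
  have hbP : b = τ ≫ P.1 := by
    rw [← pullback.lift_fst (f := D.obj.hom) (g := x₀) b τ hb]
    change b' ≫ _ = τ ≫ P' ≫ _
    rw [hb', Category.assoc]
  refine ⟨P, hbP ▸ hab, ?_⟩
  let x := pullback.lift (f := p) (g := closedPt R) (a ≫ D.obj.hom) τ (by simpa using ha)
  have h1 : Rel D (τ ≫ P.1) (x ≫ sec D x₀ hx₀ P) := by
    have := rel_comp x (sec_rel D x₀ hx₀ P)
    rwa [← Category.assoc, pullback.lift_snd] at this
  refine rel_unique h1 (rel_symm (hbP ▸ hab)) ?_
  rw [Category.assoc, sec_hom, pullback.lift_fst]

include hx₀ in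
theorem pts_eq_of_rel {K : Type u} [Field K]
    (τ : Spec (CommRingCat.of K) ⟶ Spec (CommRingCat.of (ResidueField R))) {P Q : Pts D x₀}
    (h : Rel D (τ ≫ P.1) (τ ≫ Q.1)) : P = Q := by
  haveI : LocallyOfFiniteType (D.obj.hom ≫ p) := inferInstance
  have e : τ ≫ P.1 = τ ≫ Q.1 := rel_unique (rel_refl _) h (by rw [Category.assoc, Category.assoc, P.2, Q.2])
  refine Subtype.ext (kpt_ext (D.obj.hom ≫ p) (by rw [← Category.assoc, P.2, hx₀])
    (by rw [← Category.assoc, Q.2, hx₀]) ?_)
  have := congrArg (fun φ => φ.base (closedPoint K)) e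
  simp only [Scheme.Hom.comp_apply] at this
  rwa [Subsingleton.elim (τ.base (closedPoint K)) (closedPoint (ResidueField R))] at this

include hx₀ in
/-- Every point of the closed fibre is the image of a field valued point, hence lies on a section. -/
theorem exists_point (z : D.obj.left) (hz : (D.obj.hom ≫ p).base z = closedPoint R) :
    ∃ P : Pts D x₀, z ∈ Set.range (sec D x₀ hx₀ P).base := by
  obtain ⟨ζ, hζ, -⟩ := Scheme.Pullback.exists_preimage_pullback (f := D.obj.hom ≫ p) (g := closedPt R) z
    (closedPoint (ResidueField R)) (hz.trans (closedPt_apply R _).symm)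
  let W := pullback (D.obj.hom ≫ p) (closedPt R)
  let T := W.fromSpecResidueField ζ
  let a := T ≫ pullback.fst (D.obj.hom ≫ p) (closedPt R)
  let τ := T ≫ pullback.snd (D.obj.hom ≫ p) (closedPt R)
  have ha : a ≫ D.obj.hom ≫ p = τ ≫ closedPt R := by simp only [a, τ, Category.assoc, pullback.condition]
  obtain ⟨P, -, hP⟩ := exists_pts D x₀ hx₀ a τ ha
  let pt : Spec (W.residueField ζ) := closedPoint (W.residueField ζ)
  refine ⟨P, (pullback.lift (a ≫ D.obj.hom) τ (by simpa using ha)).base pt, ?_⟩
  rw [← Scheme.Hom.comp_apply, hP, Scheme.Hom.comp_apply, Scheme.fromSpecResidueField_apply]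
  exact hζ

include hx₀ in
theorem pts_eq_of_mem {P Q : Pts D x₀} {z : D.obj.left} (hP : z ∈ Set.range (sec D x₀ hx₀ P).base)
    (hQ : z ∈ Set.range (sec D x₀ hx₀ Q).base) : P = Q := by
  have hz : (D.obj.hom ≫ p).base z = closedPoint R := by
    obtain ⟨t, rfl⟩ := hP
    rw [← Scheme.Hom.comp_apply, reassoc_of% (sec_hom D x₀ hx₀ P), pullback.condition, Scheme.Hom.comp_apply,
      closedPt_apply]
  obtain ⟨τ, hτ⟩ := exists_lift_closedPt (K := D.obj.left.residueField z)
    (D.obj.left.fromSpecResidueField z ≫ D.obj.hom ≫ p) fun t => by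
    rw [Scheme.Hom.comp_apply]
    erw [Scheme.fromSpecResidueField_apply]
    exact hz
  obtain ⟨P₁, hP₁, -⟩ := exists_pts D x₀ hx₀ (D.obj.left.fromSpecResidueField z) τ hτ.symm
  have key : ∀ M : Pts D x₀, z ∈ Set.range (sec D x₀ hx₀ M).base → M = P₁ := by
    rintro M ⟨s, hs⟩
    subst hs
    let T := (pullback p (closedPt R)).fromSpecResidueField s
    let φ := Spec.map ((sec D x₀ hx₀ M).residueFieldMap s)
    have hφ : φ ≫ D.obj.left.fromSpecResidueField _ = T ≫ sec D x₀ hx₀ M :=
      Scheme.Hom.SpecMap_residueFieldMap_fromSpecResidueField _ _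
    have e : T ≫ pullback.snd p (closedPt R) = φ ≫ τ := by
      haveI := isClosedImmersion_closedPt R
      rw [← cancel_mono (closedPt R), Category.assoc, Category.assoc, hτ, reassoc_of% hφ,
        reassoc_of% (sec_hom D x₀ hx₀ M), pullback.condition]
    have h1 : Rel D ((φ ≫ τ) ≫ M.1) (φ ≫ D.obj.left.fromSpecResidueField _) := by
      rw [← e, hφ, Category.assoc]
      exact rel_comp T (sec_rel D x₀ hx₀ M)
    have h2 : Rel D (φ ≫ D.obj.left.fromSpecResidueField _) ((φ ≫ τ) ≫ P₁.1) := by
      rw [Category.assoc]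
      exact rel_comp φ hP₁
    exact pts_eq_of_rel D x₀ hx₀ (φ ≫ τ) (rel_trans h1 h2)
  exact (key P hP).trans (key Q hQ).symm

end

end Groth.Agent.SGA1Desc
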