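import Mathlib
import Groth.Agent.SGA1Desc.ProperLocal
import Groth.Agent.SGA1Desc.FiniteEff

/-!
# Effective descent of étale separated morphisms along proper surjective morphisms

Over a Noetherian base, by induction on the dimension of a complete local base with algebraically
closed residue field.
-/

set_option autoImplicit false
set_option linter.style.haveILetI false
set_option maxHeartbeats 1600000
set_option backward.isDefEq.respectTransparency false

universe u

open CategoryTheory CategoryTheory.Limits AlgebraicGeometry Topology TopologicalSpace IsLocalRing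
open Groth.Agent.EtaleSite (closedPt)
open Groth.Agent.Hens (FinPart.range_subset_of_forall_closedPoint)

namespace Groth.Agent.SGA1Desc

variable {R : Type u} [CommRing R] [HenselianLocalRing R] [IsNoetherianRing R]
  [IsAlgClosed (ResidueField R)] {X : Scheme.{u}}
  {p : X ⟶ Spec (CommRingCat.of R)} [IsProper p] [Surjective p] {D : Desc.SchDD p}
  [QuasiCompact D.obj.hom] [IsSeparated D.obj.hom] [Etale D.obj.hom]

omit [IsNoetherianRing R] [IsAlgClosed (ResidueField R)] in
/-- The residue field of a point over the closed point lies over the residue field of the base. -/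
theorem exists_lift_residue {W : Scheme.{u}} (g : W ⟶ Spec (CommRingCat.of R)) (ξ : W)
    (h : g.base ξ = closedPoint R) :
    ∃ τ : Spec (W.residueField ξ) ⟶ Spec (CommRingCat.of (ResidueField R)),
      τ ≫ closedPt R = W.fromSpecResidueField ξ ≫ g :=
  exists_lift_closedPt (K := W.residueField ξ) (W.fromSpecResidueField ξ ≫ g) fun t =>
    (congrArg g.base (W.fromSpecResidueField_apply ξ t)).trans h

theorem exists_x₀ : ∃ x₀ : Spec (CommRingCat.of (ResidueField R)) ⟶ X, x₀ ≫ p = closedPt R := by
  haveI := isClosedImmersion_closedPt R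
  let π := pullback.snd p (closedPt R)
  haveI : Nonempty (pullback p (closedPt R) : Scheme.{u}) := by
    haveI : Surjective π := MorphismProperty.pullback_snd _ _ ‹Surjective p›
    obtain ⟨z, -⟩ := π.surjective (closedPoint (ResidueField R))
    exact ⟨z⟩
  haveI : CompactSpace (pullback p (closedPt R) : Scheme.{u}) := QuasiCompact.compactSpace_of_compactSpace π
  obtain ⟨x, -, hx⟩ := isClosed_univ.exists_closed_singleton (X := (pullback p (closedPt R) : Scheme.{u}))
    Set.univ_nonempty
  refine ⟨pointOfClosedPoint π x hx ≫ pullback.fst p (closedPt R), ?_⟩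
  rw [Category.assoc, pullback.condition, ← Category.assoc, pointOfClosedPoint_comp]
  exact Category.id_comp _

theorem exists_eff_of_punctured_proper (V : (Spec (CommRingCat.of R)).Opens)
    (hV : ∀ x, x ≠ closedPoint R → x ∈ V) (hEV : Nonempty (Eff D V.ι)) :
    Nonempty (Eff D (𝟙 _)) := by
  classical
  have hp : SGA1.UnivSubmersive p := univSubmersive_of_isProper_of_surjective p
  haveI := isClosedImmersion_closedPt R
  let z := D.obj.hom
  let f := z ≫ p
  obtain ⟨x₀, hx₀⟩ := exists_x₀ (p := p)
  let m : X := x₀.base (closedPoint (ResidueField R))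
  haveI : LocallyQuasiFinite z := Groth.Agent.AlgSpCov.etale_le_locallyQuasiFinite _ _ _ ‹Etale D.obj.hom›
  haveI : LocallyOfFiniteType f := inferInstanceAs (LocallyOfFiniteType (z ≫ p))
  haveI : CompactSpace X := QuasiCompact.compactSpace_of_compactSpace p
  haveI : QuasiSeparatedSpace X := quasiSeparatedSpace_of_quasiSeparated p
  haveI : IsLocallyNoetherian X := LocallyOfFiniteType.isLocallyNoetherian p
  haveI : IsLocallyNoetherian D.obj.left := LocallyOfFiniteType.isLocallyNoetherian f
  haveI : Finite (Pts D x₀) := by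
    have hfin : Set.Finite (z.base ⁻¹' {m}) := z.finite_preimage_singleton m
    haveI := hfin.to_subtype
    refine Finite.of_injective (fun P : Pts D x₀ => (⟨P.1.base (closedPoint (ResidueField R)), ?_⟩ : ↑(z.base ⁻¹' {m})))
      fun P Q h => Subtype.ext (kpt_ext f (by rw [← Category.assoc, P.2, hx₀]) (by rw [← Category.assoc, Q.2, hx₀])
        (congrArg Subtype.val h))
    change z.base (P.1.base _) = m
    rw [← Scheme.Hom.comp_apply, P.2]
  let O : Pts D x₀ → Set D.obj.left := fun P => Set.range (sec D x₀ hx₀ P).base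
  let F : Set D.obj.left := f.base ⁻¹' {closedPoint R}
  have hOF : ∀ P, O P ⊆ F := by
    rintro P _ ⟨t, rfl⟩
    change (D.obj.hom ≫ p).base _ = closedPoint R
    rw [← Scheme.Hom.comp_apply, reassoc_of% (sec_hom D x₀ hx₀ P), pullback.condition,
      Scheme.Hom.comp_apply, closedPt_apply]
  have hcis : ∀ P, IsClosedImmersion (sec D x₀ hx₀ P) := fun P => by
    haveI : IsClosedImmersion (sec D x₀ hx₀ P ≫ D.obj.hom) := by rw [sec_hom]; infer_instance
    exact IsClosedImmersion.of_comp _ D.obj.hom
  have hOc : ∀ P, IsClosed (O P) := fun P => haveI := hcis P; (sec D x₀ hx₀ P).isClosedEmbedding.isClosed_range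
  -- the finite compactification
  obtain ⟨Zb, i, h, hi, -, hh, hih⟩ := Wt.ExtendFinite.exists_openImmersion_finite z
  haveI := hi
  haveI := hh
  let g := h ≫ p
  haveI : IsProper g := inferInstanceAs (IsProper (h ≫ p))
  have hg : ∀ y, g.base (i.base y) = f.base y := fun y => by
    change (i ≫ h ≫ p).base y = _
    rw [reassoc_of% hih]
  let Fb : Set Zb := g.base ⁻¹' PrimeSpectrum.zeroLocus (maximalIdeal R : Set R)
  have hzl : ∀ t : Spec (CommRingCat.of R), t ∈ PrimeSpectrum.zeroLocus (maximalIdeal R : Set R) ↔ t = closedPoint R := by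
    intro t
    rw [PrimeSpectrum.mem_zeroLocus]
    exact ⟨fun hle => PrimeSpectrum.ext ((maximalIdeal.isMaximal R).eq_of_le t.2.ne_top hle).symm,
      fun he => he ▸ le_rfl⟩
  have hU : ∀ P : Pts D x₀, ∃ U : Set Zb, IsClopen U ∧ U ∩ Fb = i.base '' O P := by
    intro P
    haveI := hcis P
    haveI : IsClosedImmersion (sec D x₀ hx₀ P ≫ i) := by
      haveI : IsClosedImmersion ((sec D x₀ hx₀ P ≫ i) ≫ h) := by
        rw [Category.assoc, hih, sec_hom]; infer_instance
      exact IsClosedImmersion.of_comp _ h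
    have hVF : i.base '' O P ⊆ Fb := by
      rintro _ ⟨y, hy, rfl⟩
      change g.base (i.base y) ∈ PrimeSpectrum.zeroLocus _
      rw [hzl, hg]
      exact hOF P hy
    let G : Set D.obj.left := (⋃ (Q : Pts D x₀) (_ : Q ≠ P), O Q)ᶜ
    have hG : IsOpen G := (isClosed_iUnion_of_finite fun Q => isClosed_iUnion_of_finite fun _ => hOc Q).isOpen_compl
    refine (Hens.ProperClopenGen.existsUnique_clopen (maximalIdeal R) g hVF ⟨?_, ?_⟩).exists
    · refine IsClosed.preimage continuous_subtype_val ?_
      rw [show i.base '' O P = Set.range (sec D x₀ hx₀ P ≫ i).base by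
        simp only [O, Scheme.Hom.comp_base, TopCat.coe_comp, Set.range_comp]]
      exact (sec D x₀ hx₀ P ≫ i).isClosedEmbedding.isClosed_range
    · refine isOpen_induced_iff.2 ⟨i.base '' G, i.isOpenEmbedding.isOpenMap _ hG, Set.ext fun y => ⟨?_, ?_⟩⟩
      · rintro ⟨v, hv, hvy⟩
        have hvF : f.base v = closedPoint R := by
          rw [← hg, hvy]
          exact (hzl _).1 y.2
        obtain ⟨Q, hQ⟩ := exists_point D x₀ hx₀ v hvF
        by_cases hQP : Q = P
        · exact ⟨v, hQP ▸ hQ, hvy⟩
        · exact absurd (Set.mem_iUnion₂.2 ⟨Q, hQP, hQ⟩) hv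
      · rintro ⟨v, hv, hvy⟩
        refine ⟨v, fun hv' => ?_, hvy⟩
        obtain ⟨Q, hQP, hQ⟩ := Set.mem_iUnion₂.1 hv'
        exact hQP (pts_eq_of_mem D x₀ hx₀ hQ hv)
  choose U hUcl hUF using hU
  -- the clopens lie in the scheme
  have hUi : ∀ P, U P ⊆ Set.range i.base := fun P => by
    have := eq_univ_of_closedFibre g ((hUcl P).1.isOpen_compl.union i.isOpenEmbedding.isOpen_range)
      fun y hy => by
        by_cases hyU : y ∈ U P
        · obtain ⟨v, -, rfl⟩ := (hUF P).le ⟨hyU, show g.base y ∈ _ from (hzl _).2 hy⟩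
          exact Or.inr ⟨v, rfl⟩
        · exact Or.inl hyU
    intro y hy
    rcases this.ge (Set.mem_univ y) with h | h
    · exact absurd hy h
    · exact h
  let C : Pts D x₀ → D.obj.left.Opens := fun P => ⟨i.base ⁻¹' U P, (hUcl P).2.preimage i.continuous⟩
  have hCc : ∀ P, IsClosed (C P : Set D.obj.left) := fun P => (hUcl P).1.preimage i.continuous
  have hCF : ∀ P y, f.base y = closedPoint R → (y ∈ C P ↔ y ∈ O P) := fun P y hy => by
    constructor
    · intro h
      obtain ⟨v, hv, hvy⟩ := (hUF P).le ⟨h, show g.base (i.base y) ∈ _ from (hzl _).2 ((hg y).trans hy)⟩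
      exact i.isOpenEmbedding.injective hvy ▸ hv
    · intro h
      exact ((hUF P).ge ⟨y, h, rfl⟩).1
  have hCi : ∀ P, IsClosedImmersion ((C P).ι ≫ i) := fun P => by
    refine IsClosedImmersion.of_isPreimmersion _ ?_
    rw [Scheme.Hom.comp_base, TopCat.coe_comp, Set.range_comp, Scheme.Opens.range_ι]
    change IsClosed (i.base '' (i.base ⁻¹' U P))
    rw [Set.image_preimage_eq_of_subset (hUi P)]
    exact (hUcl P).1
  have hCf : ∀ P, IsFinite ((C P).ι ≫ z) := fun P => by
    haveI := hCi P
    rw [← hih, ← Category.assoc]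
    infer_instance
  -- stability
  have hst : ∀ P, Stable D (C P) := fun P => by
    let r := pullback.fst f p
    obtain ⟨b₀, hb₀, hb₀X⟩ := exists_rel (D := D) r (pullback.snd f p)
      (by rw [Category.assoc]; exact pullback.condition)
    haveI := hCf P
    haveI : IsProper r := MorphismProperty.pullback_fst _ _ ‹IsProper p›
    haveI : UniversallyClosed ((r ⁻¹ᵁ C P).ι ≫ r ≫ f) := by
      have e : (r ⁻¹ᵁ C P).ι ≫ r ≫ f = (r ∣_ C P) ≫ ((C P).ι ≫ z) ≫ p := by
        rw [Category.assoc, morphismRestrict_ι_assoc]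
      haveI : IsProper (r ∣_ C P) := IsZariskiLocalAtTarget.restrict ‹IsProper r› (C P)
      rw [e]
      infer_instance
    have key : Set.range (r ⁻¹ᵁ C P).ι.base ⊆ b₀.base ⁻¹' (C P) := by
      refine FinPart.range_subset_of_forall_closedPoint (r ≫ f) (r ⁻¹ᵁ C P).ι
        ((C P).2.preimage b₀.continuous) fun w hw => ?_
      let ξ := (r ⁻¹ᵁ C P).ι.base w
      let T := (pullback f p).fromSpecResidueField ξ
      obtain ⟨τ, hτ⟩ := exists_lift_residue (r ≫ f) ξ hw
      have ha : (T ≫ r) ≫ D.obj.hom ≫ p = τ ≫ closedPt R := by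
        simp only [Category.assoc]
        exact hτ.symm
      have hb : (T ≫ b₀) ≫ D.obj.hom ≫ p = τ ≫ closedPt R := by
        simp only [Category.assoc]
        rw [← Category.assoc b₀, hb₀X, ← pullback.condition]
        exact hτ.symm
      obtain ⟨P₁, hP₁, hP₁'⟩ := exists_pts D x₀ hx₀ (T ≫ r) τ ha
      obtain ⟨P₂, hP₂, hP₂'⟩ := exists_pts D x₀ hx₀ (T ≫ b₀) τ hb
      have h12 : P₁ = P₂ := pts_eq_of_rel D x₀ hx₀ τ
        (rel_trans (rel_symm hP₁) (rel_trans (rel_comp T hb₀) hP₂))
      let pt : Spec ((pullback f p).residueField ξ) := closedPoint ((pullback f p).residueField ξ)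
      have hmem : ∀ (a : Spec ((pullback f p).residueField ξ) ⟶ D.obj.left) (Q : Pts D x₀)
          (l : Spec ((pullback f p).residueField ξ) ⟶ pullback p (closedPt R)),
          l ≫ sec D x₀ hx₀ Q = a → a.base pt ∈ O Q := fun a Q l hl => ⟨l.base pt, by rw [← hl]; rfl⟩
      have hP : P₁ = P := by
        refine pts_eq_of_mem D x₀ hx₀ (hmem _ _ _ hP₁') ?_
        have e : (T ≫ r).base pt = r.base ξ := by
          rw [Scheme.Hom.comp_apply, Scheme.fromSpecResidueField_apply]
        rw [e]
        exact (hCF P _ hw).1 w.2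
      have h2 := hmem _ _ _ hP₂'
      rw [← h12, hP] at h2
      have e2 : (T ≫ b₀).base pt = b₀.base ξ := by
        rw [Scheme.Hom.comp_apply, Scheme.fromSpecResidueField_apply]
      rw [e2] at h2
      exact (hCF P _ (hOF P h2)).2 h2
    intro T a b hab t ht
    let l : T ⟶ pullback f p :=
      pullback.lift a (b ≫ D.obj.hom) (by simpa [f, Category.assoc] using hab.1)
    have hla : l ≫ r = a := pullback.lift_fst _ _ _
    have hlb : l ≫ b₀ = b := by
      have h1 : Rel D (l ≫ r) (l ≫ b₀) := rel_comp l hb₀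
      rw [hla] at h1
      refine rel_unique h1 hab ?_
      rw [Category.assoc, hb₀X]
      exact pullback.lift_snd _ _ _
    have hl : l.base t ∈ r ⁻¹ᵁ C P := by
      change (l ≫ r).base t ∈ C P
      rw [hla]
      exact ht
    change b.base t ∈ C P
    rw [← hlb, Scheme.Hom.comp_apply]
    exact key ⟨⟨l.base t, hl⟩, rfl⟩
  -- the pieces map isomorphically to the source
  have hiso : ∀ P, IsIso ((C P).ι ≫ z) := fun P => by
    let c := (C P).ι ≫ z
    haveI : IsFinite c := hCf P
    haveI : Etale c := inferInstanceAs (Etale ((C P).ι ≫ D.obj.hom))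
    haveI : IsFinite (pullback.fst c c) := MorphismProperty.pullback_fst _ _ ‹IsFinite c›
    let π := pullback.fst c c ≫ c ≫ p
    haveI : UniversallyClosed π := inferInstanceAs (UniversallyClosed (pullback.fst c c ≫ c ≫ p))
    have hd : Set.range (pullback.diagonal c).base = Set.univ := by
      refine eq_univ_of_closedFibre π (pullback.diagonal c).isOpenEmbedding.isOpen_range fun ξ hξ => ?_
      let T := (pullback c c).fromSpecResidueField ξ
      let pt : Spec ((pullback c c).residueField ξ) := closedPoint ((pullback c c).residueField ξ)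
      obtain ⟨τ, hτ⟩ := exists_lift_residue π ξ hξ
      let a := (T ≫ pullback.fst c c) ≫ (C P).ι
      let b := (T ≫ pullback.snd c c) ≫ (C P).ι
      have hab : a ≫ D.obj.hom = b ≫ D.obj.hom := by
        simp only [a, b, Category.assoc]
        exact congrArg (T ≫ ·) (pullback.condition (f := c) (g := c))
      have ha : a ≫ D.obj.hom ≫ p = τ ≫ closedPt R := by
        simp only [a, Category.assoc]
        rw [hτ]
        simp only [π, c, Category.assoc]
        rfl
      have hb : b ≫ D.obj.hom ≫ p = τ ≫ closedPt R := by rw [← reassoc_of% hab, ha]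
      have aux : ∀ (a : Spec ((pullback c c).residueField ξ) ⟶ D.obj.left)
          (ha : a ≫ D.obj.hom ≫ p = τ ≫ closedPt R), a.base pt ∈ C P →
          pullback.lift (a ≫ D.obj.hom) τ (by simpa using ha) ≫ sec D x₀ hx₀ P = a := by
        intro a ha hmem
        obtain ⟨Q, -, hQ'⟩ := exists_pts D x₀ hx₀ a τ ha
        have h1 : a.base pt ∈ O Q :=
          ⟨(pullback.lift (a ≫ D.obj.hom) τ (by simpa using ha)).base pt, by
            rw [← Scheme.Hom.comp_apply, hQ']⟩
        obtain rfl : Q = P := pts_eq_of_mem D x₀ hx₀ h1 ((hCF P _ (hOF Q h1)).1 hmem)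
        exact hQ'
      have e : T ≫ pullback.fst c c = T ≫ pullback.snd c c := by
        rw [← cancel_mono (C P).ι]
        change a = b
        rw [← aux a ha ((T ≫ pullback.fst c c).base pt).2, ← aux b hb ((T ≫ pullback.snd c c).base pt).2]
        congr 1
        apply pullback.hom_ext <;> simp [hab]
      have e2 : (T ≫ pullback.fst c c) ≫ pullback.diagonal c = T := by
        apply pullback.hom_ext <;> simp [e]
      refine ⟨(T ≫ pullback.fst c c).base pt, ?_⟩
      rw [← Scheme.Hom.comp_apply, e2, Scheme.fromSpecResidueField_apply]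
    haveI : Surjective (pullback.diagonal c) := ⟨fun ξ => hd.ge (Set.mem_univ ξ)⟩
    haveI : IsIso (pullback.diagonal c) := IsOpenImmersion.isIso _
    haveI : Mono c := ⟨fun {W₀} a b hab => by
      have e : pullback.fst c c = pullback.snd c c := by
        rw [← cancel_epi (pullback.diagonal c)]
        simp
      simpa using congrArg (pullback.lift a b hab ≫ ·) e⟩
    haveI : IsOpenImmersion c := IsOpenImmersion.of_flat_of_mono c
    haveI : Surjective c := by
      refine ⟨fun x => (eq_univ_of_closedFibre p c.isOpenEmbedding.isOpen_range fun y hy => ?_).ge (Set.mem_univ x)⟩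
      obtain ⟨ζ, hζ, -⟩ := Scheme.Pullback.exists_preimage_pullback (f := p) (g := closedPt R) y
        (closedPoint (ResidueField R)) (hy.trans (closedPt_apply R _).symm)
      have hmem : (sec D x₀ hx₀ P).base ζ ∈ O P := ⟨ζ, rfl⟩
      refine ⟨⟨_, (hCF P _ (hOF P hmem)).2 hmem⟩, ?_⟩
      change (sec D x₀ hx₀ P ≫ D.obj.hom).base ζ = y
      rw [sec_hom]
      exact hζ
    exact IsOpenImmersion.isIso c
  -- the rest
  let Wu : Set D.obj.left := ⋃ P, (C P : Set D.obj.left)
  let W' : D.obj.left.Opens := ⟨Wuᶜ, (isClosed_iUnion_of_finite hCc).isOpen_compl⟩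
  have hW'st : Stable D W' := fun T a b hab t ht hb => by
    obtain ⟨P, hP⟩ := Set.mem_iUnion.1 hb
    exact ht (Set.mem_iUnion.2 ⟨P, hst P b a (rel_symm hab) hP⟩)
  obtain ⟨EV⟩ := hEV
  obtain ⟨P₁, hP₁⟩ := EV.exists_piece V
  obtain ⟨P₀, hP₀⟩ := P₁.exists_restrict hp hW'st
    (fun x hx => hV _ fun he => hx (by
      obtain ⟨Q, hQ⟩ := exists_point D x₀ hx₀ x he
      exact Set.mem_iUnion.2 ⟨Q, (hCF Q x he).2 hQ⟩)) hP₁
  let Cs : Option (Pts D x₀) → D.obj.left.Opens := fun o => o.elim W' C
  have hP : ∀ o, ∃ P : Piece D (Cs o), Etale P.str := by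
    rintro (_ | c)
    · exact ⟨P₀, hP₀⟩
    · haveI := hiso c
      refine ⟨{ stable := hst c, base := Spec (CommRingCat.of R), str := 𝟙 _,
                q := (C c).ι ≫ z ≫ p, isPullback := ?_, compat := fun T a b hab => ?_ },
        (inferInstance : Etale (𝟙 (Spec (CommRingCat.of R))))⟩
      · haveI : IsIso ((Cs (some c)).ι ≫ D.obj.hom) := hiso c
        exact IsPullback.of_vert_isIso ⟨by simp; rfl⟩
      · have e := hab.1
        simp only [Category.assoc] at e
        exact e
  choose P hPe using hP
  refine exists_eff_of_disjoint Cs P hPe (fun x => ?_) ?_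
  · by_cases hx : x ∈ Wu
    · obtain ⟨c, hc⟩ := Set.mem_iUnion.1 hx
      exact ⟨some c, hc⟩
    · exact ⟨none, hx⟩
  · rintro x (_ | c) (_ | d) h h'
    · rfl
    · exact absurd (show x ∈ Wu from Set.mem_iUnion.2 ⟨d, h'⟩) h
    · exact absurd (show x ∈ Wu from Set.mem_iUnion.2 ⟨c, h⟩) h'
    · refine congrArg some (by_contra fun hne => ?_)
      have := eq_univ_of_closedFibre g ((hUcl c).1.isOpen_compl.union (hUcl d).1.isOpen_compl) fun y hy => by
        by_contra hy'
        simp only [Set.mem_union, Set.mem_compl_iff, not_or, not_not] at hy'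
        obtain ⟨v, hv, hvy⟩ := (hUF c).le ⟨hy'.1, show g.base y ∈ _ from (hzl _).2 hy⟩
        obtain ⟨w, hw, hwy⟩ := (hUF d).le ⟨hy'.2, show g.base y ∈ _ from (hzl _).2 hy⟩
        exact hne (pts_eq_of_mem D x₀ hx₀ hv (i.isOpenEmbedding.injective (hwy.trans hvy.symm) ▸ hw))
      rcases this.ge (Set.mem_univ (i.base x)) with h1 | h1
      · exact h1 h
      · exact h1 h'

/-- Effective descent along proper surjective morphisms over complete local rings. -/
theorem exists_eff_complete_proper : ∀ (n : WithBot ℕ∞) (B : Type u) [CommRing B] [IsNoetherianRing B]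
    [IsLocalRing B] [IsAdicComplete (maximalIdeal B) B] [IsAlgClosed (ResidueField B)],
    ringKrullDim B = n → ∀ {X : Scheme.{u}} (p : X ⟶ Spec (CommRingCat.of B)) [IsProper p]
      [Surjective p] (D : Desc.SchDD p) [QuasiCompact D.obj.hom] [IsSeparated D.obj.hom]
      [Etale D.obj.hom], Nonempty (Eff D (𝟙 _)) := by
  intro n
  induction n using WellFoundedLT.induction with
  | _ n IH =>
    intro B _ _ _ _ _ hn X p _ _ D _ _ _
    haveI : HenselianLocalRing B := Hensel.henselianLocalRing_of_henselianRing inferInstance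
    let V : (Spec (CommRingCat.of B)).Opens :=
      ⟨{closedPoint B}ᶜ, (IsLocalRing.isClosed_singleton_closedPoint (R := B)).isOpen_compl⟩
    refine exists_eff_of_punctured_proper V (fun x hx => hx) ?_
    let p₁ := pullback.snd p V.ι
    haveI : IsProper p₁ := MorphismProperty.pullback_snd _ _ ‹IsProper p›
    haveI : Surjective p₁ := MorphismProperty.pullback_snd _ _ ‹Surjective p›
    let D₁ := pullDatum D p₁ (pullback.fst p V.ι) V.ι pullback.condition
    haveI : QuasiCompact D₁.obj.hom := MorphismProperty.pullback_snd _ _ ‹QuasiCompact D.obj.hom›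
    haveI : IsSeparated D₁.obj.hom := MorphismProperty.pullback_snd _ _ ‹IsSeparated D.obj.hom›
    haveI : Etale D₁.obj.hom := MorphismProperty.pullback_snd _ _ ‹Etale D.obj.hom›
    have hp₁ : SGA1.UnivSubmersive p₁ := univSubmersive_of_isProper_of_surjective p₁
    haveI : LocallyOfFinitePresentation p₁ :=
      LocallyOfFinitePresentation.iff_locallyOfFiniteType.2 inferInstance
    obtain ⟨E₁⟩ := exists_eff_of_forall_complete D₁ hp₁ fun a B' _ _ _ _ _ q hq => by
      let p₂ := pullback.snd p₁ q
      haveI : IsProper p₂ := MorphismProperty.pullback_snd _ _ ‹IsProper p₁›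
      haveI : Surjective p₂ := MorphismProperty.pullback_snd _ _ ‹Surjective p₁›
      let D₂ := pullDatum D₁ p₂ (pullback.fst p₁ q) q pullback.condition
      haveI : QuasiCompact D₂.obj.hom :=
        MorphismProperty.pullback_snd _ _ ‹QuasiCompact D₁.obj.hom›
      haveI : IsSeparated D₂.obj.hom := MorphismProperty.pullback_snd _ _ ‹IsSeparated D₁.obj.hom›
      haveI : Etale D₂.obj.hom := MorphismProperty.pullback_snd _ _ ‹Etale D₁.obj.hom›
      have hlt : ringKrullDim B' < n := by
        rw [hq, ← hn]
        exact ringKrullDim_stalk_lt V (fun h => h rfl) a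
      obtain ⟨E₂⟩ := IH _ hlt B' rfl p₂ D₂
      obtain ⟨E⟩ := exists_eff_of_pullDatum D₁ p₂ (pullback.fst p₁ q) q pullback.condition
        (univSubmersive_of_isProper_of_surjective p₂) E₂
      exact ⟨E.pull (𝟙 _) q (by simp)⟩
    obtain ⟨E⟩ := exists_eff_of_pullDatum D p₁ (pullback.fst p V.ι) V.ι pullback.condition hp₁ E₁
    exact ⟨E.pull (𝟙 _) V.ι (by simp)⟩

/-- Effective descent of étale separated schemes along proper surjective morphisms onto locally
Noetherian schemes. -/
theorem exists_eff_of_proper {S Y : Scheme.{u}} {g : Y ⟶ S} (D : Desc.SchDD g) [IsLocallyNoetherian S]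
    [IsProper g] [Surjective g]
    [QuasiCompact D.obj.hom] [IsSeparated D.obj.hom] [Etale D.obj.hom] :
    Nonempty (Eff D (𝟙 S)) := by
  haveI : LocallyOfFinitePresentation g :=
    LocallyOfFinitePresentation.iff_locallyOfFiniteType.2 inferInstance
  refine exists_eff_of_forall_complete D (univSubmersive_of_isProper_of_surjective g)
    fun a B _ _ _ _ _ q _ => ?_
  let p := pullback.snd g q
  haveI : IsProper p := MorphismProperty.pullback_snd _ _ ‹IsProper g›
  haveI : Surjective p := MorphismProperty.pullback_snd _ _ ‹Surjective g›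
  let D₂ := pullDatum D p (pullback.fst g q) q pullback.condition
  haveI : QuasiCompact D₂.obj.hom := MorphismProperty.pullback_snd _ _ ‹QuasiCompact D.obj.hom›
  haveI : IsSeparated D₂.obj.hom := MorphismProperty.pullback_snd _ _ ‹IsSeparated D.obj.hom›
  haveI : Etale D₂.obj.hom := MorphismProperty.pullback_snd _ _ ‹Etale D.obj.hom›
  obtain ⟨E₂⟩ := exists_eff_complete_proper _ B rfl p D₂
  obtain ⟨E⟩ := exists_eff_of_pullDatum D p (pullback.fst g q) q pullback.condition
    (univSubmersive_of_isProper_of_surjective p) E₂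
  exact ⟨E.pull (𝟙 _) q (by simp)⟩

end Groth.Agent.SGA1Desc
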