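import Mathlib
import Groth.Agent.SGA1Desc.ProperEff
import Groth.Agent.SGA1Desc.QuasiFiniteEff
import Groth.Agent.LimLib.FGSub
import Groth.Agent.LimLib.Proper
import Groth.Agent.LimLib.Smooth
import Groth.Agent.EGA43Lim.Basic

/-!
# Effective descent of étale separated morphisms along proper surjective morphisms

The base is arbitrary: over an affine base the datum comes from a Noetherian stage.
-/

set_option autoImplicit false
set_option linter.style.haveILetI false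
set_option maxHeartbeats 800000
set_option backward.isDefEq.respectTransparency false

universe u

open CategoryTheory CategoryTheory.Limits AlgebraicGeometry Topology TopologicalSpace
open Groth.Agent.LimLib (bcDiag bcι bcCone isLimitBcCone isPullback_bcCone hasModel HasModel
  descends_etale descends_isSeparated descends_isProper)

namespace Groth.Agent.SGA1Desc

/-- Effectiveness of a datum of which `D` is the base change passes to `D`. -/
theorem Eff.exists_of_model {S S₀ X X₀ : Scheme.{u}} {g : X ⟶ S} {g₀ : X₀ ⟶ S₀}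
    (D : Desc.SchDD g) (D₀ : Desc.SchDD g₀) (π : S ⟶ S₀) (qX : X ⟶ X₀)
    (hX : IsPullback qX g g₀ π) (qZ : D.obj.left ⟶ D₀.obj.left)
    (hZ : IsPullback qZ D.obj.hom D₀.obj.hom qX)
    (hrel : ∀ ⦃T : Scheme.{u}⦄ (a b : T ⟶ D.obj.left), Rel D a b → Rel D₀ (a ≫ qZ) (b ≫ qZ))
    (E : Eff D₀ π) : Nonempty (Eff D (𝟙 S)) := by
  let zg := D.obj.hom ≫ g
  have hZS : IsPullback qZ zg (D₀.obj.hom ≫ g₀) π := hZ.paste_vert hX
  let e := hZS.isoPullback
  have he1 : e.hom ≫ pullback.fst (D₀.obj.hom ≫ g₀) π = qZ := hZS.isoPullback_hom_fst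
  have he2 : e.hom ≫ pullback.snd (D₀.obj.hom ≫ g₀) π = zg := hZS.isoPullback_hom_snd
  let f := pullback.fst zg (𝟙 S)
  have hf : f ≫ zg = pullback.snd zg (𝟙 S) := pullback.condition.trans (Category.comp_id _)
  have hq : (e.hom ≫ E.q) ≫ E.str = zg := by rw [Category.assoc, E.q_str, he2]
  refine ⟨⟨E.base, E.str, E.etale, f ≫ e.hom ≫ E.q, ?_, ?_, fun W a b hr hs => ?_⟩⟩
  · rw [Category.assoc, hq]
    exact hf
  · have h0 : IsPullback (D.obj.hom ≫ qX) (e.hom ≫ E.q) g₀ (E.str ≫ π) := by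
      refine IsPullback.of_iso E.isPullback.flip e.symm (Iso.refl _) (Iso.refl _) (Iso.refl _)
        ?_ (by simp) (by simp) (by simp)
      simp only [Iso.refl_hom, Category.comp_id, Iso.symm_hom]
      rw [← hZ.w, ← he1, Category.assoc, Iso.inv_hom_id_assoc]
    have h1 : IsPullback D.obj.hom (e.hom ≫ E.q) g E.str := IsPullback.of_right h0 hq.symm hX
    rw [Category.comp_id]
    haveI : IsIso f := inferInstanceAs (IsIso (pullback.fst zg (𝟙 S)))
    exact IsPullback.of_iso h1.flip (asIso f).symm (Iso.refl _) (Iso.refl _) (Iso.refl _)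
      (by simp) (by simp [f, zg]) (by simp) (by simp)
  · have h := E.compat (a ≫ f ≫ e.hom) (b ≫ f ≫ e.hom) ?_ ?_
    · simpa only [Category.assoc] using h
    · simp only [Category.assoc, he1]
      rw [← Category.assoc a, ← Category.assoc b]
      exact hrel _ _ hr
    · simp only [Category.assoc, he2, hf]
      exact hs

section Tgt

variable {I : Type u} [SmallCategory I] {Dg : I ⥤ Scheme.{u}} {i : I} {Xi Zi : Scheme.{u}}
  (gi : Xi ⟶ Dg.obj i) (zi : Zi ⟶ Xi)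

/-- The structure map of the pairs of a point of `Zi` and a point of `Xi` over the same point. -/
noncomputable abbrev pairStr : pullback (zi ≫ gi) gi ⟶ Dg.obj i :=
  pullback.fst (zi ≫ gi) gi ≫ zi ≫ gi

variable {k : Over i} {T : Scheme.{u}}

/-- A point of the pairs over a finer stage. -/
noncomputable def lP (a : T ⟶ Zi) (x : T ⟶ Xi) (s : T ⟶ Dg.obj k.left)
    (h : a ≫ zi ≫ gi = x ≫ gi) (hs : a ≫ zi ≫ gi = s ≫ Dg.map k.hom) :
    T ⟶ (bcDiag Dg i (pairStr gi zi)).obj k :=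
  pullback.lift (pullback.lift a x h) s (by rw [pullback.lift_fst_assoc, hs])

variable {gi zi}

theorem lP_congr {a a' : T ⟶ Zi} {x x' : T ⟶ Xi} {s s' : T ⟶ Dg.obj k.left}
    (ha : a = a') (hx : x = x') (hss : s = s') (h : a ≫ zi ≫ gi = x ≫ gi)
    (hs : a ≫ zi ≫ gi = s ≫ Dg.map k.hom) (h' : a' ≫ zi ≫ gi = x' ≫ gi)
    (hs' : a' ≫ zi ≫ gi = s' ≫ Dg.map k.hom) :
    lP gi zi a x s h hs = lP gi zi a' x' s' h' hs' := by
  subst ha hx hss
  rfl

theorem comp_lP {T' : Scheme.{u}} (f : T' ⟶ T) (a : T ⟶ Zi) (x : T ⟶ Xi)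
    (s : T ⟶ Dg.obj k.left) (h : a ≫ zi ≫ gi = x ≫ gi)
    (hs : a ≫ zi ≫ gi = s ≫ Dg.map k.hom) :
    f ≫ lP gi zi a x s h hs = lP gi zi (f ≫ a) (f ≫ x) (f ≫ s)
      (by simp only [Category.assoc, h]) (by simp only [Category.assoc, hs]) := by
  simp only [lP]
  apply pullback.hom_ext
  · apply pullback.hom_ext <;> simp
  · simp

theorem lP_map {m : Over i} (μ : m ⟶ k) (a : T ⟶ Zi) (x : T ⟶ Xi) (s : T ⟶ Dg.obj m.left)
    (h : a ≫ zi ≫ gi = x ≫ gi) (hs : a ≫ zi ≫ gi = s ≫ Dg.map m.hom) :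
    lP gi zi a x s h hs ≫ (bcDiag Dg i (pairStr gi zi)).map μ =
      lP gi zi a x (s ≫ Dg.map μ.left) h
        (by rw [hs, Category.assoc, ← Dg.map_comp, Over.w μ]) := by
  simp only [lP, Groth.Agent.LimLib.bcDiag]
  apply pullback.hom_ext <;> simp

variable (τ : (bcDiag Dg i (pairStr gi zi)).obj k ⟶ Zi)

theorem lP_tgt (hτ : τ ≫ zi = pullback.fst _ _ ≫ pullback.snd (zi ≫ gi) gi) (a : T ⟶ Zi)
    (x : T ⟶ Xi) (s : T ⟶ Dg.obj k.left) (h : a ≫ zi ≫ gi = x ≫ gi)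
    (hs : a ≫ zi ≫ gi = s ≫ Dg.map k.hom) : (lP gi zi a x s h hs ≫ τ) ≫ zi = x := by
  rw [Category.assoc, hτ]
  simp [lP]

/-- The map sends a pair of a point and its image to the point. -/
def IdTgt : Prop :=
  ∀ ⦃T : Scheme.{u}⦄ (a : T ⟶ Zi) (x : T ⟶ Xi) (s : T ⟶ Dg.obj k.left)
    (h : a ≫ zi ≫ gi = x ≫ gi) (hs : a ≫ zi ≫ gi = s ≫ Dg.map k.hom),
    a ≫ zi = x → lP gi zi a x s h hs ≫ τ = a

/-- The map is compatible with composition. -/
def CompTgt : Prop :=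
  ∀ ⦃T : Scheme.{u}⦄ (a : T ⟶ Zi) (x₁ x₂ : T ⟶ Xi) (s : T ⟶ Dg.obj k.left)
    (h₁ : a ≫ zi ≫ gi = x₁ ≫ gi) (h₂ : a ≫ zi ≫ gi = x₂ ≫ gi)
    (hs : a ≫ zi ≫ gi = s ≫ Dg.map k.hom) (a' : T ⟶ Zi) (h₂' : a' ≫ zi ≫ gi = x₂ ≫ gi)
    (hs' : a' ≫ zi ≫ gi = s ≫ Dg.map k.hom), lP gi zi a x₁ s h₁ hs ≫ τ = a' →
    lP gi zi a' x₂ s h₂' hs' ≫ τ = lP gi zi a x₂ s h₂ hs ≫ τ

variable (gi zi k) in
/-- The total scheme of the datum at a stage. -/
noncomputable abbrev stageObj : Over (pullback gi (Dg.map k.hom)) :=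
  Over.mk (pullback.snd zi (pullback.fst gi (Dg.map k.hom)))

theorem lifts_zi {T : Scheme.{u}} {x : T ⟶ pullback gi (Dg.map k.hom)}
    (v : Desc.Lifts (stageObj gi zi k) x) :
    (v.1 ≫ pullback.fst _ _) ≫ zi = x ≫ pullback.fst gi (Dg.map k.hom) := by
  rw [Category.assoc, pullback.condition, ← Category.assoc]
  exact congrArg (· ≫ _) v.2

theorem lifts_gi {T : Scheme.{u}} {x y : T ⟶ pullback gi (Dg.map k.hom)}
    (h : x ≫ pullback.snd gi (Dg.map k.hom) = y ≫ pullback.snd gi (Dg.map k.hom))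
    (v : Desc.Lifts (stageObj gi zi k) x) :
    (v.1 ≫ pullback.fst _ _) ≫ zi ≫ gi = (y ≫ pullback.fst _ _) ≫ gi := by
  rw [← Category.assoc _ zi gi, lifts_zi v]
  simp only [Category.assoc, pullback.condition, reassoc_of% h]

theorem lifts_hom {T : Scheme.{u}} {x y : T ⟶ pullback gi (Dg.map k.hom)}
    (h : x ≫ pullback.snd gi (Dg.map k.hom) = y ≫ pullback.snd gi (Dg.map k.hom))
    (v : Desc.Lifts (stageObj gi zi k) x) :
    (v.1 ≫ pullback.fst _ _) ≫ zi ≫ gi = (y ≫ pullback.snd _ _) ≫ Dg.map k.hom := by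
  rw [lifts_gi h v]
  simp only [Category.assoc, pullback.condition]

variable (hτ : τ ≫ zi = pullback.fst _ _ ≫ pullback.snd (zi ≫ gi) gi)

/-- The image of a point under the gluing at a stage. -/
noncomputable def act {T : Scheme.{u}} (x₀ x₁ : T ⟶ pullback gi (Dg.map k.hom))
    (h : x₀ ≫ pullback.snd gi (Dg.map k.hom) = x₁ ≫ pullback.snd gi (Dg.map k.hom))
    (v : Desc.Lifts (stageObj gi zi k) x₀) : Desc.Lifts (stageObj gi zi k) x₁ :=
  ⟨pullback.lift (lP gi zi (v.1 ≫ pullback.fst _ _) (x₁ ≫ pullback.fst _ _)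
      (x₀ ≫ pullback.snd _ _) (lifts_gi h v) (lifts_hom rfl v) ≫ τ) x₁
      (lP_tgt τ hτ _ _ _ _ _),
    pullback.lift_snd _ _ _⟩

theorem act_fst {T : Scheme.{u}} (x₀ x₁ : T ⟶ pullback gi (Dg.map k.hom))
    (h : x₀ ≫ pullback.snd gi (Dg.map k.hom) = x₁ ≫ pullback.snd gi (Dg.map k.hom))
    (v : Desc.Lifts (stageObj gi zi k) x₀) (h₁) (h₂) :
    (act τ hτ x₀ x₁ h v).1 ≫ pullback.fst _ _ =
      lP gi zi (v.1 ≫ pullback.fst _ _) (x₁ ≫ pullback.fst _ _) (x₀ ≫ pullback.snd _ _) h₁ h₂ ≫ τ :=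
  pullback.lift_fst _ _ _

theorem lifts_ext {T : Scheme.{u}} {x : T ⟶ pullback gi (Dg.map k.hom)}
    {v w : Desc.Lifts (stageObj gi zi k) x}
    (h : v.1 ≫ pullback.fst _ _ = w.1 ≫ pullback.fst _ _) : v = w :=
  Subtype.ext (pullback.hom_ext h (v.2.trans w.2.symm))

theorem act_self (hid : IdTgt τ) {T : Scheme.{u}} (x : T ⟶ pullback gi (Dg.map k.hom))
    (v : Desc.Lifts (stageObj gi zi k) x) : act τ hτ x x rfl v = v :=
  lifts_ext ((act_fst τ hτ x x rfl v (lifts_gi rfl v) (lifts_hom rfl v)).trans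
    (hid _ _ _ _ _ (lifts_zi v)))

theorem act_act (hcomp : CompTgt τ) {T : Scheme.{u}}
    (x₀ x₁ x₂ : T ⟶ pullback gi (Dg.map k.hom))
    (h₀₁ : x₀ ≫ pullback.snd gi (Dg.map k.hom) = x₁ ≫ pullback.snd gi (Dg.map k.hom))
    (h₁₂ : x₁ ≫ pullback.snd gi (Dg.map k.hom) = x₂ ≫ pullback.snd gi (Dg.map k.hom))
    (v : Desc.Lifts (stageObj gi zi k) x₀) :
    act τ hτ x₁ x₂ h₁₂ (act τ hτ x₀ x₁ h₀₁ v) = act τ hτ x₀ x₂ (h₀₁.trans h₁₂) v := by
  let w := act τ hτ x₀ x₁ h₀₁ v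
  have a1 := lifts_gi h₀₁ v
  have a2 := lifts_gi (h₀₁.trans h₁₂) v
  have as := lifts_hom rfl v
  have b2 := lifts_gi h₁₂ w
  have bs := lifts_hom h₀₁.symm w
  refine lifts_ext ((act_fst τ hτ x₁ x₂ h₁₂ w b2 (lifts_hom rfl w)).trans ?_)
  refine ((congrArg (· ≫ τ) (lP_congr rfl rfl h₀₁.symm b2 _ b2 bs)).trans ?_).trans
    (act_fst τ hτ x₀ x₂ _ v a2 as).symm
  exact hcomp _ _ _ _ a1 a2 as _ b2 bs (act_fst τ hτ x₀ x₁ h₀₁ v a1 as).symm

/-- The descent datum at a stage. -/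
noncomputable def stageDatum (hid : IdTgt τ) (hcomp : CompTgt τ) :
    Desc.SchDD (pullback.snd gi (Dg.map k.hom)) where
  obj := stageObj gi zi k
  φ _ x₀ x₁ h :=
    { toFun := act τ hτ x₀ x₁ h
      invFun := act τ hτ x₁ x₀ h.symm
      left_inv := fun v => (act_act τ hτ hcomp _ _ _ h h.symm v).trans (act_self τ hτ hid _ v)
      right_inv := fun v => (act_act τ hτ hcomp _ _ _ h.symm h v).trans (act_self τ hτ hid _ v) }
  φ_natural T T' f x₀ x₁ h h' v v' hv := by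
    change (act τ hτ (f ≫ x₀) (f ≫ x₁) h' v').1 = f ≫ (act τ hτ x₀ x₁ h v).1
    apply pullback.hom_ext
    · refine (act_fst τ hτ _ _ h' v' (lifts_gi h' v') (lifts_hom rfl v')).trans
        (Eq.trans ?_ ((congrArg (f ≫ ·)
          (act_fst τ hτ x₀ x₁ h v (lifts_gi h v) (lifts_hom rfl v)).symm).trans
            (Category.assoc f _ _).symm))
      refine (congrArg (· ≫ τ) ((lP_congr ?_ ?_ ?_ _ _ _ _).trans
        (comp_lP f _ _ _ _ _).symm)).trans (Category.assoc _ _ _)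
      · rw [hv, Category.assoc]
      · rw [Category.assoc]
      · rw [Category.assoc]
    · simp only [act, pullback.lift_snd, Category.assoc]
  φ_self _ x v := act_self τ hτ hid x v
  φ_comp _ x₀ x₁ x₂ h₀₁ h₁₂ v := act_act τ hτ hcomp x₀ x₁ x₂ h₀₁ h₁₂ v

end Tgt

section Limit

variable {I : Type u} [SmallCategory I] [IsCofiltered I] {Dg : I ⥤ Scheme.{u}} {c : Cone Dg}
  (hc : IsLimit c) [∀ (i j : I) (a : i ⟶ j), IsAffineHom (Dg.map a)]
  [∀ i, CompactSpace (Dg.obj i)] [∀ i, QuasiSeparatedSpace (Dg.obj i)]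

omit [IsCofiltered I] [∀ (i j : I) (a : i ⟶ j), IsAffineHom (Dg.map a)]
  [∀ i, CompactSpace (Dg.obj i)] [∀ i, QuasiSeparatedSpace (Dg.obj i)] in
/-- Pairs of points over the same point, base changed to the limit. -/
theorem isPullback_pairs {i : I} {W W₀ X X₀ : Scheme.{u}} {w : W ⟶ c.pt} {w₀ : W₀ ⟶ Dg.obj i}
    {g : X ⟶ c.pt} {g₀ : X₀ ⟶ Dg.obj i} {qW : W ⟶ W₀} {qX : X ⟶ X₀}
    (hW : IsPullback qW w w₀ (c.π.app i)) (hX : IsPullback qX g g₀ (c.π.app i)) :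
    IsPullback (pullback.map w g w₀ g₀ qW qX (c.π.app i) hW.w.symm hX.w.symm)
      (pullback.fst w g ≫ w) (pullback.fst w₀ g₀ ≫ w₀) (c.π.app i) := by
  refine IsPullback.paste_vert ?_ hW
  refine IsPullback.of_right (h₁₂ := pullback.snd w₀ g₀) (v₁₃ := g₀) (h₂₂ := w₀) ?_
    (pullback.lift_fst _ _ _) (IsPullback.of_hasPullback w₀ g₀).flip
  rw [pullback.lift_snd, hW.w]
  exact (IsPullback.of_hasPullback w g).flip.paste_horiz hX

include hc in
/-- A datum which has a model at a stage with locally Noetherian base is effective. -/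
theorem exists_eff_of_model [∀ i, IsLocallyNoetherian (Dg.obj i)] {X : Scheme.{u}}
    {g : X ⟶ c.pt} (D : Desc.SchDD g) {i : I} {Xi Zi : Scheme.{u}} (gi : Xi ⟶ Dg.obj i)
    (zi : Zi ⟶ Xi) [IsProper gi] [Surjective gi] [Etale zi] [IsSeparated zi] [QuasiCompact zi]
    (qX : X ⟶ Xi) (hX : IsPullback qX g gi (c.π.app i)) (qZ : D.obj.left ⟶ Zi)
    (hZ : IsPullback qZ D.obj.hom zi qX) : Nonempty (Eff D (𝟙 c.pt)) := by
  haveI : CompactSpace Xi := QuasiCompact.compactSpace_of_compactSpace gi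
  haveI : QuasiSeparatedSpace Xi := quasiSeparatedSpace_of_quasiSeparated gi
  haveI : CompactSpace Zi := QuasiCompact.compactSpace_of_compactSpace zi
  haveI : QuasiSeparatedSpace Zi := quasiSeparatedSpace_of_quasiSeparated zi
  let z := D.obj.hom
  let zg := z ≫ g
  have hzg : ∀ {T : Scheme.{u}} (a : T ⟶ D.obj.left),
      (a ≫ qZ) ≫ zi ≫ gi = a ≫ zg ≫ c.π.app i := fun a => by
    simp only [zg, z, Category.assoc, reassoc_of% hZ.w, hX.w]
  have hW : IsPullback qZ zg (zi ≫ gi) (c.π.app i) := hZ.paste_vert hX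
  have hgi : ∀ {T : Scheme.{u}} (a : T ⟶ D.obj.left) (x : T ⟶ X), a ≫ zg = x ≫ g →
      (a ≫ qZ) ≫ zi ≫ gi = (x ≫ qX) ≫ gi := fun a x h => by
    rw [hzg, reassoc_of% h, Category.assoc, hX.w]
  have hS : ∀ {T : Scheme.{u}} (a : T ⟶ D.obj.left) (j : Over i),
      (a ≫ qZ) ≫ zi ≫ gi = (a ≫ zg ≫ c.π.app j.left) ≫ Dg.map j.hom := fun a j => by
    rw [hzg]; simp
  -- the map at the limit
  obtain ⟨tgt, htgt, htgtX⟩ := exists_rel (D := D) (pullback.fst zg g) (pullback.snd zg g)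
    (by rw [Category.assoc]; exact pullback.condition)
  have htg : ∀ {T : Scheme.{u}} (a : T ⟶ D.obj.left) (x : T ⟶ X) (h : a ≫ zg = x ≫ g),
      Rel D a (pullback.lift a x h ≫ tgt) ∧ (pullback.lift a x h ≫ tgt) ≫ z = x := by
    intro T a x h
    have h1 := rel_comp (pullback.lift a x h) htgt
    rw [pullback.lift_fst] at h1
    refine ⟨h1, ?_⟩
    rw [Category.assoc, htgtX, pullback.lift_snd]
  have hP := isPullback_pairs hW hX
  let PD := bcDiag Dg i (pairStr gi zi)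
  haveI : ∀ j, CompactSpace (PD.obj j) := fun j =>
    QuasiCompact.compactSpace_of_compactSpace (pullback.snd (pairStr gi zi) (Dg.map j.hom))
  haveI : ∀ j, QuasiSeparatedSpace (PD.obj j) := fun j =>
    quasiSeparatedSpace_of_quasiSeparated (pullback.snd (pairStr gi zi) (Dg.map j.hom))
  let tP : PD ⟶ (Functor.const (Over i)).obj Xi :=
    { app := fun j => pullback.fst (pairStr gi zi) (Dg.map j.hom) ≫ pullback.snd (zi ≫ gi) gi
      naturality := fun j l μ => by simp [PD, bcDiag] }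
  obtain ⟨k₀, τ₀, hτ₀a, hτ₀⟩ := Scheme.exists_π_app_comp_eq_of_locallyOfFinitePresentation
    PD tP zi _ (isLimitBcCone hc hP) (tgt ≫ qZ) (by
      ext l
      simp [tP, PD, bcCone, hZ.w, reassoc_of% htgtX, pullback.map])
  change τ₀ ≫ zi = pullback.fst _ _ ≫ pullback.snd _ _ at hτ₀
  change pullback.lift _ _ _ ≫ τ₀ = tgt ≫ qZ at hτ₀a
  have key : ∀ {T : Scheme.{u}} (a : T ⟶ D.obj.left) (x : T ⟶ X) (h : a ≫ zg = x ≫ g) (h₁) (h₂),
      lP gi zi (k := k₀) (a ≫ qZ) (x ≫ qX) (a ≫ zg ≫ c.π.app k₀.left) h₁ h₂ ≫ τ₀ =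
        (pullback.lift a x h ≫ tgt) ≫ qZ := by
    intro T a x h h₁ h₂
    refine (Eq.trans ?_ (congrArg (pullback.lift a x h ≫ ·) hτ₀a)).trans
      (Category.assoc _ _ _).symm
    refine Eq.trans (congrArg (· ≫ τ₀) ?_) (Category.assoc _ _ _)
    apply pullback.hom_ext
    · apply pullback.hom_ext <;> simp [lP]
    · simp [lP]
  -- identities
  let WD := bcDiag Dg i (zi ≫ gi)
  haveI : ∀ j, CompactSpace (WD.obj j) := fun j =>
    QuasiCompact.compactSpace_of_compactSpace (pullback.snd (zi ≫ gi) (Dg.map j.hom))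
  let tW : WD ⟶ (Functor.const (Over i)).obj Xi :=
    { app := fun j => pullback.fst (zi ≫ gi) (Dg.map j.hom) ≫ zi
      naturality := fun j l μ => by simp [WD, bcDiag] }
  let A₁ : WD.obj k₀ ⟶ Zi := pullback.fst (zi ≫ gi) (Dg.map k₀.hom)
  obtain ⟨k₁, μ₁, hid₁⟩ := Scheme.exists_hom_comp_eq_comp_of_locallyOfFiniteType
    WD tW zi _ (isLimitBcCone hc hW) (i := k₀)
    (lP gi zi A₁ (A₁ ≫ zi) (pullback.snd _ _) (Category.assoc _ _ _).symm pullback.condition ≫ τ₀)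
    A₁ (lP_tgt τ₀ hτ₀ _ _ _ _ _).symm rfl (by
      change pullback.lift qZ (zg ≫ c.π.app k₀.left) _ ≫ _ = pullback.lift qZ _ _ ≫ _
      rw [← Category.assoc, comp_lP]
      obtain ⟨hr, hr'⟩ := htg (𝟙 _) z (Category.id_comp zg)
      have e1 : pullback.lift (𝟙 _) z (Category.id_comp zg) ≫ tgt = 𝟙 _ :=
        rel_unique hr (rel_refl _) (hr'.trans (Category.id_comp z).symm)
      refine ((congrArg (· ≫ τ₀) (lP_congr ?_ ?_ ?_ _ _ ?_ ?_)).trans
        (key (𝟙 _) z (Category.id_comp zg) ?_ ?_)).trans ?_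
      · simp [A₁]
      · simp [A₁, z, hZ.w]
      · simp [zg, z]
      all_goals first
        | exact hgi (𝟙 _) z (Category.id_comp zg)
        | exact hS (𝟙 _) k₀
        | (simp [A₁, e1]; done))
  let τ₁ := PD.map μ₁ ≫ τ₀
  have hτ₁ : τ₁ ≫ zi = pullback.fst _ _ ≫ pullback.snd (zi ≫ gi) gi := by
    rw [Category.assoc, hτ₀]
    simp [PD, bcDiag]
  have hmap₁ : ∀ {T : Scheme.{u}} (a : T ⟶ Zi) (x : T ⟶ Xi) (s : T ⟶ Dg.obj k₁.left) (h)
      (hs : a ≫ zi ≫ gi = s ≫ Dg.map k₁.hom), lP gi zi a x s h hs ≫ τ₁ =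
        lP gi zi a x (s ≫ Dg.map μ₁.left) h
          (by rw [hs, Category.assoc, ← Dg.map_comp, Over.w μ₁]) ≫ τ₀ := fun a x s h hs =>
    (Category.assoc _ _ _).symm.trans (congrArg (· ≫ τ₀) (lP_map μ₁ a x s h hs))
  have hidk : IdTgt τ₁ := by
    intro T a x s h hs e
    let pt : T ⟶ WD.obj k₁ := pullback.lift a s hs
    have h' := congrArg (pt ≫ ·) hid₁
    simp only [← Category.assoc] at h'
    rw [comp_lP] at h'
    rw [hmap₁]
    refine ((congrArg (· ≫ τ₀) (lP_congr ?_ ?_ ?_ _ _ _ _)).trans h').trans ?_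
    · simp [pt, A₁, WD, bcDiag]
    · simp [pt, A₁, WD, bcDiag, e]
    · simp [pt, WD, bcDiag]
    · simp [pt, A₁, WD, bcDiag]
  -- composition
  have hR := isPullback_pairs hP hX
  let rQ := pullback.fst (pairStr gi zi) gi ≫ pairStr gi zi
  let QD := bcDiag Dg i rQ
  haveI : ∀ j, CompactSpace (QD.obj j) := fun j =>
    QuasiCompact.compactSpace_of_compactSpace (pullback.snd rQ (Dg.map j.hom))
  let tQ : QD ⟶ (Functor.const (Over i)).obj Xi :=
    { app := fun j => pullback.fst rQ (Dg.map j.hom) ≫ pullback.snd (pairStr gi zi) gi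
      naturality := fun j l μ => by simp [QD, bcDiag] }
  let A : QD.obj k₁ ⟶ Zi :=
    pullback.fst rQ (Dg.map k₁.hom) ≫ pullback.fst (pairStr gi zi) gi ≫ pullback.fst (zi ≫ gi) gi
  let X₁ : QD.obj k₁ ⟶ Xi :=
    pullback.fst rQ (Dg.map k₁.hom) ≫ pullback.fst (pairStr gi zi) gi ≫ pullback.snd (zi ≫ gi) gi
  let X₂ : QD.obj k₁ ⟶ Xi := pullback.fst rQ (Dg.map k₁.hom) ≫ pullback.snd (pairStr gi zi) gi
  let Sk : QD.obj k₁ ⟶ Dg.obj k₁.left := pullback.snd rQ (Dg.map k₁.hom)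
  have hA₁ : A ≫ zi ≫ gi = X₁ ≫ gi := by simp [A, X₁, pullback.condition]
  have hAS : A ≫ zi ≫ gi = Sk ≫ Dg.map k₁.hom := by
    simp only [A, Sk, Category.assoc]
    exact pullback.condition (f := rQ) (g := Dg.map k₁.hom) |> fun e => by simpa [rQ] using e
  have hA₂ : A ≫ zi ≫ gi = X₂ ≫ gi := by
    simp only [A, X₂, Category.assoc]
    rw [← pullback.condition (f := pairStr gi zi) (g := gi)]
  let A' := lP gi zi A X₁ Sk hA₁ hAS ≫ τ₁
  have hA' : A' ≫ zi = X₁ := lP_tgt τ₁ hτ₁ _ _ _ _ _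
  obtain ⟨k, μ, hcomp⟩ := Scheme.exists_hom_comp_eq_comp_of_locallyOfFiniteType
    QD tQ zi _ (isLimitBcCone hc hR) (i := k₁)
    (lP gi zi A' X₂ Sk (by rw [reassoc_of% hA', ← hA₁, hA₂])
      (by rw [reassoc_of% hA', ← hA₁, hAS]) ≫ τ₁)
    (lP gi zi A X₂ Sk hA₂ hAS ≫ τ₁)
    (lP_tgt τ₁ hτ₁ _ _ _ _ _).symm (lP_tgt τ₁ hτ₁ _ _ _ _ _).symm (by
      let π := (bcCone hR).π.app k₁
      change π ≫ _ = π ≫ _
      rw [← Category.assoc π, comp_lP]
      refine Eq.trans ?_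
        ((congrArg (· ≫ τ₁) (comp_lP π A X₂ Sk hA₂ hAS)).symm.trans (Category.assoc π _ _))
      let a : pullback (pullback.fst zg g ≫ zg) g ⟶ D.obj.left :=
        pullback.fst _ g ≫ pullback.fst zg g
      let x₁ : pullback (pullback.fst zg g ≫ zg) g ⟶ X := pullback.fst _ g ≫ pullback.snd zg g
      let x₂ : pullback (pullback.fst zg g ≫ zg) g ⟶ X := pullback.snd _ g
      have ha₁ : a ≫ zg = x₁ ≫ g := by simp [a, x₁, pullback.condition]
      have ha₂ : a ≫ zg = x₂ ≫ g := (Category.assoc _ _ _).trans pullback.condition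
      obtain ⟨hr₁, hr₁'⟩ := htg a x₁ ha₁
      obtain ⟨hr₂, hr₂'⟩ := htg a x₂ ha₂
      let a' := pullback.lift a x₁ ha₁ ≫ tgt
      have ha' : a' ≫ zg = x₂ ≫ g := by
        rw [← ha₂, ha₁]
        exact (Category.assoc a' z g).symm.trans (congrArg (· ≫ g) hr₁')
      obtain ⟨hr₃, hr₃'⟩ := htg a' x₂ ha'
      have heq : pullback.lift a' x₂ ha' ≫ tgt = pullback.lift a x₂ ha₂ ≫ tgt :=
        rel_unique (rel_trans hr₁ hr₃) hr₂ (hr₃'.trans hr₂'.symm)
      have hπ₁ : π ≫ pullback.fst rQ (Dg.map k₁.hom) = pullback.map (pullback.fst zg g ≫ zg) g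
          (pullback.fst (zi ≫ gi) gi ≫ zi ≫ gi) gi (pullback.map zg g (zi ≫ gi) gi qZ qX
            (c.π.app i) hW.w.symm hX.w.symm) qX (c.π.app i) hP.w.symm hX.w.symm :=
        pullback.lift_fst _ _ _
      have hπ₂ : π ≫ pullback.snd rQ (Dg.map k₁.hom) =
          (pullback.fst (pullback.fst zg g ≫ zg) g ≫ pullback.fst zg g ≫ zg) ≫ c.π.app k₁.left :=
        pullback.lift_snd _ _ _
      have e1 : π ≫ A = a ≫ qZ := by simp [A, a, reassoc_of% hπ₁, pullback.map]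
      have e2 : π ≫ X₁ = x₁ ≫ qX := by simp [X₁, x₁, reassoc_of% hπ₁, pullback.map]
      have e3 : π ≫ X₂ = x₂ ≫ qX := by simp [X₂, x₂, reassoc_of% hπ₁, pullback.map]
      have e4 : π ≫ Sk = a ≫ zg ≫ c.π.app k₁.left := by simp [Sk, a, hπ₂]
      have key₁ : ∀ {T : Scheme.{u}} (b : T ⟶ D.obj.left) (x : T ⟶ X) (h : b ≫ zg = x ≫ g)
          (h₁) (h₂), lP gi zi (k := k₁) (b ≫ qZ) (x ≫ qX) (b ≫ zg ≫ c.π.app k₁.left) h₁ h₂ ≫ τ₁ =
          (pullback.lift b x h ≫ tgt) ≫ qZ := by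
        intro T b x h h₁ h₂
        refine (hmap₁ _ _ _ h₁ h₂).trans
          ((congrArg (· ≫ τ₀) (lP_congr rfl rfl ?_ _ _ (hgi b x h) (hS b k₀))).trans
            (key b x h _ _))
        simp
      have e5 : π ≫ A' = a' ≫ qZ := by
        simp only [A']
        rw [← Category.assoc π, comp_lP]
        exact (congrArg (· ≫ τ₁) (lP_congr e1 e2 e4 _ _ (hgi a x₁ ha₁) (hS a k₁))).trans
          (key₁ a x₁ ha₁ _ _)
      exact (((congrArg (· ≫ τ₁) (lP_congr e5 e3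
          (by rw [e4, reassoc_of% ha', reassoc_of% ha₂]) _ _ (hgi a' x₂ ha') (hS a' k₁))).trans
            (key₁ a' x₂ ha' _ _)).trans (congrArg (· ≫ qZ) heq)).trans
        ((congrArg (· ≫ τ₁) (lP_congr e1 e3 e4 _ _ (hgi a x₂ ha₂) (hS a k₁))).trans
          (key₁ a x₂ ha₂ _ _)).symm)
  let τ := PD.map μ ≫ τ₁
  have hτ : τ ≫ zi = pullback.fst _ _ ≫ pullback.snd (zi ≫ gi) gi := by
    rw [Category.assoc, hτ₁]
    simp [PD, bcDiag]
  have hmap : ∀ {T : Scheme.{u}} (a : T ⟶ Zi) (x : T ⟶ Xi) (s : T ⟶ Dg.obj k.left) (h)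
      (hs : a ≫ zi ≫ gi = s ≫ Dg.map k.hom), lP gi zi a x s h hs ≫ τ =
        lP gi zi a x (s ≫ Dg.map μ.left) h
          (by rw [hs, Category.assoc, ← Dg.map_comp, Over.w μ]) ≫ τ₁ := fun a x s h hs =>
    (Category.assoc _ _ _).symm.trans (congrArg (· ≫ τ₁) (lP_map μ a x s h hs))
  have hid : IdTgt τ := by
    intro T a x s h hs e
    exact (hmap a x s h hs).trans (hidk _ _ _ _ _ e)
  have hcompk : CompTgt τ := by
    intro T a x₁ x₂ s h₁ h₂ hs a' h₂' hs' e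
    rw [hmap] at e
    rw [hmap, hmap]
    let pt : T ⟶ QD.obj k := pullback.lift (pullback.lift (pullback.lift a x₁ h₁) x₂ (by
      simpa [pairStr] using h₂)) s (by simpa [rQ, pairStr] using hs)
    have h' := congrArg (pt ≫ ·) hcomp
    simp only [← Category.assoc] at h'
    rw [comp_lP, comp_lP] at h'
    have eA : (pt ≫ QD.map μ) ≫ A = a := by simp [pt, A, QD, bcDiag]
    have eX₁ : (pt ≫ QD.map μ) ≫ X₁ = x₁ := by simp [pt, X₁, QD, bcDiag]
    have eX₂ : (pt ≫ QD.map μ) ≫ X₂ = x₂ := by simp [pt, X₂, QD, bcDiag]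
    have eS : (pt ≫ QD.map μ) ≫ Sk = s ≫ Dg.map μ.left := by simp [pt, Sk, QD, bcDiag]
    have eA' : (pt ≫ QD.map μ) ≫ A' = a' := by
      simp only [A']
      rw [← Category.assoc, comp_lP, ← e]
      exact congrArg (· ≫ τ₁) (lP_congr eA eX₁ eS _ _ _ _)
    refine ((congrArg (· ≫ τ₁) (lP_congr eA'.symm eX₂.symm eS.symm _ _ _ _)).trans h').trans ?_
    exact congrArg (· ≫ τ₁) (lP_congr eA eX₂ eS _ _ _ _)
  -- the datum at the stage
  let D₀ := stageDatum τ hτ hid hcompk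
  let gk := pullback.snd gi (Dg.map k.hom)
  haveI : IsProper gk := MorphismProperty.pullback_snd _ _ ‹IsProper gi›
  haveI : Surjective gk := MorphismProperty.pullback_snd _ _ ‹Surjective gi›
  haveI : QuasiCompact D₀.obj.hom := MorphismProperty.pullback_snd _ _ ‹QuasiCompact zi›
  haveI : IsSeparated D₀.obj.hom := MorphismProperty.pullback_snd _ _ ‹IsSeparated zi›
  haveI : Etale D₀.obj.hom := MorphismProperty.pullback_snd _ _ ‹Etale zi›
  obtain ⟨E⟩ := exists_eff_of_proper D₀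
  let qXk := (bcCone hX).π.app k
  have hXk : IsPullback qXk g gk (c.π.app k.left) := isPullback_bcCone hX k
  have hqX : qXk ≫ pullback.fst gi (Dg.map k.hom) = qX := pullback.lift_fst _ _ _
  let qZk : D.obj.left ⟶ D₀.obj.left := pullback.lift qZ (z ≫ qXk) (by
    rw [Category.assoc, hqX]; exact hZ.w)
  have hqZ : qZk ≫ pullback.fst zi (pullback.fst gi (Dg.map k.hom)) = qZ := pullback.lift_fst _ _ _
  have hqZ' : qZk ≫ pullback.snd zi (pullback.fst gi (Dg.map k.hom)) = z ≫ qXk :=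
    pullback.lift_snd _ _ _
  have hZk : IsPullback qZk z D₀.obj.hom qXk := by
    refine IsPullback.of_right ?_ hqZ' (IsPullback.of_hasPullback zi _)
    rw [hqZ, hqX]
    exact hZ
  refine Eff.exists_of_model D D₀ _ qXk hXk qZk hZk (fun T a b hab => ?_)
    (E.pull (c.π.app k.left) _ (Category.comp_id _))
  have hD : ∀ v : T ⟶ D.obj.left, (v ≫ qZk) ≫ D₀.obj.hom = (v ≫ z) ≫ qXk := fun v => by
    rw [Category.assoc, Category.assoc]; exact congrArg (v ≫ ·) hqZ'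
  have hh : ((a ≫ qZk) ≫ D₀.obj.hom) ≫ gk = ((b ≫ qZk) ≫ D₀.obj.hom) ≫ gk := by
    simp only [hD, Category.assoc, hXk.w]
    exact congrArg (· ≫ c.π.app k.left) hab.1 |> fun e => by
      simpa only [z, Category.assoc] using e
  refine ⟨hh, ?_⟩
  change (act τ hτ _ _ hh ⟨a ≫ qZk, rfl⟩).1 = b ≫ qZk
  apply pullback.hom_ext
  · have hbz : a ≫ zg = (b ≫ z) ≫ g := by
      simpa only [zg, z, Category.assoc] using hab.1
    obtain ⟨hr, hr'⟩ := htg a (b ≫ z) hbz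
    have hb : pullback.lift a (b ≫ z) hbz ≫ tgt = b := rel_unique hr hab hr'
    refine ((act_fst τ hτ _ _ hh ⟨a ≫ qZk, rfl⟩ (lifts_gi hh _) (lifts_hom rfl _)).trans
      ((hmap _ _ _ _ _).trans (hmap₁ _ _ _ _ _))).trans ?_
    refine ((congrArg (· ≫ τ₀) (lP_congr ?_ ?_ ?_ _ _ (hgi a (b ≫ z) hbz) (hS a k₀))).trans
      (key a (b ≫ z) hbz _ _)).trans ?_
    · rw [Category.assoc, hqZ]
    · rw [hD, Category.assoc, hqX]
    · simp [hD, qXk, bcCone, zg, z]
    · rw [hb, Category.assoc, hqZ]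
  · simp only [act, pullback.lift_snd]
    rfl

include hc in
/-- Effective descent along proper surjective morphisms onto limits of Noetherian schemes. -/
theorem exists_eff_of_limit [∀ i, IsLocallyNoetherian (Dg.obj i)] {X : Scheme.{u}}
    {g : X ⟶ c.pt} [IsProper g] [Surjective g] [LocallyOfFinitePresentation g]
    (D : Desc.SchDD g) [QuasiCompact D.obj.hom] [IsSeparated D.obj.hom] [Etale D.obj.hom]
    [CompactSpace c.pt] [QuasiSeparatedSpace c.pt] : Nonempty (Eff D (𝟙 c.pt)) := by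
  haveI : CompactSpace X := QuasiCompact.compactSpace_of_compactSpace g
  haveI : QuasiSeparatedSpace X := quasiSeparatedSpace_of_quasiSeparated g
  haveI : CompactSpace D.obj.left := QuasiCompact.compactSpace_of_compactSpace D.obj.hom
  haveI : QuasiSeparatedSpace D.obj.left := quasiSeparatedSpace_of_quasiSeparated D.obj.hom
  obtain ⟨i₀, X₀, g₀, qX₀, h₁, h₂, h₃, hX₀⟩ := hasModel hc g
  obtain ⟨i₁, φ₁, hp⟩ := descends_isProper Dg c hc inferInstance inferInstance inferInstance i₀ X₀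
    g₀ h₂ h₃ inferInstance _ _ _ hX₀ ‹IsProper g›
  obtain ⟨h₁', h₂', h₃', hX₁⟩ := HasModel.at_finer h₁ h₂ h₃ hX₀ φ₁
  obtain ⟨i, φ₂, hs⟩ := EGA43Lim.descends_surjective Dg c hc inferInstance inferInstance
    inferInstance i₁ _ _ h₂' h₃' h₁' _ _ _ hX₁ ‹Surjective g›
  obtain ⟨hl, hXc, hXs, hXi⟩ := HasModel.at_finer h₁' h₂' h₃' hX₁ φ₂
  obtain ⟨Xi, gi, qX, hp, hs, hl, hXc, hXs, hX⟩ : ∃ (Xi : Scheme.{u}) (gi : Xi ⟶ Dg.obj i)
      (qX : X ⟶ Xi), IsProper gi ∧ Surjective gi ∧ LocallyOfFinitePresentation gi ∧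
        CompactSpace Xi ∧ QuasiSeparatedSpace Xi ∧ IsPullback qX g gi (c.π.app i) :=
    ⟨_, _, _, MorphismProperty.pullback_snd _ _ hp, hs, hl, hXc, hXs, hXi⟩
  let XD := bcDiag Dg i gi
  haveI : ∀ j, CompactSpace (XD.obj j) := fun j =>
    QuasiCompact.compactSpace_of_compactSpace (pullback.snd gi (Dg.map j.hom))
  haveI : ∀ j, QuasiSeparatedSpace (XD.obj j) := fun j =>
    quasiSeparatedSpace_of_quasiSeparated (pullback.snd gi (Dg.map j.hom))
  have hl' := isLimitBcCone hc hX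
  obtain ⟨j₀, Z₀, z₀, qZ₀, hz₁, hz₂, hz₃, hZ₀⟩ := hasModel hl'
    (show D.obj.left ⟶ (bcCone hX).pt from D.obj.hom)
  obtain ⟨j₁, ψ₁, he⟩ := descends_etale XD (bcCone hX) hl' inferInstance inferInstance
    inferInstance j₀ Z₀ z₀ hz₂ hz₃ hz₁ _ _ _ hZ₀ ‹Etale D.obj.hom›
  obtain ⟨hz₁', hz₂', hz₃', hZ₁⟩ := HasModel.at_finer hz₁ hz₂ hz₃ hZ₀ ψ₁
  obtain ⟨j, ψ₂, hsep⟩ := descends_isSeparated XD (bcCone hX) hl' inferInstance inferInstance
    inferInstance j₁ _ _ hz₂' hz₃' trivial _ _ _ hZ₁ ‹IsSeparated D.obj.hom›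
  obtain ⟨-, hZc, -, hZ⟩ := HasModel.at_finer hz₁' hz₂' hz₃' hZ₁ ψ₂
  let gj := pullback.snd gi (Dg.map j.hom)
  haveI : IsProper gj := MorphismProperty.pullback_snd _ _ hp
  haveI : Surjective gj := MorphismProperty.pullback_snd _ _ hs
  let zj := pullback.snd (pullback.snd z₀ (XD.map ψ₁)) (XD.map ψ₂)
  haveI : Etale zj := MorphismProperty.pullback_snd _ _ he
  haveI : IsSeparated zj := hsep
  haveI : QuasiCompact zj := quasiCompact_of_compactSpace zj
  exact exists_eff_of_model hc D gj zj _ (isPullback_bcCone hX j) _ hZ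

end Limit

/-- Effective descent of étale separated quasi-compact schemes along proper surjective morphisms
of finite presentation, over an arbitrary base. -/
theorem exists_eff_of_proper_surjective {S X : Scheme.{u}} {g : X ⟶ S} [IsProper g] [Surjective g]
    [LocallyOfFinitePresentation g] (D : Desc.SchDD g) [QuasiCompact D.obj.hom]
    [IsSeparated D.obj.hom] [Etale D.obj.hom] : Nonempty (Eff D (𝟙 S)) := by
  refine exists_eff_of_openCover D (univSubmersive_of_isProper_of_surjective g) fun s => ?_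
  obtain ⟨V, hV, hs, -⟩ := S.isBasis_affineOpens.exists_subset_of_mem_open
    (Set.mem_univ s) isOpen_univ
  obtain ⟨V, hVa, rfl⟩ := hV
  refine ⟨V, hs, ?_⟩
  let A : CommRingCat.{u} := Γ(S, V)
  let c := LimLib.fgCone ℤ A
  let j : c.pt ⟶ S := hVa.fromSpec
  haveI : ∀ i, IsLocallyNoetherian ((LimLib.fgDiagram ℤ A).obj i) := fun i => by
    haveI : Algebra.FiniteType ℤ (Algebra.adjoin ℤ (i.unop : Set A)) :=
      (Subalgebra.fg_iff_finiteType _).mp ⟨i.unop, rfl⟩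
    haveI : IsNoetherianRing (Algebra.adjoin ℤ (i.unop : Set A)) :=
      Algebra.FiniteType.isNoetherianRing ℤ _
    change IsLocallyNoetherian (Spec (CommRingCat.of (Algebra.adjoin ℤ (i.unop : Set A))))
    infer_instance
  haveI : IsAffine c.pt := inferInstanceAs (IsAffine (Spec _))
  let g₁ := pullback.snd g j
  haveI : IsProper g₁ := MorphismProperty.pullback_snd _ _ ‹IsProper g›
  haveI : Surjective g₁ := MorphismProperty.pullback_snd _ _ ‹Surjective g›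
  haveI : LocallyOfFinitePresentation g₁ :=
    MorphismProperty.pullback_snd _ _ ‹LocallyOfFinitePresentation g›
  let D₁ := pullDatum D g₁ (pullback.fst g j) j pullback.condition
  haveI : QuasiCompact D₁.obj.hom := MorphismProperty.pullback_snd _ _ ‹QuasiCompact D.obj.hom›
  haveI : IsSeparated D₁.obj.hom := MorphismProperty.pullback_snd _ _ ‹IsSeparated D.obj.hom›
  haveI : Etale D₁.obj.hom := MorphismProperty.pullback_snd _ _ ‹Etale D.obj.hom›
  obtain ⟨E₁⟩ := exists_eff_of_limit (LimLib.isLimitFgCone ℤ A) D₁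
  obtain ⟨E⟩ := exists_eff_of_pullDatum D g₁ (pullback.fst g j) j pullback.condition
    (univSubmersive_of_isProper_of_surjective g₁) E₁
  exact ⟨E.pull hVa.isoSpec.hom _ (by
    rw [Category.id_comp]; exact hVa.isoSpec_hom_fromSpec)⟩

end Groth.Agent.SGA1Desc
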