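import Mathlib
import Groth.Agent.SGA1Desc.ProperLimit
import Groth.Agent.SGA1Desc.EffDescend
import Groth.Agent.EtaleSite.TopInv

/-!
# Descending étale effectiveness along proper surjective morphisms
-/

set_option autoImplicit false
set_option linter.style.haveILetI false
set_option maxHeartbeats 800000
set_option backward.isDefEq.respectTransparency false

universe u

open CategoryTheory CategoryTheory.Limits AlgebraicGeometry Topology TopologicalSpace

namespace Groth.Agent.SGA1Desc

variable {X S : Scheme.{u}} {g : X ⟶ S} {D : Desc.SchDD g} (hg : SGA1.UnivSubmersive g)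

/-- A map of étale schemes which becomes an isomorphism after a surjective base change is an
isomorphism. -/
theorem isIso_of_etale_of_surjective {A B A' B' C : Scheme.{u}} (k : A ⟶ B) (b : B ⟶ C)
    [Etale (k ≫ b)] [Etale b] {k' : A' ⟶ B'} {a : A' ⟶ A} {β : B' ⟶ B}
    (h : IsPullback a k' k β) [Surjective β] [IsIso k'] : IsIso k := by
  haveI : Etale k := Etale.of_comp k b
  haveI : Surjective k := by
    haveI : Surjective (k' ≫ β) := inferInstance
    haveI : Surjective (a ≫ k) := by rw [h.w]; infer_instance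
    exact Surjective.of_comp a k
  haveI : Surjective a := MorphismProperty.of_isPullback h.flip ‹Surjective β›
  haveI : Mono k := ⟨fun {W} u v huv => by
    refine SGA1Misc.eq_of_surjective_comp_eq (k ≫ b) u v (by rw [reassoc_of% huv])
      (pullback.fst u a) ?_
    let W' := pullback u a
    let v' : W' ⟶ A' := h.lift (pullback.fst u a ≫ v) (pullback.snd u a ≫ k') (by
      rw [Category.assoc, ← huv, pullback.condition_assoc, Category.assoc, h.w])
    have e : pullback.snd u a = v' := by
      rw [← cancel_mono k']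
      exact (h.lift_snd _ _ _).symm
    rw [pullback.condition, e]
    exact h.lift_fst _ _ _⟩
  haveI : IsOpenImmersion k := IsOpenImmersion.of_flat_of_mono k
  haveI : Epi k.base := (TopCat.epi_iff_surjective _).2 k.surjective
  exact IsOpenImmersion.isIso k

section

variable {T₁ T : Scheme.{u}} {c : T₁ ⟶ T} {j₀ : T ⟶ S} (E : Eff D (c ≫ j₀))

include hg in
/-- Étale separated quasi-compact effectiveness descends along proper surjective morphisms of
finite presentation. -/
theorem exists_eff_descend_proper [IsProper c] [Surjective c] [LocallyOfFinitePresentation c]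
    [IsSeparated E.str] [QuasiCompact E.str] [Etale D.obj.hom] : Nonempty (Eff D j₀) := by
  haveI hE : Etale E.str := E.etale
  haveI : Etale (translDatum hg E).obj.hom := hE
  haveI : IsSeparated (translDatum hg E).obj.hom := ‹IsSeparated E.str›
  haveI : QuasiCompact (translDatum hg E).obj.hom := ‹QuasiCompact E.str›
  have hc := univSubmersive_of_isProper_of_surjective c
  obtain ⟨E₂⟩ := exists_eff_of_proper_surjective (translDatum hg E)
  obtain ⟨U, -, -, hUe, ⟨i⟩⟩ := E₂.exists_over hc
  obtain ⟨q₁, hsq₁, hq₁⟩ := exists_of_iso (D := translDatum hg E) i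
  let m := Eff.bcMap (D := D) c (c ≫ j₀) rfl
  have hm1 : m ≫ pullback.fst (D.obj.hom ≫ g) j₀ = pullback.fst _ _ := Eff.bcMap_fst _ _ _
  have hm2 : m ≫ pullback.snd (D.obj.hom ≫ g) j₀ = pullback.snd _ _ ≫ c := Eff.bcMap_snd _ _ _
  have hm : IsPullback m (pullback.snd (D.obj.hom ≫ g) (c ≫ j₀)) (pullback.snd (D.obj.hom ≫ g) j₀)
      c := Eff.isPullback_bcMap _ _ _
  have hmu : SGA1.UnivSubmersive m :=
    (MorphismProperty.universally_isStableUnderBaseChange _).of_isPullback hm.flip hc
  haveI : Surjective m := MorphismProperty.of_isPullback hm.flip ‹Surjective c›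
  have hq₁' : q₁ ≫ U.hom = E.str ≫ c := hsq₁.w
  obtain ⟨q₀, hw, hq₀⟩ := exists_desc_etale (pullback.snd (D.obj.hom ≫ g) j₀) U.hom m hmu
    (E.q ≫ q₁) (by rw [Category.assoc, hq₁', reassoc_of% E.q_str, hm2]) (by
      simp only [← Category.assoc]
      refine hq₁ _ _ (rel_translDatum hg E ?_ ?_)
      · rw [← hm1, pullback.condition_assoc]; exact rel_refl _
      · rw [← hm2, pullback.condition_assoc])
  let z₀ := pullback.fst (D.obj.hom ≫ g) j₀ ≫ D.obj.hom
  have hz₀ : z₀ ≫ g = q₀ ≫ U.hom ≫ j₀ := by
    rw [reassoc_of% hw, Category.assoc, pullback.condition]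
  let k : pullback (D.obj.hom ≫ g) j₀ ⟶ pullback (U.hom ≫ j₀) g := pullback.lift q₀ z₀ hz₀.symm
  let θ : pullback (U.hom ≫ j₀) g ⟶ T := pullback.fst (U.hom ≫ j₀) g ≫ U.hom
  have hk : k ≫ θ = pullback.snd (D.obj.hom ≫ g) j₀ := by simp [k, θ, hw]
  let d : pullback (D.obj.hom ≫ g) (c ≫ j₀) ⟶ pullback θ c :=
    pullback.lift (m ≫ k) (pullback.snd _ _) (by rw [Category.assoc, hk, hm2])
  have hd : IsPullback m d k (pullback.fst θ c) := by
    refine IsPullback.of_bot ?_ (pullback.lift_fst _ _ _).symm (IsPullback.of_hasPullback θ c)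
    rw [hk, pullback.lift_snd]
    exact hm
  have hiso : IsIso d := by
    let l : pullback θ c ⟶ E.base := hsq₁.lift (pullback.fst θ c ≫ pullback.fst (U.hom ≫ j₀) g)
      (pullback.snd θ c) (by
        simp only [Category.assoc]
        exact pullback.condition (f := θ) (g := c))
    have hl1 : l ≫ q₁ = pullback.fst θ c ≫ pullback.fst (U.hom ≫ j₀) g := hsq₁.lift_fst _ _ _
    have hl2 : l ≫ E.str = pullback.snd θ c := hsq₁.lift_snd _ _ _
    let d' : pullback θ c ⟶ pullback (D.obj.hom ≫ g) (c ≫ j₀) :=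
      E.isPullback.lift l (pullback.fst θ c ≫ pullback.snd (U.hom ≫ j₀) g) (by
        rw [reassoc_of% hl2, ← pullback.condition_assoc (f := θ) (g := c)]
        simp [θ, pullback.condition])
    have hd'1 : d' ≫ E.q = l := E.isPullback.lift_fst _ _ _
    have hd'2 : d' ≫ pullback.fst _ _ ≫ D.obj.hom =
        pullback.fst θ c ≫ pullback.snd (U.hom ≫ j₀) g := E.isPullback.lift_snd _ _ _
    have hd1 : d ≫ pullback.fst θ c = m ≫ k := pullback.lift_fst _ _ _
    have hd2 : d ≫ pullback.snd θ c = pullback.snd (D.obj.hom ≫ g) (c ≫ j₀) :=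
      pullback.lift_snd _ _ _
    refine ⟨d', ?_, ?_⟩
    · refine E.isPullback.hom_ext ?_ ?_
      · rw [Category.assoc, hd'1, Category.id_comp]
        refine hsq₁.hom_ext ?_ ?_
        · rw [Category.assoc, hl1, reassoc_of% hd1, pullback.lift_fst, hq₀]
        · change (d ≫ l) ≫ E.str = E.q ≫ E.str
          rw [Category.assoc, hl2, hd2, E.q_str]
      · rw [Category.assoc, hd'2, reassoc_of% hd1, pullback.lift_snd, Category.id_comp]
        rw [reassoc_of% hm1]
    · apply pullback.hom_ext
      · apply pullback.hom_ext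
        · simp only [Category.assoc, Category.id_comp, reassoc_of% hd1, k, pullback.lift_fst]
          rw [hq₀, reassoc_of% hd'1, hl1]
        · simp only [Category.assoc, Category.id_comp, reassoc_of% hd1, k, pullback.lift_snd, z₀]
          rw [reassoc_of% hm1]
          exact hd'2
      · rw [Category.assoc, hd2, Category.id_comp, ← E.q_str, reassoc_of% hd'1, hl2]
  haveI : Surjective (pullback.fst θ c) := MorphismProperty.pullback_fst _ _ ‹Surjective c›
  -- both sides are étale over `X ×_S T`
  let π₀ : pullback (U.hom ≫ j₀) g ⟶ pullback j₀ g :=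
    pullback.map (U.hom ≫ j₀) g j₀ g U.hom (𝟙 X) (𝟙 S) (by simp) (by simp)
  haveI : Etale π₀ := by
    have h1 : IsPullback (pullback.fst (U.hom ≫ j₀) g) π₀ U.hom (pullback.fst j₀ g) :=
      IsPullback.of_bot (IsPullback.of_hasPullback (U.hom ≫ j₀) g |> fun h => by simpa [π₀] using h)
        (pullback.lift_fst _ _ _).symm (IsPullback.of_hasPullback j₀ g)
    exact MorphismProperty.of_isPullback (P := @Etale) h1 hUe
  haveI : Etale (k ≫ π₀) := by
    have h1 : IsPullback (pullback.fst (D.obj.hom ≫ g) j₀) (k ≫ π₀) D.obj.hom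
        (pullback.snd j₀ g) := by
      refine IsPullback.of_bot ?_ ?_ (IsPullback.of_hasPullback j₀ g).flip
      · have e : (k ≫ π₀) ≫ pullback.fst j₀ g = pullback.snd (D.obj.hom ≫ g) j₀ := by
          simp [k, π₀, hw]
        rw [e]
        exact IsPullback.of_hasPullback _ _
      · simp [k, π₀, z₀]
    exact MorphismProperty.of_isPullback (P := @Etale) h1 ‹Etale D.obj.hom›
  haveI : IsIso k := isIso_of_etale_of_surjective k π₀ hd
  have hsq : IsPullback q₀ z₀ (U.hom ≫ j₀) g :=
    IsPullback.of_iso_pullback ⟨hz₀.symm⟩ (asIso k) (by simp [k]) (by simp [k])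
  refine ⟨{ base := U.left, str := U.hom, etale := hUe, q := q₀, q_str := hw,
            isPullback := hsq, compat := fun W a b hr hs => ?_ }⟩
  let e := pullback.fst (a ≫ pullback.snd (D.obj.hom ≫ g) j₀) c
  let t := pullback.snd (a ≫ pullback.snd (D.obj.hom ≫ g) j₀) c
  haveI : Surjective e := MorphismProperty.pullback_fst _ _ ‹Surjective c›
  have het : e ≫ a ≫ pullback.snd (D.obj.hom ≫ g) j₀ = t ≫ c := pullback.condition
  let a₁ := hm.lift (e ≫ a) t (by rw [Category.assoc, het])
  let b₁ := hm.lift (e ≫ b) t (by rw [Category.assoc, ← hs, het])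
  have ha₁ : a₁ ≫ m = e ≫ a := hm.lift_fst _ _ _
  have hb₁ : b₁ ≫ m = e ≫ b := hm.lift_fst _ _ _
  have hab₁ := E.compat a₁ b₁ (by
    rw [← hm1, reassoc_of% ha₁, reassoc_of% hb₁]; exact rel_comp e hr)
    (by rw [hm.lift_snd, hm.lift_snd])
  haveI := hUe
  refine SGA1Misc.eq_of_surjective_comp_eq U.hom _ _
    (by rw [Category.assoc, Category.assoc, hw, hs]) e ?_
  rw [← reassoc_of% ha₁, ← reassoc_of% hb₁, hq₀, reassoc_of% hab₁]

end

end Groth.Agent.SGA1Desc
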