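import Mathlib

/-!
# Compactness of the space of valuations, in terms of finite data

A family of finite conditions `b ≠ 0`, `aᵢ / b` integral, `fⱼ(a / b) = 0` which covers all
valuations integral on a ring has a finite subfamily which does.
-/

set_option autoImplicit false

universe u

open MvPolynomial

namespace Groth.Agent.SGA1Desc.RZ

variable (A : Type u) [CommRing A]

/-- Finite data: fractions `aᵢ / b` and equations between them. -/
structure Dat where
  /-- the number of fractions -/
  n : ℕ
  /-- the numerators -/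
  a : Fin n → A
  /-- the denominator -/
  b : A
  /-- the equations -/
  fs : Finset (MvPolynomial (Fin n) A)

variable {A}

/-- The homogenised value of a polynomial at a fraction. -/
noncomputable def homEval {n : ℕ} (a : Fin n → A) (b : A) (f : MvPolynomial (Fin n) A) : A :=
  ∑ m ∈ f.support, f.coeff m * (∏ i, a i ^ m i) * b ^ (f.totalDegree - ∑ i, m i)

theorem map_homEval {K : Type u} [Field K] (ρ : A →+* K) {n : ℕ} (a : Fin n → A) (b : A)
    (f : MvPolynomial (Fin n) A) (hb : ρ b ≠ 0) :
    ρ (homEval a b f) = ρ b ^ f.totalDegree * eval₂ ρ (fun i => ρ (a i) / ρ b) f := by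
  rw [homEval, map_sum, eval₂_eq', Finset.mul_sum]
  refine Finset.sum_congr rfl fun m hm => ?_
  have hle : ∑ i, m i ≤ f.totalDegree := by
    have := le_totalDegree hm
    rwa [Finsupp.sum_fintype _ _ (fun _ => rfl)] at this
  obtain ⟨k, hk⟩ := Nat.exists_eq_add_of_le hle
  simp only [map_mul, map_prod, map_pow, div_pow, Finset.prod_div_distrib,
    Finset.prod_pow_eq_pow_sum]
  rw [hk, Nat.add_sub_cancel_left, pow_add]
  have hbm : ρ b ^ ∑ i, m i ≠ 0 := pow_ne_zero _ hb
  field_simp

/-- The valuation `R` of `K` satisfies the conditions of the data. -/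
def Holds {K : Type u} [Field K] (ρ : A →+* K) (R : ValuationSubring K) (d : Dat A) : Prop :=
  ρ d.b ≠ 0 ∧ (∀ i, ρ (d.a i) / ρ d.b ∈ R) ∧ ∀ f ∈ d.fs, ρ (homEval d.a d.b f) = 0

/-- The set of relations satisfying the conditions of the data. -/
def opn (d : Dat A) : Set (A × A → Bool) :=
  {r | r (d.b, 0) = false ∧ (∀ i, r (d.a i, d.b) = true) ∧
    ∀ f ∈ d.fs, r (homEval d.a d.b f, 0) = true}

theorem isOpen_opn (d : Dat A) : IsOpen (opn d) := by
  have hc : ∀ (x : A × A) (t : Bool), IsOpen {r : A × A → Bool | r x = t} := fun x t =>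
    (isOpen_discrete ({t} : Set Bool)).preimage (continuous_apply (A := fun _ : A × A => Bool) x)
  have e : opn d = {r : A × A → Bool | r (d.b, 0) = false} ∩
      ((⋂ i, {r : A × A → Bool | r (d.a i, d.b) = true}) ∩
        ⋂ f ∈ d.fs, {r : A × A → Bool | r (homEval d.a d.b f, 0) = true}) := by
    ext r
    simp [opn]
  rw [e]
  exact (hc _ _).inter ((isOpen_iInter_of_finite fun i => hc _ _).inter
    (isOpen_biInter_finset fun f _ => hc _ _))

/-- The relations of valuations integral on `A`. -/
def space : Set (A × A → Bool) :=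
  {r | (∀ x y, r (x, y) = true ∨ r (y, x) = true) ∧
    (∀ z y x, r (x, y) = true → r (y, z) = true → r (x, z) = true) ∧
    (∀ x y z, r (x, z) = true → r (y, z) = true → r (x + y, z) = true) ∧
    (∀ x y z, r (x, y) = true → r (x * z, y * z) = true) ∧
    (∀ x y z, r (z, 0) = false → r (x * z, y * z) = true → r (x, y) = true) ∧
    r (1, 0) = false ∧ ∀ x, r (x, 1) = true}

theorem isClosed_space : IsClosed (space (A := A)) := by
  have hc : ∀ (x : A × A) (t : Bool), IsClosed {r : A × A → Bool | r x = t} := fun x t =>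
    (isClosed_discrete ({t} : Set Bool)).preimage (continuous_apply (A := fun _ : A × A => Bool) x)
  have ho : ∀ (x : A × A) (t : Bool), IsOpen {r : A × A → Bool | r x = t} := fun x t =>
    (isOpen_discrete ({t} : Set Bool)).preimage (continuous_apply (A := fun _ : A × A => Bool) x)
  simp only [space, Set.ofPred_and, Set.ofPred_forall]
  refine IsClosed.inter ?_ (IsClosed.inter ?_ (IsClosed.inter ?_ (IsClosed.inter ?_
    (IsClosed.inter ?_ (IsClosed.inter (hc _ _) (isClosed_iInter fun x => hc _ _))))))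
  · exact isClosed_iInter fun x => isClosed_iInter fun y => (hc _ _).union (hc _ _)
  · exact isClosed_iInter fun z => isClosed_iInter fun y => isClosed_iInter fun x =>
      isClosed_imp (ho _ _) (isClosed_imp (ho _ _) (hc _ _))
  · exact isClosed_iInter fun z => isClosed_iInter fun y => isClosed_iInter fun x =>
      isClosed_imp (ho _ _) (isClosed_imp (ho _ _) (hc _ _))
  · exact isClosed_iInter fun z => isClosed_iInter fun y => isClosed_iInter fun x =>
      isClosed_imp (ho _ _) (hc _ _)
  · exact isClosed_iInter fun z => isClosed_iInter fun y => isClosed_iInter fun x =>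
      isClosed_imp (ho _ _) (isClosed_imp (ho _ _) (hc _ _))

/-- The relation of a valuation. -/
noncomputable def relOf {K : Type u} [Field K] (ρ : A →+* K) {Γ : Type*}
    [LinearOrderedCommGroupWithZero Γ] (v : Valuation K Γ) : A × A → Bool :=
  fun x => decide (v (ρ x.1) ≤ v (ρ x.2))

theorem holds_iff {K : Type u} [Field K] (ρ : A →+* K) {Γ : Type*}
    [LinearOrderedCommGroupWithZero Γ] (v : Valuation K Γ) (d : Dat A) :
    Holds ρ v.valuationSubring d ↔ relOf ρ v ∈ opn d := by
  simp only [Holds, opn, relOf, Set.mem_setOf_eq, decide_eq_true_eq, decide_eq_false_iff_not,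
    map_zero, le_zero_iff, Valuation.zero_iff, Valuation.mem_valuationSubring_iff]
  refine and_congr_right fun hb => and_congr (forall_congr' fun i => ?_) Iff.rfl
  rw [map_div₀, div_le_one₀ (zero_lt_iff.2 ((Valuation.ne_zero_iff v).2 hb))]

theorem relOf_mem_space {K : Type u} [Field K] (ρ : A →+* K) {Γ : Type*}
    [LinearOrderedCommGroupWithZero Γ] (v : Valuation K Γ) (h : ∀ x, v (ρ x) ≤ 1) :
    relOf ρ v ∈ space := by
  refine ⟨fun x y => ?_, fun z y x => ?_, fun x y z => ?_, fun x y z => ?_, fun x y z => ?_, ?_,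
    fun x => ?_⟩
  · simpa [relOf] using le_total (v (ρ x)) (v (ρ y))
  · simpa [relOf] using le_trans
  · simp only [relOf, decide_eq_true_eq, map_add]
    exact v.map_add_le
  · simp only [relOf, decide_eq_true_eq, map_mul]
    exact fun h => mul_le_mul_left h _
  · simp only [relOf, decide_eq_true_eq, decide_eq_false_iff_not, map_mul, map_zero, le_zero_iff]
    intro hz hle
    exact le_of_mul_le_mul_right hle (zero_lt_iff.2 hz)
  · simp [relOf]
  · simpa [relOf] using h x

theorem exists_valuation_of_mem_space {r : A × A → Bool} (hr : r ∈ space) :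
    ∃ (K : Type u) (_ : Field K) (ρ : A →+* K) (Γ : Type u)
      (_ : LinearOrderedCommGroupWithZero Γ) (v : Valuation K Γ),
      (∀ x, v (ρ x) ≤ 1) ∧ (∀ y : K, ∃ a b, ρ b ≠ 0 ∧ y = ρ a / ρ b) ∧ relOf ρ v = r := by
  obtain ⟨h1, h2, h3, h4, h5, h6, h7⟩ := hr
  letI : ValuativeRel A :=
    { vle := fun x y => r (x, y) = true
      vle_total := h1
      vle_trans := fun {z y x} => h2 z y x
      vle_add := fun {x y z} => h3 x y z
      mul_vle_mul_left := fun {x y} h z => h4 x y z h
      vle_mul_cancel := fun {x y z} h => h5 x y z (by simpa using h)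
      not_vle_one_zero := by simp [h6]
      vle_mul_comm := fun {x y} => by
        rw [mul_comm]
        exact (h1 _ _).elim id id }
  let v := ValuativeRel.valuation A
  let q := A ⧸ v.supp
  haveI : v.supp.IsPrime := inferInstance
  let K := FractionRing q
  let vq : Valuation q (ValuativeRel.ValueGroupWithZero A) := v.onQuot le_rfl
  have hS : nonZeroDivisors q ≤ vq.supp.primeCompl := fun x hx hx' => by
    obtain ⟨a, rfl⟩ := Ideal.Quotient.mk_surjective x
    change vq (Ideal.Quotient.mk _ a) = 0 at hx'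
    exact nonZeroDivisors.ne_zero hx (Ideal.Quotient.eq_zero_iff_mem.2 hx')
  let vK := vq.extendToLocalization hS K
  let ρ : A →+* K := (algebraMap q K).comp (Ideal.Quotient.mk _)
  have hv : ∀ x, vK (ρ x) = v x := fun x => vq.extendToLocalization_apply_map_apply hS K _
  refine ⟨K, inferInstance, ρ, _, inferInstance, vK, fun x => ?_, fun y => ?_, funext fun x => ?_⟩
  · rw [hv, ← v.map_one, ← Valuation.Compatible.vle_iff_le]
    exact h7 x
  · obtain ⟨a', b', hb', rfl⟩ := IsFractionRing.div_surjective (A := q) y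
    obtain ⟨a, rfl⟩ := Ideal.Quotient.mk_surjective a'
    obtain ⟨b, rfl⟩ := Ideal.Quotient.mk_surjective b'
    exact ⟨a, b, IsFractionRing.to_map_ne_zero_of_mem_nonZeroDivisors (R := q) (K := K) hb', rfl⟩
  · rw [Bool.eq_iff_iff]
    simp only [relOf, decide_eq_true_eq]
    rw [hv, hv, ← Valuation.Compatible.vle_iff_le]
    rfl

/-- Compactness of the space of valuations. -/
theorem exists_finite_holds (good : Dat A → Prop)
    (h : ∀ (K : Type u) [Field K] (ρ : A →+* K) (R : ValuationSubring K), (∀ x, ρ x ∈ R) →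
      (∀ y : K, ∃ a b, ρ b ≠ 0 ∧ y = ρ a / ρ b) → ∃ d, good d ∧ Holds ρ R d) :
    ∃ s : Set (Dat A), s.Finite ∧ (∀ d ∈ s, good d) ∧
      ∀ (K : Type u) [Field K] (ρ : A →+* K) (R : ValuationSubring K), (∀ x, ρ x ∈ R) →
        ∃ d ∈ s, Holds ρ R d := by
  have hcov : space ⊆ ⋃ d ∈ {d : Dat A | good d}, opn d := fun r hr => by
    obtain ⟨K, _, ρ, Γ, _, v, hint, hfrac, rfl⟩ := exists_valuation_of_mem_space hr
    obtain ⟨d, hd, hd'⟩ := h K ρ v.valuationSubring hint hfrac
    exact Set.mem_iUnion₂.2 ⟨d, hd, (holds_iff ρ v d).1 hd'⟩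
  obtain ⟨s, hs, hfin, hsub⟩ := isClosed_space.isCompact.elim_finite_subcover_image
    (fun d _ => isOpen_opn d) hcov
  refine ⟨s, hfin, hs, fun K _ ρ R hint => ?_⟩
  obtain ⟨d, hd, hd'⟩ := Set.mem_iUnion₂.1 (hsub (relOf_mem_space ρ R.valuation
    fun x => (R.valuation_le_one_iff _).2 (hint x)))
  refine ⟨d, hd, ?_⟩
  rw [← R.valuationSubring_valuation]
  exact (holds_iff ρ _ d).2 hd'

end Groth.Agent.SGA1Desc.RZ
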