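import Mathlib
import Groth.Agent.SGA1Desc.RZSpace
import Groth.Agent.Chow.Coords
import Groth.Agent.ProjProper.Basic
import Groth.Agent.LimTop.Closure
import Groth.Agent.FDesc.ProConsImage
import Groth.Agent.RedSub.Basic

/-!
# Proper surjective refinements of families covering all valuations

Over an affine base `Spec A`, a family of finitely presented `A`-algebras through which every
valuation ring over `A` factors is refined by a proper surjective cover with an open cover.
-/

set_option autoImplicit false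
set_option linter.style.haveILetI false
set_option maxHeartbeats 800000
set_option backward.isDefEq.respectTransparency false

universe u

open CategoryTheory CategoryTheory.Limits AlgebraicGeometry Topology TopologicalSpace IsLocalRing
open MvPolynomial (X C eval₂Hom)
open HomogeneousLocalization (Away)
open Groth.Agent (Chow.Pr Chow.str Chow.chart Chow.away Chow.X_mem Chow.dh Chow.scal)

namespace Groth.Agent.SGA1Desc.RZ

section sp

variable {A : Type u} [CommRing A] {N : ℕ} {B : Type u} [CommRing B]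

/-- The point with given coordinates in the chart of `X i`. -/
noncomputable def sp (ev : MvPolynomial (Fin (N + 1)) A →+* B) (i : Fin (N + 1))
    (h : IsUnit (ev (X i))) : Spec (CommRingCat.of B) ⟶ Chow.Pr N A :=
  Spec.map (CommRingCat.ofHom (Chow.away ev (X i) h)) ≫ Chow.chart N A i

theorem away_comp {B' : Type u} [CommRing B'] (φ : B →+* B')
    (ev : MvPolynomial (Fin (N + 1)) A →+* B) (i : Fin (N + 1)) (h : IsUnit (ev (X i)))
    (h' : IsUnit ((φ.comp ev) (X i))) :
    φ.comp (Chow.away ev (X i) h) = Chow.away (φ.comp ev) (X i) h' := by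
  ext y
  obtain ⟨k, a, ha, rfl⟩ :=
    Away.mk_surjective (CohB1.polyGrading N A) (Chow.X_mem i) y
  apply ((h'.pow k).mul_left_inj).1
  rw [Chow.away_mk (φ.comp ev) (X i) h' (Chow.X_mem i) k a ha, RingHom.comp_apply,
    RingHom.comp_apply, ← map_pow, ← map_mul, Chow.away_mk ev (X i) h (Chow.X_mem i) k a ha,
    RingHom.comp_apply]

theorem map_sp {B' : Type u} [CommRing B'] (φ : B →+* B')
    (ev : MvPolynomial (Fin (N + 1)) A →+* B) (i : Fin (N + 1)) (h : IsUnit (ev (X i))) :
    Spec.map (CommRingCat.ofHom φ) ≫ sp ev i h = sp (φ.comp ev) i (h.map φ) := by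
  rw [sp, sp, ← Category.assoc, ← Spec.map_comp, ← CommRingCat.ofHom_comp,
    away_comp φ ev i h (h.map φ)]

theorem sp_congr {ev ev' : MvPolynomial (Fin (N + 1)) A →+* B} (e : ev = ev') (i : Fin (N + 1))
    (h : IsUnit (ev (X i))) (h' : IsUnit (ev' (X i))) : sp ev i h = sp ev' i h' := by
  subst e
  rfl

theorem sp_eq_of_isUnit (ev : MvPolynomial (Fin (N + 1)) A →+* B) (i k : Fin (N + 1))
    (h : IsUnit (ev (X i))) (h' : IsUnit (ev (X k))) : sp ev i h = sp ev k h' := by
  have hm : IsUnit (ev (X i * X k)) := by rw [map_mul]; exact h.mul h'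
  have e : ∀ (p q : Fin (N + 1)) (hp : IsUnit (ev (X p)))
      (hx : (X i * X k : MvPolynomial (Fin (N + 1)) A) = X p * X q),
      sp ev p hp = Spec.map (CommRingCat.ofHom (Chow.away ev (X i * X k) hm)) ≫
        Proj.awayι (CohB1.polyGrading N A) (X i * X k)
          (hx ▸ SetLike.mul_mem_graded (Chow.X_mem p) (Chow.X_mem q)) (by omega : 0 < 1 + 1) := by
    intro p q hp hx
    rw [sp, ← Proj.SpecMap_awayMap_awayι (CohB1.polyGrading N A) (Chow.X_mem p) one_pos
        (Chow.X_mem q) hx,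
      ← Spec.map_comp_assoc, ← CommRingCat.ofHom_comp,
      Chow.away_comp_awayMap ev (Chow.X_mem p) (Chow.X_mem q) hx hp hm]
  rw [e i k h rfl, e k i h' (mul_comm _ _)]

theorem sp_scale (ρ : A →+* B) (v : Fin (N + 1) → B) (c : B) (hc : IsUnit c) (i : Fin (N + 1))
    (h : IsUnit (eval₂Hom ρ v (X i))) (h' : IsUnit (eval₂Hom ρ (fun k => c * v k) (X i))) :
    sp (eval₂Hom ρ (fun k => c * v k)) i h' = sp (eval₂Hom ρ v) i h := by
  rw [sp, sp, Chow.away_scale ρ v c hc (Chow.X_mem i) h h']

theorem sp_str (ev : MvPolynomial (Fin (N + 1)) A →+* B) (i : Fin (N + 1))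
    (h : IsUnit (ev (X i))) :
    sp ev i h ≫ Chow.str N A = Spec.map (CommRingCat.ofHom (ev.comp C)) := by
  rw [sp, Category.assoc, Chow.chart_toSpec, ← Spec.map_comp, ← CommRingCat.ofHom_comp,
    Chow.away_scal ev (X i) h (Chow.X_mem i)]

theorem sp_preimage (ev : MvPolynomial (Fin (N + 1)) A →+* B) (i k : Fin (N + 1))
    (h : IsUnit (ev (X i))) :
    sp ev i h ⁻¹ᵁ (Chow.chart N A k).opensRange = PrimeSpectrum.basicOpen (ev (X k)) := by
  rw [sp, Scheme.Hom.comp_preimage, Proj.opensRange_awayι,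
    Proj.awayι_preimage_basicOpen (CohB1.polyGrading N A) (Chow.X_mem i) one_pos (Chow.X_mem k)
      one_pos]
  have he := Chow.away_mk ev (X i) h (Chow.X_mem i) 1 ((X k) ^ 1)
    (by simpa using Chow.X_mem k)
  rw [pow_one (ev (X i)), map_pow, pow_one (ev (X k))] at he
  ext1
  ext p
  change Chow.away ev (X i) h (Away.isLocalizationElem (Chow.X_mem i) (Chow.X_mem k)) ∉ p.asIdeal ↔
    ev (X k) ∉ p.asIdeal
  rw [← he, not_iff_not]
  exact (Ideal.mul_unit_mem_iff_mem _ h).symm

theorem away_dh_mul (ev : MvPolynomial (Fin (N + 1)) A →+* B) (i k : Fin (N + 1))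
    (h : IsUnit (ev (X i))) :
    Chow.away ev (X i) h (Chow.dh N A i (X k)) * ev (X i) = ev (X k) := by
  rw [Chow.dh, ZetaLib.dehom_of_mem _ _ (Chow.X_mem k)]
  simpa using Chow.away_mk ev (X i) h (Chow.X_mem i) 1 (X k) (by simpa using Chow.X_mem k)

end sp

theorem preimage_basicOpen_specHom {T : Scheme.{u}} {B : CommRingCat.{u}} (a : T ⟶ Spec B)
    (f : B) : a ⁻¹ᵁ PrimeSpectrum.basicOpen f = T.basicOpen (Chow.specHom a f) := by
  conv_lhs => rw [← Chow.toSpecΓ_specHom a]
  rw [Scheme.Hom.comp_preimage]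
  exact T.toSpecΓ_preimage_basicOpen _

/-- Specialisations of points of affine schemes are realised by valuation subrings of the residue
field. -/
theorem exists_valuationSubring_of_specializes {L : Type u} [Field L] {Y : Scheme.{u}}
    (x : Spec (CommRingCat.of L) ⟶ Y) {y : Y} (h : x.base (closedPoint L) ⤳ y) :
    ∃ (R : ValuationSubring L) (g : Spec (CommRingCat.of R) ⟶ Y),
      g.base (closedPoint R) = y ∧ Spec.map (CommRingCat.ofHom R.subtype) ≫ g = x := by
  let φ : Y.presheaf.stalk y ⟶ CommRingCat.of L :=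
    Y.presheaf.stalkSpecializes h ≫ Scheme.stalkClosedPointTo x
  obtain ⟨R, hR, hRloc⟩ := exists_factor_valuationRing φ.hom
  let ψ : Y.presheaf.stalk y ⟶ CommRingCat.of R := CommRingCat.ofHom (φ.hom.codRestrict _ hR)
  refine ⟨R, Spec.map ψ ≫ Y.fromSpecStalk y, ?_, ?_⟩
  · have : Spec.map ψ (closedPoint R) = closedPoint (Y.presheaf.stalk y) :=
      comap_closedPoint (S := R) (φ.hom.codRestrict R.toSubring hR)
    rw [Scheme.Hom.comp_apply, this, Scheme.fromSpecStalk_closedPoint]
  · rw [← Spec.map_comp_assoc]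
    change Spec.map φ ≫ _ = x
    rw [Spec.map_comp, Category.assoc, Scheme.SpecMap_stalkSpecializes_fromSpecStalk,
      Scheme.Spec_stalkClosedPointTo_fromSpecStalk]

variable {A : Type u} [CommRing A]

/-- One stratum of the refinement. -/
theorem exists_stratum {B : Type u} [CommRing B] (ρ : A →+* B) {J : Type u} [Finite J]
    (d : J → Dat A) (hb : ∀ j, IsUnit (ρ (d j).b))
    (hH : ∀ j, ∀ f ∈ (d j).fs, ρ (homEval (d j).a (d j).b f) = 0)
    (hcov : ∀ (L : Type u) [Field L] (π : B →+* L) (R : ValuationSubring L),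
      (∀ x, π (ρ x) ∈ R) → ∃ j, ∀ i, π (ρ ((d j).a i)) / π (ρ (d j).b) ∈ R) :
    ∃ (N : ℕ) (Z : Scheme.{u}) (e : Z ⟶ Chow.Pr N A), IsClosedImmersion e ∧
      Set.range (Spec.map (CommRingCat.ofHom ρ)).base ⊆ Set.range (e ≫ Chow.str N A).base ∧
      ∀ z : Z, ∃ (G : Z.Opens) (j : J), z ∈ G ∧ ∃ κ : G.toScheme ⟶
        Spec (CommRingCat.of (MvPolynomial (Fin (d j).n) A ⧸ Ideal.span ((d j).fs : Set (MvPolynomial (Fin (d j).n) A)))),
        κ ≫ Spec.map (CommRingCat.ofHom (algebraMap A _)) = G.ι ≫ e ≫ Chow.str N A := by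
  classical
  haveI := Fintype.ofFinite J
  let Cs := ∀ j, Option (Fin (d j).n)
  let N := Fintype.card Cs - 1
  have hN : N + 1 = Fintype.card Cs :=
    Nat.sub_add_cancel (Fintype.card_pos_iff.2 ⟨fun _ => none⟩)
  let e : Fin (N + 1) ≃ Cs := (finCongr hN).trans (Fintype.equivFin Cs).symm
  let val : ∀ j, Option (Fin (d j).n) → A := fun j o => o.elim (d j).b (d j).a
  let W : Cs → A := fun c => ∏ j, val j (c j)
  have hW : ∀ (c : Cs) (j : J) (o : Option (Fin (d j).n)),
      W (Function.update c j o) * val j (c j) = W c * val j o := fun c j o => by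
    have h1 := Finset.mul_prod_erase Finset.univ (fun k => val k (Function.update c j o k))
      (Finset.mem_univ j)
    have h2 := Finset.mul_prod_erase Finset.univ (fun k => val k (c k)) (Finset.mem_univ j)
    have h3 : ∀ k ∈ Finset.univ.erase j, val k (Function.update c j o k) = val k (c k) :=
      fun k hk => by rw [Function.update_of_ne (Finset.ne_of_mem_erase hk)]
    simp only [Function.update_self] at h1
    simp only [W]
    rw [← h1, ← h2, Finset.prod_congr rfl h3]
    ring
  let w : Fin (N + 1) → B := fun k => ρ (W (e k))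
  let i₀ : Fin (N + 1) := e.symm fun _ => none
  have hw₀ : IsUnit (w i₀) := by
    simp only [w, i₀, W, Equiv.apply_symm_apply, map_prod]
    exact IsUnit.prod_univ_iff.2 fun j => hb j
  let evB := eval₂Hom ρ w
  have hev₀ : IsUnit (evB (X i₀)) := by simpa [evB] using hw₀
  let s := sp evB i₀ hev₀
  have hsstr : s ≫ Chow.str N A = Spec.map (CommRingCat.ofHom ρ) := by
    rw [sp_str]
    congr 2
    exact RingHom.ext fun r => by simp [evB]
  let Zs : Closeds (Chow.Pr N A) := ⟨closure (Set.range s.base), isClosed_closure⟩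
  let I := Scheme.IdealSheafData.vanishingIdeal Zs
  haveI : IsReduced I.subscheme := RedSub.isReduced_vanishingIdeal Zs
  have hr : Set.range I.subschemeι.base = closure (Set.range s.base) := by
    rw [Scheme.IdealSheafData.range_subschemeι, Scheme.IdealSheafData.coe_support_vanishingIdeal]
    rfl
  refine ⟨N, I.subscheme, I.subschemeι, inferInstance, ?_, fun z => ?_⟩
  · rintro _ ⟨p, rfl⟩
    obtain ⟨z, hz⟩ : s.base p ∈ Set.range I.subschemeι.base :=
      hr ▸ subset_closure (Set.mem_range_self p)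
    exact ⟨z, by rw [Scheme.Hom.comp_apply, hz, ← Scheme.Hom.comp_apply, hsstr]⟩
  -- a chart containing the point
  obtain ⟨η, ⟨p, rfl⟩, hη⟩ := LimTop.exists_specializes_of_mem_closure
    (E := Set.range s.base) (y := I.subschemeι.base z) (by
      rw [← Set.image_univ]
      exact FDesc.ProConsImage.isProConstructible_image s
        (FDesc.ProConsImage.isProConstructible_of_isClosed_cons fun U _ => by simp))
    (hr ▸ Set.mem_range_self z)
  let L := (p : PrimeSpectrum B).asIdeal.ResidueField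
  let π : B →+* L := algebraMap B L
  let x : Spec (CommRingCat.of L) ⟶ Chow.Pr N A := Spec.map (CommRingCat.ofHom π) ≫ s
  have hxp : x.base (closedPoint L) = s.base p := by
    rw [Scheme.Hom.comp_apply]
    congr 1
    refine PrimeSpectrum.ext ?_
    change Ideal.comap π (maximalIdeal L) = _
    rw [IsLocalRing.maximalIdeal_eq_bot, ← RingHom.ker_eq_comap_bot]
    exact Ideal.ker_algebraMap_residueField _
  obtain ⟨R, g, hg, hgx⟩ := exists_valuationSubring_of_specializes x (hxp.symm ▸ hη)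
  let wL : Fin (N + 1) → L := fun k => π (w k)
  have hxev : x = sp (eval₂Hom (π.comp ρ) wL) i₀ (by simpa [wL] using hw₀.map π) := by
    change Spec.map _ ≫ sp evB i₀ hev₀ = _
    rw [map_sp]
    exact sp_congr (MvPolynomial.comp_eval₂Hom _ _ _) _ _ _
  have hxstr : x ≫ Chow.str N A = Spec.map (CommRingCat.ofHom (π.comp ρ)) := by
    rw [Category.assoc, hsstr, ← Spec.map_comp, ← CommRingCat.ofHom_comp]
  obtain ⟨ψ, hψ⟩ : ∃ ψ, Spec.map ψ = g ≫ Chow.str N A := ⟨_, Spec.map_preimage _⟩
  have hψR : R.subtype.comp ψ.hom = π.comp ρ := by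
    have h1 : Spec.map (CommRingCat.ofHom R.subtype) ≫ Spec.map ψ =
        Spec.map (CommRingCat.ofHom (π.comp ρ)) := by rw [hψ, reassoc_of% hgx, hxstr]
    rw [← Spec.map_comp] at h1
    exact congrArg CommRingCat.Hom.hom (Spec.map_injective h1)
  have hint : ∀ r, π (ρ r) ∈ R := fun r => by
    have := RingHom.congr_fun hψR r
    simp only [RingHom.comp_apply] at this
    exact this ▸ (ψ.hom r).2
  obtain ⟨j, hj⟩ := hcov L π R hint
  let v := R.valuation
  obtain ⟨cm, -, hcm⟩ := Finset.exists_max_image (Finset.univ : Finset Cs)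
    (fun c => v (π (ρ (W c)))) ⟨fun _ => none, Finset.mem_univ _⟩
  let c : Cs := Function.update cm j none
  have hπb : π (ρ (d j).b) ≠ 0 := ((hb j).map π).ne_zero
  have hmax : ∀ c', v (π (ρ (W c'))) ≤ v (π (ρ (W c))) := fun c' => by
    refine (hcm c' (Finset.mem_univ _)).trans ?_
    have h1 := congrArg (fun r => v (π (ρ r))) (hW cm j none)
    simp only [map_mul] at h1
    have h2 : v (π (ρ (val j (cm j)))) ≤ v (π (ρ (d j).b)) := by
      cases h3 : cm j with
      | none => simp [val]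
      | some i =>
        have := (R.valuation_le_one_iff _).2 (hj i)
        rwa [map_div₀, div_le_one₀ (zero_lt_iff.2 ((Valuation.ne_zero_iff _).2 hπb))] at this
    have hpos : (0 : R.ValueGroup) < v (π (ρ (d j).b)) :=
      zero_lt_iff.2 ((Valuation.ne_zero_iff _).2 hπb)
    refine le_of_mul_le_mul_right ?_ hpos
    change v (π (ρ (W cm))) * v (π (ρ (val j none))) ≤ v (π (ρ (W c))) * v (π (ρ (d j).b))
    rw [← h1]
    exact mul_le_mul_right h2 _
  have hWc : π (ρ (W c)) ≠ 0 := fun h0 => by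
    have := hmax fun _ => none
    rw [h0, map_zero, le_zero_iff, Valuation.zero_iff] at this
    have h1 : π (w i₀) ≠ 0 := (hw₀.map π).ne_zero
    simp only [w, i₀, Equiv.apply_symm_apply] at h1
    exact h1 this
  let k₀ := e.symm c
  let cinv : L := (π (ρ (W c)))⁻¹
  let uR : Fin (N + 1) → R := fun k => ⟨cinv * wL k, by
    rw [← R.valuation_le_one_iff, map_mul, map_inv₀, inv_mul_le_one₀
      (zero_lt_iff.2 ((Valuation.ne_zero_iff _).2 hWc))]
    exact hmax _⟩
  have huk : uR k₀ = 1 := Subtype.ext (by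
    simp only [uR, wL, w, k₀, cinv, Equiv.apply_symm_apply, OneMemClass.coe_one]
    exact inv_mul_cancel₀ hWc)
  let g₁ := sp (eval₂Hom ψ.hom uR) k₀ (by simp [huk])
  haveI : IsDominant (Spec.map (CommRingCat.ofHom R.subtype)) := ⟨by
    change DenseRange (PrimeSpectrum.comap R.subtype)
    rw [PrimeSpectrum.denseRange_comap_iff_ker_le_nilRadical]
    intro r hr
    rw [RingHom.mem_ker] at hr
    rw [show r = 0 from Subtype.ext hr]
    exact zero_mem _⟩
  haveI : IsProper (Chow.str N A) := ProjProper.Basic.isProper_toSpec N A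
  have hgg : g = g₁ := by
    refine ext_of_isDominant_of_isSeparated (Chow.str N A) ?_
      (Spec.map (CommRingCat.ofHom R.subtype)) ?_
    · rw [← hψ, sp_str]
      congr 1
      ext r
      simp
    · rw [hgx, map_sp]
      have e1 : R.subtype.comp (eval₂Hom ψ.hom uR) =
          eval₂Hom (π.comp ρ) (fun k => cinv * wL k) := by
        rw [MvPolynomial.comp_eval₂Hom, hψR]
        rfl
      have hk : IsUnit (eval₂Hom (π.comp ρ) wL (X k₀)) := by
        simp only [MvPolynomial.eval₂Hom_X', wL, w, k₀, Equiv.apply_symm_apply]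
        exact IsUnit.mk0 _ hWc
      rw [sp_congr e1 k₀ _ (by
          simp only [MvPolynomial.eval₂Hom_X', wL, w, k₀, cinv, Equiv.apply_symm_apply]
          exact IsUnit.mk0 _ (mul_ne_zero (inv_ne_zero hWc) hWc)),
        sp_scale (π.comp ρ) wL cinv (IsUnit.mk0 _ (inv_ne_zero hWc)) k₀ hk, hxev]
      exact sp_eq_of_isUnit _ _ _ _ hk
  let Ω := (Chow.chart N A k₀).opensRange
  let G := I.subschemeι ⁻¹ᵁ Ω
  have hzG : z ∈ G := by
    change I.subschemeι.base z ∈ Ω
    rw [← hg, hgg]
    exact ⟨_, (Scheme.Hom.comp_apply _ _ _).symm⟩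
  refine ⟨G, j, hzG, ?_⟩
  let ks : Fin (d j).n → Fin (N + 1) := fun i => e.symm (Function.update c j (some i))
  let θ : MvPolynomial (Fin (d j).n) A →+*
      Away (CohB1.polyGrading N A) (X k₀) :=
    eval₂Hom (Chow.scal N A (X k₀)) fun i => Chow.dh N A k₀ (X (ks i))
  let l : G.toScheme ⟶ Spec (CommRingCat.of (Away (CohB1.polyGrading N A) (X k₀))) :=
    IsOpenImmersion.lift (Chow.chart N A k₀) (G.ι ≫ I.subschemeι) (by
      rintro _ ⟨γ, rfl⟩
      exact γ.2)
  have hl : l ≫ Chow.chart N A k₀ = G.ι ≫ I.subschemeι := IsOpenImmersion.lift_fac _ _ _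
  let φ : MvPolynomial (Fin (d j).n) A →+* Γ(G.toScheme, ⊤) :=
    Chow.specHom (l ≫ Spec.map (CommRingCat.ofHom θ))
  haveI : IsReduced G.toScheme := isReduced_of_isOpenImmersion G.ι
  have hvan : ∀ f ∈ (d j).fs, φ f = 0 := by
    intro f hf
    rw [← basicOpen_eq_bot_iff, ← preimage_basicOpen_specHom]
    refine Opens.ext (Set.eq_empty_of_forall_notMem fun γ₀ hγ₀ => ?_)
    let O := (l ≫ Spec.map (CommRingCat.ofHom θ)) ⁻¹ᵁ PrimeSpectrum.basicOpen f
    have hd : Dense (I.subschemeι.base ⁻¹' Set.range s.base) := fun w => by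
      rw [I.subschemeι.isEmbedding.isInducing.closure_eq_preimage_closure_image,
        Set.image_preimage_eq_inter_range, hr,
        Set.inter_eq_left.2 subset_closure, Set.mem_preimage, ← hr]
      exact Set.mem_range_self w
    obtain ⟨_, ⟨γ, hγ, rfl⟩, q, hq⟩ := hd.inter_open_nonempty (G.ι.base '' O)
      (G.ι.isOpenEmbedding.isOpenMap _ O.2) ⟨_, γ₀, hγ₀, rfl⟩
    let L' := (q : PrimeSpectrum B).asIdeal.ResidueField
    let π' : B →+* L' := algebraMap B L'
    have hπ'q : (Spec.map (CommRingCat.ofHom π')).base (closedPoint L') = q := by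
      refine PrimeSpectrum.ext ?_
      change Ideal.comap π' (maximalIdeal L') = _
      rw [IsLocalRing.maximalIdeal_eq_bot, ← RingHom.ker_eq_comap_bot]
      exact Ideal.ker_algebraMap_residueField _
    let ev' := eval₂Hom (π'.comp ρ) fun k => π' (w k)
    have hqk : π' (w k₀) ≠ 0 := by
      intro h0
      have h1 : q ∈ s ⁻¹ᵁ Ω := by
        change s.base q ∈ Ω
        rw [hq]
        exact γ.2
      rw [sp_preimage] at h1
      change evB (X k₀) ∉ (q : PrimeSpectrum B).asIdeal at h1
      rw [show evB (X k₀) = w k₀ from MvPolynomial.eval₂Hom_X' _ _ _] at h1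
      exact h1 (Ideal.algebraMap_residueField_eq_zero.1 h0)
    have hu' : IsUnit (ev' (X k₀)) := by
      simp only [ev', MvPolynomial.eval₂Hom_X']
      exact IsUnit.mk0 _ hqk
    let a' : Spec (CommRingCat.of L') ⟶
        Spec (CommRingCat.of (Away (CohB1.polyGrading N A) (X k₀))) :=
      Spec.map (CommRingCat.ofHom (Chow.away ev' (X k₀) hu'))
    have ha' : l.base γ = a'.base (closedPoint L') := by
      apply (Chow.chart N A k₀).isOpenEmbedding.injective
      rw [← Scheme.Hom.comp_apply, hl, Scheme.Hom.comp_apply, ← hq, ← congrArg s.base hπ'q,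
        ← Scheme.Hom.comp_apply, ← Scheme.Hom.comp_apply (f := a'), map_sp,
        sp_congr (MvPolynomial.comp_eval₂Hom ρ w π') i₀ _ (by simpa using (hw₀.map π').ne_zero),
        sp_eq_of_isUnit _ i₀ k₀ _ hu']
      rfl
    change l.base γ ∈ Spec.map (CommRingCat.ofHom θ) ⁻¹ᵁ PrimeSpectrum.basicOpen f at hγ
    rw [ha'] at hγ
    refine hγ ?_
    change Chow.away ev' (X k₀) hu' (θ f) ∈ maximalIdeal L'
    rw [IsLocalRing.maximalIdeal_eq_bot, Ideal.mem_bot]
    have hθ : (Chow.away ev' (X k₀) hu').comp θ =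
        eval₂Hom (π'.comp ρ) fun i => π' (ρ ((d j).a i)) / π' (ρ (d j).b) := by
      refine MvPolynomial.ringHom_ext (fun r => ?_) fun i => ?_
      · simp only [θ, RingHom.comp_apply, MvPolynomial.eval₂Hom_C]
        have := RingHom.congr_fun (Chow.away_scal ev' (X k₀) hu' (Chow.X_mem k₀)) r
        simpa [ev'] using this
      · simp only [θ, RingHom.comp_apply, MvPolynomial.eval₂Hom_X']
        rw [eq_div_iff ((hb j).map π').ne_zero]
        have h1 := away_dh_mul ev' k₀ (ks i) hu'
        simp only [ev', MvPolynomial.eval₂Hom_X', w, ks, k₀, Equiv.apply_symm_apply] at h1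
        have h2 := congrArg (fun r => π' (ρ r)) (hW c j (some i))
        simp only [map_mul, c, Function.update_self, val, Option.elim_none, Option.elim_some] at h2
        refine mul_left_cancel₀ (show π' (ρ (W c)) ≠ 0 by simpa [w, k₀] using hqk) ?_
        linear_combination π' (ρ (d j).b) * h1 + h2
    have h3 := map_homEval (π'.comp ρ) (d j).a (d j).b f ((hb j).map π').ne_zero
    rw [RingHom.comp_apply, hH j f hf, map_zero, zero_eq_mul] at h3
    rw [← RingHom.comp_apply, hθ]
    exact h3.resolve_left (pow_ne_zero _ ((hb j).map π').ne_zero)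
  have hspan : ∀ f ∈ Ideal.span ((d j).fs : Set (MvPolynomial (Fin (d j).n) A)), φ f = 0 :=
    fun f hf => RingHom.mem_ker.1
      (Ideal.span_le.2 (fun f' hf' => RingHom.mem_ker.2 (hvan f' hf')) hf)
  refine ⟨G.toScheme.toSpecΓ ≫ Spec.map (CommRingCat.ofHom (Ideal.Quotient.lift _ φ hspan)), ?_⟩
  rw [Category.assoc, ← Spec.map_comp, ← CommRingCat.ofHom_comp,
    show (Ideal.Quotient.lift _ φ hspan).comp (algebraMap A _) =
      φ.comp (algebraMap A (MvPolynomial (Fin (d j).n) A)) from RingHom.ext fun r => rfl,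
    CommRingCat.ofHom_comp, Spec.map_comp, ← Category.assoc, Chow.toSpecΓ_specHom, Category.assoc,
    ← Spec.map_comp, ← CommRingCat.ofHom_comp, ← reassoc_of% hl, Chow.chart_toSpec]
  congr 3
  exact RingHom.ext fun r => MvPolynomial.eval₂Hom_C _ _ r

/-- A family of finitely presented algebras through which all valuation rings over `A` factor is
refined by a proper surjective cover with an open cover. -/
theorem exists_refinement (good : Dat A → Prop)
    (h : ∀ (K : Type u) [Field K] (ρ : A →+* K) (R : ValuationSubring K), (∀ x, ρ x ∈ R) →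
      (∀ y : K, ∃ a b, ρ b ≠ 0 ∧ y = ρ a / ρ b) → ∃ d, good d ∧ Holds ρ R d) :
    ∃ (ι : Type u) (_ : Finite ι) (N : ι → ℕ) (Z : ι → Scheme.{u})
      (e : ∀ i, Z i ⟶ Chow.Pr (N i) A), (∀ i, IsClosedImmersion (e i)) ∧
      (∀ x : Spec (CommRingCat.of A), ∃ i, x ∈ Set.range (e i ≫ Chow.str (N i) A).base) ∧
      ∀ i (z : Z i), ∃ (G : (Z i).Opens) (d : Dat A), z ∈ G ∧ good d ∧ ∃ κ : G.toScheme ⟶
        Spec (CommRingCat.of (MvPolynomial (Fin d.n) A ⧸ Ideal.span (d.fs : Set (MvPolynomial (Fin d.n) A)))),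
        κ ≫ Spec.map (CommRingCat.ofHom (algebraMap A _)) = G.ι ≫ e i ≫ Chow.str (N i) A := by
  classical
  obtain ⟨s, hfin, hgood, hs⟩ := exists_finite_holds good h
  let E : Set A := ⋃ d ∈ s, insert d.b ((fun f => homEval d.a d.b f) '' (d.fs : Set _))
  have hE : E.Finite := hfin.biUnion fun d _ => (d.fs.finite_toSet.image _).insert _
  haveI := hE.to_subtype
  haveI := hfin.to_subtype
  let B : Set E → Type u := fun S =>
    Localization.Away (∏ x ∈ (Set.toFinite S).toFinset, (x : A)) ⧸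
      Ideal.span ((fun x : E => algebraMap A (Localization.Away (∏ x ∈ (Set.toFinite S).toFinset, (x : A))) (x : A)) '' Sᶜ)
  let ρ : ∀ S : Set E, A →+* B S := fun S => algebraMap A
    (Localization.Away (∏ x ∈ (Set.toFinite S).toFinset, (x : A)) ⧸
      Ideal.span ((fun x : E => algebraMap A (Localization.Away (∏ x ∈ (Set.toFinite S).toFinset, (x : A))) (x : A)) '' Sᶜ))
  have hu : ∀ S (x : E), x ∈ S → IsUnit (ρ S x) := fun S x hx => by
    have h1 : IsUnit (algebraMap A (Localization.Away (∏ x ∈ (Set.toFinite S).toFinset, (x : A)))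
        (x : A)) :=
      isUnit_of_dvd_unit (map_dvd _ (Finset.dvd_prod_of_mem _ ((Set.Finite.mem_toFinset _).2 hx)))
        (IsLocalization.Away.algebraMap_isUnit _)
    exact h1.map (Ideal.Quotient.mk _)
  have hz : ∀ S (x : E), x ∉ S → ρ S x = 0 := fun S x hx =>
    Ideal.Quotient.eq_zero_iff_mem.2 (Ideal.subset_span ⟨x, hx, rfl⟩)
  have hmemb : ∀ d ∈ s, d.b ∈ E := fun d hd => Set.mem_biUnion hd (Set.mem_insert _ _)
  have hmemH : ∀ d ∈ s, ∀ f ∈ d.fs, homEval d.a d.b f ∈ E := fun d hd f hf =>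
    Set.mem_biUnion hd (Set.mem_insert_of_mem _ ⟨f, hf, rfl⟩)
  let J : Set E → Type u := fun S => {d : s // (⟨d.1.b, hmemb _ d.2⟩ : E) ∈ S ∧
    ∀ f (hf : f ∈ d.1.fs), (⟨_, hmemH _ d.2 f hf⟩ : E) ∉ S}
  have hst : ∀ S, ∃ (N : ℕ) (Z : Scheme.{u}) (e : Z ⟶ Chow.Pr N A), IsClosedImmersion e ∧
      Set.range (Spec.map (CommRingCat.ofHom (ρ S))).base ⊆ Set.range (e ≫ Chow.str N A).base ∧
      ∀ z : Z, ∃ (G : Z.Opens) (j : J S), z ∈ G ∧ ∃ κ : G.toScheme ⟶
        Spec (CommRingCat.of (MvPolynomial (Fin j.1.1.n) A ⧸ Ideal.span (j.1.1.fs : Set (MvPolynomial (Fin j.1.1.n) A)))),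
        κ ≫ Spec.map (CommRingCat.ofHom (algebraMap A _)) = G.ι ≫ e ≫ Chow.str N A := by
    intro S
    refine exists_stratum (ρ S) (fun j : J S => j.1.1) (fun j => hu S _ j.2.1)
      (fun j f hf => hz S _ (j.2.2 f hf)) fun L _ π R hint => ?_
    obtain ⟨d, hd, hdb, hda, hdf⟩ := hs L (π.comp (ρ S)) R hint
    refine ⟨⟨⟨d, hd⟩, by_contra fun hn => hdb ?_, fun f hf hn => ?_⟩, hda⟩
    · have := hz S ⟨d.b, hmemb d hd⟩ hn
      simp [show ρ S d.b = 0 from this]
    · exact ((hu S _ hn).map π).ne_zero (hdf f hf)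
  choose N Z e he hrange hG using hst
  refine ⟨Set E, inferInstance, N, Z, e, he, fun x => ?_, fun S z => ?_⟩
  · let p : PrimeSpectrum A := x
    let S : Set E := {y | (y : A) ∉ p.asIdeal}
    let L := p.asIdeal.ResidueField
    have hP : IsUnit (algebraMap A L (∏ x ∈ (Set.toFinite S).toFinset, (x : A))) := by
      rw [map_prod]
      refine IsUnit.prod_iff.2 fun y hy => ?_
      rw [isUnit_iff_ne_zero, ne_eq, Ideal.algebraMap_residueField_eq_zero]
      exact (Set.Finite.mem_toFinset _).1 hy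
    let φ₀ : Localization.Away (∏ x ∈ (Set.toFinite S).toFinset, (x : A)) →+* L :=
      IsLocalization.Away.lift _ hP
    let φ : B S →+* L := Ideal.Quotient.lift _ φ₀ (fun y hy => RingHom.mem_ker.1
      (Ideal.span_le.2 (by
        rintro _ ⟨y, hy, rfl⟩
        simp only [SetLike.mem_coe, RingHom.mem_ker, φ₀, IsLocalization.Away.lift_eq,
          Ideal.algebraMap_residueField_eq_zero]
        exact Ideal.algebraMap_residueField_eq_zero.2 (not_not.1 hy)) hy))
    refine ⟨S, hrange S ⟨(Spec.map (CommRingCat.ofHom φ)).base (closedPoint L), ?_⟩⟩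
    refine PrimeSpectrum.ext ?_
    change Ideal.comap (ρ S) (Ideal.comap φ (maximalIdeal L)) = p.asIdeal
    rw [IsLocalRing.maximalIdeal_eq_bot]
    ext a
    simp only [Ideal.mem_comap, Ideal.mem_bot]
    rw [show φ (ρ S a) = algebraMap A L a from IsLocalization.Away.lift_eq _ hP a]
    exact Ideal.algebraMap_residueField_eq_zero
  · obtain ⟨G, j, hzG, κ, hκ⟩ := hG S z
    exact ⟨G, j.1.1, hzG, hgood _ j.1.2, κ, hκ⟩

end Groth.Agent.SGA1Desc.RZ
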