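import Mathlib

/-!
# Proper morphisms out of finite coproducts
-/

set_option autoImplicit false
set_option linter.style.haveILetI false

universe u

open CategoryTheory CategoryTheory.Limits AlgebraicGeometry Topology

namespace Groth.Agent.SGA1Desc

theorem isProper_coprodDesc {U V S : Scheme.{u}} (f : U ⟶ S) (g : V ⟶ S) [IsProper f] [IsProper g] :
    IsProper (coprod.desc f g) := by
  have e : coprod.desc f g = coprod.map f g ≫ coprod.desc (𝟙 S) (𝟙 S) := by
    apply coprod.hom_ext <;> simp
  rw [e]
  haveI : IsProper (coprod.map f g) :=
    IsZariskiLocalAtTarget.coprodMap f g ‹IsProper f› ‹IsProper g›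
  infer_instance

/-- A finite family of proper morphisms gives a proper morphism out of the coproduct. -/
theorem isProper_sigmaDesc : ∀ (α : Type u) [Finite α] {S : Scheme.{u}} (W : α → Scheme.{u})
    (f : ∀ i, W i ⟶ S), (∀ i, IsProper (f i)) → IsProper (Sigma.desc f) := by
  intro α _
  induction α using Finite.induction_empty_option with
  | of_equiv e ih =>
    intro S W f hf
    have h := ih (fun a => W (e a)) (fun a => f (e a)) (fun a => hf _)
    have : Sigma.desc (fun a => f (e a)) = (Sigma.reindex e W).hom ≫ Sigma.desc f := by
      refine Sigma.hom_ext _ _ fun a => ?_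
      rw [Sigma.ι_desc, ← Category.assoc]
      erw [Sigma.ι_reindex_hom, Sigma.ι_desc]
    rw [this] at h
    exact (MorphismProperty.cancel_left_of_respectsIso @IsProper _ _).1 h
  | h_empty =>
    intro S W f _
    have : IsEmpty ↥(∐ W) := by
      refine ⟨fun x => ?_⟩
      obtain ⟨⟨a, _⟩, _⟩ := (sigmaMk W).surjective x
      exact a.elim
    infer_instance
  | @h_option α _ ih =>
    intro S W f hf
    haveI := hf none
    haveI := ih (fun a => W (some a)) (fun a => f (some a)) (fun a => hf _)
    let c : ∐ W ⟶ W none ⨿ ∐ (fun a => W (some a)) :=
      Sigma.desc fun o => match o with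
        | none => coprod.inl
        | some a => Sigma.ι (fun a => W (some a)) a ≫ coprod.inr
    let d : W none ⨿ ∐ (fun a => W (some a)) ⟶ ∐ W :=
      coprod.desc (Sigma.ι W none) (Sigma.desc fun a => Sigma.ι W (some a))
    haveI : IsIso c := ⟨d,
      Sigma.hom_ext _ _ fun o => by
        cases o
        · simp [c, d]
          exact colimit.ι_desc _ _
        · simp [c, d]
          erw [coprod.inr_desc, Sigma.ι_desc],
      by
        apply coprod.hom_ext
        · simp [d]
          erw [coprod.inl_desc]
          simp [c]
        · simp [d]
          erw [coprod.inr_desc]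
          refine Sigma.hom_ext _ _ fun a => ?_
          simp [c]⟩
    have : Sigma.desc f = c ≫ coprod.desc (f none) (Sigma.desc fun a => f (some a)) := by
      refine Sigma.hom_ext _ _ fun o => ?_
      cases o
      · simp [c]
        exact (coprod.inl_desc _ _).symm
      · simp [c]
        erw [coprod.inr_desc, Sigma.ι_desc]
    rw [this]
    haveI := isProper_coprodDesc (f none) (Sigma.desc fun a => f (some a))
    infer_instance

end Groth.Agent.SGA1Desc
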