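import Mathlib
import Groth.Agent.SGA1Desc.LimEff
import Groth.Agent.SGA1Desc.Stalk
import Groth.Agent.SGA1Desc.EffDescend
import Groth.Agent.SGA1Desc.RZSpace
import Groth.Agent.SubtrLib.Submersive
import Groth.Agent.LimLib.FPSystem

/-!
# Étale effectiveness along universally subtrusive morphisms near a valuation

Over a valuation ring a universally subtrusive morphism has a section after a faithfully flat
extension, so descent data are effective there, hence over a finitely presented algebra.
-/

set_option autoImplicit false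
set_option linter.style.haveILetI false
set_option maxHeartbeats 800000
set_option backward.isDefEq.respectTransparency false

universe u

open CategoryTheory CategoryTheory.Limits AlgebraicGeometry Topology TopologicalSpace IsLocalRing
open Opposite

namespace Groth.Agent.SGA1Desc

variable {X S : Scheme.{u}} {g : X ⟶ S} (D : Desc.SchDD g)

/-- A datum is effective along a morphism which lifts to the source. -/
theorem exists_eff_of_section [Etale D.obj.hom] [IsSeparated D.obj.hom] [QuasiCompact D.obj.hom]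
    {T : Scheme.{u}} (j : T ⟶ S) (x : T ⟶ X) (hx : x ≫ g = j) :
    ∃ E : Eff D j, IsSeparated E.str ∧ QuasiCompact E.str := by
  let z := D.obj.hom
  let zg := z ≫ g
  obtain ⟨b, hb, hbX⟩ := exists_rel (D := D) (pullback.fst zg j) (pullback.snd zg j ≫ x)
    (by rw [Category.assoc, Category.assoc, hx]; exact pullback.condition)
  let q : pullback zg j ⟶ pullback z x := pullback.lift b (pullback.snd zg j) hbX
  have hq1 : q ≫ pullback.fst z x = b := pullback.lift_fst _ _ _
  have hq2 : q ≫ pullback.snd z x = pullback.snd zg j := pullback.lift_snd _ _ _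
  refine ⟨⟨pullback z x, pullback.snd z x, MorphismProperty.pullback_snd _ _ ‹Etale D.obj.hom›, q,
    hq2, IsPullback.mk' ?_ ?_ ?_, fun W a c hr hs => ?_⟩,
    MorphismProperty.pullback_snd _ _ ‹IsSeparated D.obj.hom›,
    MorphismProperty.pullback_snd _ _ ‹QuasiCompact D.obj.hom›⟩
  · rw [reassoc_of% hq2, Category.assoc, ← pullback.condition]
  · intro W φ ψ h1 h2
    have ht : φ ≫ pullback.snd zg j = ψ ≫ pullback.snd zg j := by
      rw [← hq2, reassoc_of% h1]
    refine pullback.hom_ext ?_ ht
    have r1 := rel_symm (rel_comp φ hb)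
    have r2 := rel_symm (rel_comp ψ hb)
    have e : φ ≫ b = ψ ≫ b := by rw [← hq1, reassoc_of% h1]
    rw [e] at r1
    exact rel_unique r1 r2 (by simpa only [Category.assoc] using h2)
  · intro W v x' hv
    obtain ⟨a, ha, haX⟩ := exists_rel (D := D) (v ≫ pullback.fst z x) x' (by
      rw [← hv, Category.assoc, Category.assoc, pullback.condition_assoc, hx])
    let w : W ⟶ pullback zg j := pullback.lift a (v ≫ pullback.snd z x) (by
      rw [← Category.assoc, haX, ← hv, Category.assoc])
    have hwb : w ≫ b = v ≫ pullback.fst z x := by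
      have h1 := rel_comp w hb
      rw [pullback.lift_fst] at h1
      refine rel_unique h1 (rel_symm ha) ?_
      rw [Category.assoc, hbX, pullback.lift_snd_assoc, Category.assoc, Category.assoc,
        pullback.condition]
    refine ⟨w, pullback.hom_ext ?_ ?_, ?_⟩
    · rw [Category.assoc, hq1, hwb]
    · rw [Category.assoc, hq2, pullback.lift_snd]
    · change w ≫ pullback.fst zg j ≫ z = x'
      rw [pullback.lift_fst_assoc, haX]
  · apply pullback.hom_ext
    · simp only [Category.assoc, hq1]
      refine rel_unique (rel_comp a hb) (rel_trans hr (rel_comp c hb)) ?_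
      simp only [Category.assoc, hbX]
      exact (reassoc_of% hs) x
    · simp only [Category.assoc, hq2]
      exact hs

/-- Universally subtrusive morphisms have sections over valuation rings after faithfully flat
extensions. -/
theorem exists_valuation_lift (hg : Subtr.UnivSSubtrusive g) {V : Type u} [CommRing V] [IsDomain V]
    [ValuationRing V] (q : Spec (CommRingCat.of V) ⟶ S) :
    ∃ (V' : Type u) (_ : CommRing V') (c : Spec (CommRingCat.of V') ⟶ Spec (CommRingCat.of V)),
      Flat c ∧ Surjective c ∧ QuasiCompact c ∧ ∃ x, x ≫ g = c ≫ q := by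
  have h := hg _ _ _ (IsPullback.of_hasPullback g q).flip
  obtain ⟨y, y', hy, hy1, hy2⟩ := h (SubtrLib.gen_specializes (closedPoint V))
  obtain ⟨V', _, _, _, x', hx1, hx2⟩ := SubtrLib.exists_valuationRing_of_specializes hy
  let c := x' ≫ pullback.snd g q
  obtain ⟨φ, hφ⟩ : ∃ φ, Spec.map φ = c := ⟨_, Spec.map_preimage c⟩
  have hc1 : c.base (closedPoint V') = closedPoint V := by
    rw [Scheme.Hom.comp_apply, hx1, hy1]
  have hc2 : c.base (SubtrLib.gen V') = SubtrLib.gen V := by
    rw [Scheme.Hom.comp_apply, hx2, hy2]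
  haveI : IsLocalHom φ.hom := ⟨fun a ha => by
    by_contra hna
    have hmem : a ∈ (closedPoint V : PrimeSpectrum V).asIdeal := hna
    rw [← hc1, ← hφ] at hmem
    exact hmem ha⟩
  have hinj : Function.Injective φ.hom := by
    refine (injective_iff_map_eq_zero _).2 fun a ha => ?_
    have hmem : a ∈ (Spec.map φ (SubtrLib.gen V') : PrimeSpectrum V).asIdeal := by
      change φ.hom a ∈ (⊥ : Ideal V')
      exact ha
    rw [hφ, hc2] at hmem
    exact hmem
  haveI : Flat c := by
    rw [← hφ, Flat.SpecMap_iff]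
    algebraize [φ.hom]
    haveI : Module.IsTorsionFree V V' := Module.isTorsionFree_iff_algebraMap_injective.2 hinj
    change Module.Flat V V'
    rw [Module.Flat.flat_iff_torsion_eq_bot_of_isBezout,
      ← Submodule.isTorsionFree_iff_torsion_eq_bot]
    infer_instance
  haveI : Surjective c := by
    rw [← hφ]
    exact ⟨SubtrLib.comap_surjective φ.hom hinj⟩
  haveI : QuasiCompact c := quasiCompact_of_compactSpace c
  exact ⟨V', inferInstance, c, ‹_›, ‹_›, ‹_›, x' ≫ pullback.fst g q, by
    simp only [c, Category.assoc, pullback.condition]⟩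

/-- Descent data along universally subtrusive morphisms are effective over valuation rings. -/
theorem exists_eff_of_valuationRing (hgu : SGA1.UnivSubmersive g) (hg : Subtr.UnivSSubtrusive g)
    [Etale D.obj.hom] [IsSeparated D.obj.hom] [QuasiCompact D.obj.hom]
    {V : Type u} [CommRing V] [IsDomain V] [ValuationRing V] (q : Spec (CommRingCat.of V) ⟶ S) :
    Nonempty (Eff D q) := by
  obtain ⟨V', _, c, _, _, _, x, hx⟩ := exists_valuation_lift hg q
  obtain ⟨E, hs, hc⟩ := exists_eff_of_section D (c ≫ q) x hx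
  obtain ⟨E', -, -⟩ := exists_eff_descend' hgu E
  exact ⟨E'⟩

section nbhd

variable {A : Type u} [CommRing A] {X : Scheme.{u}} {g : X ⟶ Spec (CommRingCat.of A)}
  (D : Desc.SchDD g)

/-- The algebra of finite data. -/
noncomputable abbrev datMap (d : RZ.Dat A) :
    Spec (CommRingCat.of (MvPolynomial (Fin d.n) A ⧸
      Ideal.span (d.fs : Set (MvPolynomial (Fin d.n) A)))) ⟶ Spec (CommRingCat.of A) :=
  Spec.map (CommRingCat.ofHom (algebraMap A (MvPolynomial (Fin d.n) A ⧸
    Ideal.span (d.fs : Set (MvPolynomial (Fin d.n) A)))))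

/-- Near a valuation, effectiveness holds over a finitely presented algebra. -/
theorem exists_dat (hgu : SGA1.UnivSubmersive g) (hg : Subtr.UnivSSubtrusive g) [QuasiCompact g]
    [QuasiSeparated g] [Etale D.obj.hom] [IsSeparated D.obj.hom] [QuasiCompact D.obj.hom]
    (K : Type u) [Field K] (ρ : A →+* K) (R : ValuationSubring K) (hint : ∀ x, ρ x ∈ R)
    (hfrac : ∀ y : K, ∃ a b, ρ b ≠ 0 ∧ y = ρ a / ρ b) :
    ∃ d : RZ.Dat A, Nonempty (Eff D (datMap d)) ∧ RZ.Holds ρ R d := by
  classical
  let ρR : A →+* R := ρ.codRestrict R.toSubring hint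
  let f : Spec (CommRingCat.of R) ⟶ Spec (CommRingCat.of A) := Spec.map (CommRingCat.ofHom ρR)
  obtain ⟨E⟩ := exists_eff_of_valuationRing D hgu hg f
  haveI := E.compactSpace_base hgu
  haveI := E.quasiSeparatedSpace_base hgu
  obtain ⟨P⟩ := LimLib.nonempty_fpSystem f
  obtain ⟨hc⟩ := LimLib.isLimitForget P.isLimit.some
  obtain ⟨α, ⟨Eα⟩⟩ := exists_eff_stage D hc (fun i => (P.D.obj i).hom)
    (fun a => Over.w (P.D.map a)) (fun i => Over.w (P.π.app i)) E
  let Xα := (P.D.obj α).left
  let p : Spec (CommRingCat.of R) ⟶ Xα := (P.π.app α).left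
  obtain ⟨_, ⟨U, hU, rfl⟩, hpU, -⟩ := Xα.isBasis_affineOpens.exists_subset_of_mem_open
    (Set.mem_univ (p.base (closedPoint R))) isOpen_univ
  have hrange : Set.range p.base ⊆ Set.range hU.fromSpec.base := by
    rw [IsAffineOpen.range_fromSpec]
    rintro _ ⟨t, rfl⟩
    exact ((IsLocalRing.specializes_closedPoint t).map p.continuous).mem_open U.2 hpU
  obtain ⟨χ, hχ⟩ : ∃ χ, Spec.map χ = IsOpenImmersion.lift hU.fromSpec p hrange :=
    ⟨_, Spec.map_preimage _⟩
  obtain ⟨θ, hθ⟩ : ∃ θ, Spec.map θ = hU.fromSpec ≫ (P.D.obj α).hom := ⟨_, Spec.map_preimage _⟩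
  have hθχ : θ ≫ χ = CommRingCat.ofHom ρR := by
    apply Spec.map_injective
    rw [Spec.map_comp, hθ, hχ, IsOpenImmersion.lift_fac_assoc]
    exact Over.w (P.π.app α)
  let B : Type u := Γ(Xα, U)
  haveI : LocallyOfFinitePresentation (hU.fromSpec ≫ (P.D.obj α).hom) := by
    haveI := P.lfp α
    infer_instance
  have hfp : θ.hom.FinitePresentation := by
    rw [← LocallyOfFinitePresentation.SpecMap_iff, hθ]
    infer_instance
  obtain ⟨EB⟩ : Nonempty (Eff D (Spec.map θ)) := ⟨Eα.pull hU.fromSpec _ hθ.symm⟩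
  algebraize [θ.hom]
  obtain ⟨n, π, hπ, hker⟩ := Algebra.FinitePresentation.out (R := A) (A := Γ(Xα, U))
  obtain ⟨fs, hfs⟩ := hker
  let y : Fin n → K := fun i => (χ.hom (π (MvPolynomial.X i)) : R)
  choose num den hden hy using fun i => hfrac (y i)
  let b := ∏ i, den i
  let a : Fin n → A := fun i => num i * ∏ j ∈ Finset.univ.erase i, den j
  have hb : ρ b ≠ 0 := by
    rw [map_prod]
    exact Finset.prod_ne_zero_iff.2 fun i _ => hden i
  have hratio : ∀ i, ρ (a i) / ρ b = y i := fun i => by
    rw [hy i, div_eq_div_iff hb (hden i)]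
    simp only [a, b, map_mul, map_prod]
    rw [← Finset.mul_prod_erase Finset.univ (fun j => ρ (den j)) (Finset.mem_univ i)]
    ring
  refine ⟨⟨n, a, b, fs⟩, ?_, hb, fun i => ?_, fun p hp => ?_⟩
  · let e : (MvPolynomial (Fin n) A ⧸ Ideal.span (fs : Set (MvPolynomial (Fin n) A))) ≃ₐ[A]
        Γ(Xα, U) :=
      (Ideal.quotientEquivAlgOfEq A hfs).trans
        (Ideal.quotientKerAlgEquivOfSurjective hπ)
    refine ⟨EB.pull (Spec.map (CommRingCat.ofHom e.symm.toAlgHom.toRingHom)) _ ?_⟩
    rw [← Spec.map_comp]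
    congr 1
    ext r
    exact e.symm.commutes r
  · rw [hratio]
    exact (χ.hom (π (MvPolynomial.X i))).2
  · rw [RZ.map_homEval ρ a b p hb, show (fun i => ρ (a i) / ρ b) = y from funext hratio]
    have h0 : π p = 0 := RingHom.mem_ker.1 (hfs.le (Ideal.subset_span hp))
    have h1 : (R.subtype.comp (χ.hom.comp π.toRingHom)) = MvPolynomial.eval₂Hom ρ y := by
      refine MvPolynomial.ringHom_ext (fun r => ?_) fun i => ?_
      · simp only [RingHom.comp_apply, MvPolynomial.eval₂Hom_C]
        have h2 := congrArg (fun φ : CommRingCat.of A ⟶ CommRingCat.of R => (φ.hom r : K)) hθχ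
        refine Eq.trans ?_ h2
        change (χ.hom (π (MvPolynomial.C r)) : K) = χ.hom (θ.hom r)
        rw [← MvPolynomial.algebraMap_eq, AlgHom.commutes]
        rfl
      · simp only [RingHom.comp_apply, MvPolynomial.eval₂Hom_X']
        rfl
    have h2 : MvPolynomial.eval₂ ρ y p = 0 := by
      rw [← MvPolynomial.coe_eval₂Hom, ← h1]
      simp only [RingHom.comp_apply]
      change R.subtype (χ.hom (π p)) = 0
      rw [h0, map_zero, map_zero]
    rw [h2, mul_zero]

end nbhd

end Groth.Agent.SGA1Desc
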