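import Mathlib
import Groth.Agent.SGA1Desc.SubtrVal
import Groth.Agent.SGA1Desc.RZCover
import Groth.Agent.SGA1Desc.ProperDescend
import Groth.Agent.SGA1Desc.QuasiFiniteEff
import Groth.Agent.SGA1Desc.SigmaProper
import Groth.Agent.LimLib.ClosedApprox
import Groth.Agent.ProperFin.PnBase
import Groth.Agent.MonoVal.Immersion
import Groth.Agent.SubtrLib.Val
import Groth.Agent.ProjProper.Basic

/-!
# Effective descent of étale separated morphisms along universally subtrusive morphisms
-/

set_option autoImplicit false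
set_option linter.style.haveILetI false
set_option maxHeartbeats 800000
set_option backward.isDefEq.respectTransparency false

universe u

open CategoryTheory CategoryTheory.Limits AlgebraicGeometry Topology TopologicalSpace
open Opposite

namespace Groth.Agent.SGA1Desc

/-- Projective space is of finite presentation over the base. -/
theorem lfp_str (n : ℕ) (R : Type u) [CommRing R] :
    LocallyOfFinitePresentation (Chow.str n R) := by
  let φ : ULift.{u} ℤ →+* R := (Int.castRingHom R).comp ULift.ringEquiv.toRingHom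
  have : IsNoetherianRing (ULift.{u} ℤ) :=
    isNoetherianRing_of_ringEquiv ℤ ULift.ringEquiv.symm
  have := ProjProper.Basic.isProper_toSpec n (ULift.{u} ℤ)
  exact MorphismProperty.of_isPullback (P := @LocallyOfFinitePresentation)
    (ProperFin.isPullback_pnMap n φ) (MonoVal.locallyOfFinitePresentation_of_lft _)

/-- A scheme proper over a quasi-compact quasi-separated one is quasi-compact, quasi-separated. -/
theorem qcqs_of_isProper {X Y : Scheme.{u}} (f : X ⟶ Y) [IsProper f] [CompactSpace Y]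
    [QuasiSeparatedSpace Y] : CompactSpace X ∧ QuasiSeparatedSpace X :=
  ⟨QuasiCompact.compactSpace_of_compactSpace f, quasiSeparatedSpace_of_quasiSeparated f⟩

/-- Effectiveness after a base change is local on the new base. -/
theorem exists_eff_of_openCover_base {X S T : Scheme.{u}} {g : X ⟶ S} (D : Desc.SchDD g)
    [Etale D.obj.hom] (hg : SGA1.UnivSubmersive g) (j : T ⟶ S)
    (h : ∀ t : T, ∃ V : T.Opens, t ∈ V ∧ Nonempty (Eff D (V.ι ≫ j))) : Nonempty (Eff D j) := by
  let g' := pullback.snd g j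
  have hg' : SGA1.UnivSubmersive g' :=
    (MorphismProperty.universally_isStableUnderBaseChange _).of_isPullback
      (IsPullback.of_hasPullback g j) hg
  let D' := pullDatum D g' (pullback.fst g j) j pullback.condition
  obtain ⟨E⟩ := exists_eff_of_openCover D' hg' fun t => by
    obtain ⟨V, ht, ⟨EV⟩⟩ := h t
    exact ⟨V, ht, Eff.exists_pullDatum D g' (pullback.fst g j) j pullback.condition EV⟩
  obtain ⟨E'⟩ := exists_eff_of_pullDatum D g' (pullback.fst g j) j pullback.condition hg' E
  exact ⟨E'.pull (𝟙 T) j (by simp)⟩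

/-- Effective descent along universally subtrusive quasi-compact quasi-separated morphisms onto
affine schemes. -/
theorem exists_eff_affine {A : Type u} [CommRing A] {X : Scheme.{u}}
    {g : X ⟶ Spec (CommRingCat.of A)} (D : Desc.SchDD g) (hg : Subtr.UnivSSubtrusive g)
    [QuasiCompact g] [QuasiSeparated g] [Etale D.obj.hom] [IsSeparated D.obj.hom]
    [QuasiCompact D.obj.hom] : Nonempty (Eff D (𝟙 _)) := by
  classical
  have hgu := SubtrLib.univSubmersive_of_univSSubtrusive g hg
  obtain ⟨ι, _, N, Z, e, he, hsurj, hG⟩ := RZ.exists_refinement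
    (fun d => Nonempty (Eff D (datMap d))) (fun K _ ρ R hint hfrac =>
      exists_dat D hgu hg K ρ R hint hfrac)
  have hstage : ∀ i, ∃ (J : (Chow.Pr (N i) A).IdealSheafData),
      (∀ U, (J.ideal U).FG) ∧ Nonempty (Eff D (J.subschemeι ≫ Chow.str (N i) A)) ∧
        Set.range (e i).base ⊆ Set.range J.subschemeι.base := by
    intro i
    haveI := he i
    let str := Chow.str (N i) A
    obtain ⟨hP1, hP2⟩ := @qcqs_of_isProper _ _ str (ProjProper.Basic.isProper_toSpec (N i) A) _ _
    obtain ⟨EZ⟩ := exists_eff_of_openCover_base D hgu (e i ≫ str) fun z => by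
      obtain ⟨G, d, hzG, ⟨Ed⟩, κ, hκ⟩ := hG i z
      exact ⟨G, hzG, ⟨Ed.pull κ _ hκ⟩⟩
    haveI : CompactSpace (Z i) := QuasiCompact.compactSpace_of_compactSpace (e i)
    haveI : QuasiSeparatedSpace (Z i) := quasiSeparatedSpace_of_quasiSeparated (e i)
    haveI := EZ.compactSpace_base hgu
    haveI := EZ.quasiSeparatedSpace_base hgu
    obtain ⟨Jx, _, _, _, F, hF, hsup⟩ := LimLib.exists_iSup_fg_eq (e i).ker
    let Dg := LimLib.idealDiagram F ⋙ Over.forget _
    obtain ⟨hc⟩ := LimLib.isLimitForget (LimLib.isLimitIdealCone F (e i) hsup)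
    haveI : ∀ (a b : Jxᵒᵖ) (f : a ⟶ b), IsAffineHom (Dg.map f) := fun a b f =>
      inferInstanceAs (IsAffineHom ((LimLib.idealDiagram F).map f).left)
    haveI : ∀ a, CompactSpace (Dg.obj a) := fun a =>
      QuasiCompact.compactSpace_of_compactSpace (F a.unop).subschemeι
    haveI : ∀ a, QuasiSeparatedSpace (Dg.obj a) := fun a =>
      quasiSeparatedSpace_of_quasiSeparated (F a.unop).subschemeι
    obtain ⟨a, hE⟩ := exists_eff_stage D hc (fun a => (F a.unop).subschemeι ≫ str)
      (fun {a b} f => by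
        rw [← Category.assoc]
        exact congrArg (· ≫ str) (Over.w ((LimLib.idealDiagram F).map f)))
      (fun a => by
        rw [← Category.assoc]
        exact congrArg (· ≫ str) (Over.w ((LimLib.idealCone F (e i) hsup).π.app a))) EZ
    refine ⟨F a.unop, hF _, hE, ?_⟩
    rintro _ ⟨z, rfl⟩
    exact ⟨(IsClosedImmersion.lift (F a.unop).subschemeι (e i) (by
        rw [Scheme.IdealSheafData.ker_subschemeι, ← hsup]; exact le_iSup F a.unop)).base z,
      by rw [← Scheme.Hom.comp_apply, IsClosedImmersion.lift_fac]⟩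
  choose J hJ hE hrange using hstage
  let P : ι → Scheme.{u} := fun i => (J i).subscheme
  let π : ∀ i, P i ⟶ Spec (CommRingCat.of A) := fun i =>
    (J i).subschemeι ≫ Chow.str (N i) A
  haveI hprop : ∀ i, IsProper (π i) := fun i => by
    haveI : IsProper (Chow.str (N i) A) := ProjProper.Basic.isProper_toSpec (N i) A
    exact inferInstanceAs (IsProper ((J i).subschemeι ≫ Chow.str (N i) A))
  haveI hlfp : ∀ i, LocallyOfFinitePresentation (π i) := fun i => by
    haveI : LocallyOfFinitePresentation (Chow.str (N i) A) := lfp_str (N i) A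
    haveI : LocallyOfFinitePresentation (J i).subschemeι :=
      (LimLib.lfp_subschemeι_iff _).2 (hJ i)
    exact inferInstanceAs (LocallyOfFinitePresentation ((J i).subschemeι ≫ Chow.str (N i) A))
  let c : (∐ P) ⟶ Spec (CommRingCat.of A) := Sigma.desc π
  haveI : IsProper c := isProper_sigmaDesc ι P π hprop
  haveI : LocallyOfFinitePresentation c := IsZariskiLocalAtSource.sigmaDesc hlfp
  haveI : Surjective c := ⟨fun x => by
    obtain ⟨i, z, hz⟩ := hsurj x
    obtain ⟨w, hw⟩ := hrange i ⟨z, rfl⟩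
    refine ⟨(Sigma.ι P i).base w, ?_⟩
    rw [← Scheme.Hom.comp_apply, Sigma.ι_desc, Scheme.Hom.comp_apply, hw,
      ← Scheme.Hom.comp_apply]
    exact hz⟩
  obtain ⟨hC1, hC2⟩ := qcqs_of_isProper c
  have hloc : ∀ i : ι, Nonempty (Eff D ((Sigma.ι P i).opensRange.ι ≫ c ≫ 𝟙 _)) := fun i => by
    obtain ⟨Ei⟩ := hE i
    refine ⟨Ei.pull (Sigma.ι P i).isoOpensRange.inv _ ((Iso.inv_comp_eq _).2 ?_)⟩
    simp only [Category.comp_id, Scheme.Hom.isoOpensRange_hom_ι_assoc, c, Sigma.ι_desc, π]
  obtain ⟨E⟩ := exists_eff_of_openCover_base D hgu (c ≫ 𝟙 _) fun x => by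
    obtain ⟨i, w, rfl⟩ := (sigmaOpenCover P).exists_eq x
    exact ⟨(Sigma.ι P i).opensRange, ⟨w, rfl⟩, hloc i⟩
  haveI := E.isSeparated_str hgu
  haveI : QuasiCompact E.str := by
    haveI := E.compactSpace_base hgu
    exact quasiCompact_of_compactSpace E.str
  exact exists_eff_descend_proper hgu E

/-- Effective descent of étale separated quasi-compact schemes along quasi-compact universally
subtrusive morphisms. -/
theorem exists_eff_of_univSSubtrusive {S X : Scheme.{u}} {g : X ⟶ S} (D : Desc.SchDD g)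
    (hg : Subtr.UnivSSubtrusive g) [QuasiCompact g] [Etale D.obj.hom] [IsSeparated D.obj.hom]
    [QuasiCompact D.obj.hom] : Nonempty (Eff D (𝟙 S)) := by
  have hgu := SubtrLib.univSubmersive_of_univSSubtrusive g hg
  refine exists_eff_of_openCover D hgu fun s => ?_
  obtain ⟨V, hV, hs, -⟩ := S.isBasis_affineOpens.exists_subset_of_mem_open
    (Set.mem_univ s) isOpen_univ
  obtain ⟨V, hVa, rfl⟩ := hV
  refine ⟨V, hs, ?_⟩
  let A : Type u := Γ(S, V)
  let j : Spec (CommRingCat.of A) ⟶ S := hVa.fromSpec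
  let X₁ := pullback g j
  let g₁ : X₁ ⟶ Spec (CommRingCat.of A) := pullback.snd g j
  have hg₁ : Subtr.UnivSSubtrusive g₁ :=
    (MorphismProperty.universally_isStableUnderBaseChange _).of_isPullback
      (IsPullback.of_hasPullback g j) hg
  haveI : CompactSpace X₁ := QuasiCompact.compactSpace_of_compactSpace g₁
  let 𝒰 := X₁.affineCover.finiteSubcover
  haveI : ∀ i, IsAffine (𝒰.X i) := fun i => by dsimp [𝒰]; infer_instance
  let c : (∐ fun i => 𝒰.X i) ⟶ X₁ := Sigma.desc fun i => 𝒰.f i
  haveI : Surjective c := ⟨fun x => by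
    obtain ⟨w, hw⟩ := 𝒰.covers x
    refine ⟨(Sigma.ι (fun i => 𝒰.X i) (𝒰.idx x)).base w, ?_⟩
    rw [← Scheme.Hom.comp_apply, Sigma.ι_desc]
    exact hw⟩
  haveI : Flat c := IsZariskiLocalAtSource.sigmaDesc fun i => inferInstance
  have hc : Subtr.UnivSSubtrusive c := SubtrLib.univSSubtrusive_of_flat_surjective c
  haveI : MorphismProperty.IsStableUnderComposition
      (fun (X Y : Scheme.{u}) (f : X ⟶ Y) => Subtr.IsSSubtrusive f) :=
    ⟨fun f f' hf hf' y y' hy => by
      obtain ⟨x, x', hx, rfl, rfl⟩ := hf' hy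
      obtain ⟨w, w', hw, rfl, rfl⟩ := hf hx
      exact ⟨w, w', hw, rfl, rfl⟩⟩
  let g₂ := c ≫ g₁
  have hg₂ : Subtr.UnivSSubtrusive g₂ :=
    (MorphismProperty.IsStableUnderComposition.universally
      (fun (X Y : Scheme.{u}) (f : X ⟶ Y) => Subtr.IsSSubtrusive f)).comp_mem c g₁ hc hg₁
  haveI : IsAffine (∐ fun i => 𝒰.X i) := inferInstance
  haveI : QuasiCompact g₂ := quasiCompact_of_compactSpace g₂
  haveI : QuasiSeparated g₂ := QuasiSeparated.of_quasiSeparatedSpace g₂
  let D₂ := pullDatum D g₂ (c ≫ pullback.fst g j) j (by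
    simp only [g₂, g₁, Category.assoc, pullback.condition])
  haveI : QuasiCompact D₂.obj.hom := MorphismProperty.pullback_snd _ _ ‹QuasiCompact D.obj.hom›
  haveI : IsSeparated D₂.obj.hom := MorphismProperty.pullback_snd _ _ ‹IsSeparated D.obj.hom›
  haveI : Etale D₂.obj.hom := MorphismProperty.pullback_snd _ _ ‹Etale D.obj.hom›
  obtain ⟨E₂⟩ := exists_eff_affine D₂ hg₂
  obtain ⟨E⟩ := exists_eff_of_pullDatum D g₂ (c ≫ pullback.fst g j) j _
    (SubtrLib.univSubmersive_of_univSSubtrusive g₂ hg₂) E₂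
  exact ⟨E.pull hVa.isoSpec.hom _ (by
    rw [Category.id_comp]; exact hVa.isoSpec_hom_fromSpec)⟩

end Groth.Agent.SGA1Desc
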