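import Mathlib
import Groth.Agent.SGA1Desc.Piece
import Groth.Agent.AlgSp.DescentAlg
import Groth.Agent.AlgSp.DescentAffine

/-!
# Descent of the affine pieces of a descent datum
-/

set_option autoImplicit false
set_option linter.style.haveILetI false
set_option maxHeartbeats 800000
set_option backward.isDefEq.respectTransparency false

universe u

open CategoryTheory CategoryTheory.Limits AlgebraicGeometry Topology TopologicalSpace
open scoped TensorProduct
open Groth.Agent.AlgSp (isPullback_tensor specMap_algHom_comp bijective_lift_equalizer)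

namespace Groth.Agent.SGA1Desc

variable {X S : Scheme.{u}} {p : X ⟶ S} [Flat p] (D : Desc.SchDD p)

/-- A stable affine open lying over an affine open of the base with affine preimage descends. -/
theorem exists_piece_of_affine {U₀ : S.Opens} (hU : IsAffineOpen U₀)
    (hX : IsAffineOpen (p ⁻¹ᵁ U₀)) {W : D.obj.left.Opens} (hW : IsAffineOpen W)
    (hs : Stable D W) (hle : W ≤ D.obj.hom ⁻¹ᵁ (p ⁻¹ᵁ U₀)) : Nonempty (Piece D W) := by
  let A := Γ(S, U₀)
  let A' := Γ(X, p ⁻¹ᵁ U₀)
  let B' := Γ(D.obj.left, W)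
  let α : A' →+* B' := (D.obj.hom.appLE (p ⁻¹ᵁ U₀) W hle).hom
  letI : Algebra A A' := (p.app U₀).hom.toAlgebra
  letI : Algebra A' B' := α.toAlgebra
  letI : Algebra A B' := (α.comp (p.app U₀).hom).toAlgebra
  haveI : IsScalarTower A A' B' := IsScalarTower.of_algebraMap_eq fun _ => rfl
  haveI : Module.Flat A A' := by
    have := p.flat_appLE hU hX le_rfl
    rw [← Scheme.Hom.app_eq_appLE] at this
    exact this
  let jS := hU.fromSpec
  let jX := hX.fromSpec
  let jW := hW.fromSpec
  have hjX : jX ≫ p = Spec.map (CommRingCat.ofHom (algebraMap A A')) ≫ jS := by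
    refine (IsAffineOpen.SpecMap_appLE_fromSpec p hU hX le_rfl).symm.trans ?_
    rw [← Scheme.Hom.app_eq_appLE]
    rfl
  have hjW : jW ≫ D.obj.hom = Spec.map (CommRingCat.ofHom (algebraMap A' B')) ≫ jX :=
    (IsAffineOpen.SpecMap_appLE_fromSpec D.obj.hom hX hW hle).symm
  have hsqp : IsPullback (Spec.map (CommRingCat.ofHom (algebraMap A A'))) jX jS p :=
    IsOpenImmersion.isPullback _ _ _ _ hjX
      (by rw [IsAffineOpen.opensRange_fromSpec, IsAffineOpen.opensRange_fromSpec])
  let sp {C E : Type u} [CommRing C] [Algebra A C] [CommRing E] [Algebra A E] (f : C →ₐ[A] E) :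
      Spec (CommRingCat.of E) ⟶ Spec (CommRingCat.of C) :=
    Spec.map (CommRingCat.ofHom f.toRingHom)
  have sp_comp {C E F : Type u} [CommRing C] [Algebra A C] [CommRing E] [Algebra A E] [CommRing F]
      [Algebra A F] (f : C →ₐ[A] E) (g : E →ₐ[A] F) : sp g ≫ sp f = sp (g.comp f) :=
    (Spec.map_comp _ _).symm
  have sp_id {C : Type u} [CommRing C] [Algebra A C] : sp (AlgHom.id A C) = 𝟙 _ := Spec.map_id _
  let α' : A' →ₐ[A] B' := IsScalarTower.toAlgHom A A' B'
  let ι : B' →ₐ[A] A' ⊗[A] B' := Algebra.TensorProduct.includeRight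
  let inl : A' →ₐ[A] A' ⊗[A] B' := Algebra.TensorProduct.includeLeft
  let μ : A' ⊗[A] B' →ₐ[A] B' :=
    Algebra.TensorProduct.lift α' (AlgHom.id A B') (fun _ _ => Commute.all _ _)
  have hjW' : jW ≫ D.obj.hom = sp α' ≫ jX := hjW
  have htens : IsPullback (sp inl) (sp ι) (Spec.map (CommRingCat.ofHom (algebraMap A A')))
      (Spec.map (CommRingCat.ofHom (algebraMap A B'))) := isPullback_tensor A A' B'
  have hinlA : sp inl ≫ Spec.map (CommRingCat.ofHom (algebraMap A A')) =
      Spec.map (CommRingCat.ofHom (algebraMap A (A' ⊗[A] B'))) := specMap_algHom_comp inl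
  have hιA : sp ι ≫ sp α' ≫ Spec.map (CommRingCat.ofHom (algebraMap A A')) =
      Spec.map (CommRingCat.ofHom (algebraMap A (A' ⊗[A] B'))) := by
    rw [← Category.assoc, sp_comp]
    exact specMap_algHom_comp (ι.comp α')
  have hcond : ((sp ι ≫ jW) ≫ D.obj.hom) ≫ p = (sp inl ≫ jX) ≫ p := by
    simp only [Category.assoc, reassoc_of% hjW', hjX, reassoc_of% hinlA, reassoc_of% hιA]
  obtain ⟨b₀, hb₀, hb₀X⟩ := exists_rel (D := D) (sp ι ≫ jW) (sp inl ≫ jX) hcond
  have hb₀r : Set.range b₀.base ⊆ Set.range jW.base := by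
    rintro _ ⟨t, rfl⟩
    rw [IsAffineOpen.range_fromSpec]
    refine hs _ _ hb₀ (show (sp ι ≫ jW).base t ∈ W from ?_)
    rw [← SetLike.mem_coe, ← hW.range_fromSpec]
    exact ⟨_, rfl⟩
  obtain ⟨θ₀, hθ₀⟩ := Spec.map_surjective (IsOpenImmersion.lift jW b₀ hb₀r)
  have hθ₀' : Spec.map θ₀ ≫ jW = b₀ := by rw [hθ₀, IsOpenImmersion.lift_fac]
  have hθalg : ∀ a : A', θ₀.hom (algebraMap A' B' a) = a ⊗ₜ 1 := by
    intro a
    have h1 : Spec.map θ₀ ≫ sp α' = sp inl := by
      rw [← cancel_mono jX, Category.assoc, ← hjW', reassoc_of% hθ₀', hb₀X]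
    have h2 : Spec.map (CommRingCat.ofHom α'.toRingHom ≫ θ₀) =
        Spec.map (CommRingCat.ofHom inl.toRingHom) := by
      rw [Spec.map_comp]; exact h1
    exact RingHom.congr_fun (congrArg CommRingCat.Hom.hom (Spec.map_injective h2)) a
  let θ : B' →ₐ[A] A' ⊗[A] B' :=
    { θ₀.hom with
      commutes' := fun r => by
        change θ₀.hom (algebraMap A B' r) = _
        rw [IsScalarTower.algebraMap_apply A A' B', hθalg]
        rfl }
  have hθ' : sp θ ≫ jW = b₀ := hθ₀'
  have hrel : Rel D (sp ι ≫ jW) (sp θ ≫ jW) := hθ'.symm ▸ hb₀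
  have hθX : (sp θ ≫ jW) ≫ D.obj.hom = sp inl ≫ jX := by rw [hθ']; exact hb₀X
  have hunit : μ.comp θ = AlgHom.id A B' := by
    have h1 : sp μ ≫ sp θ ≫ jW = jW := by
      refine rel_unique (a := sp μ ≫ sp ι ≫ jW) (rel_comp _ hrel) ?_ ?_
      · rw [← Category.assoc, sp_comp,
          show μ.comp ι = AlgHom.id A B' from AlgHom.ext fun b => by simp [μ, ι], sp_id,
          Category.id_comp]
        exact rel_refl _
      · rw [Category.assoc, hθX, ← Category.assoc, sp_comp,
          show μ.comp inl = α' from AlgHom.ext fun a => by simp [μ, inl], hjW']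
    have h2 : sp (μ.comp θ) = sp (AlgHom.id A B') := by
      rw [← cancel_mono jW, ← sp_comp, Category.assoc, h1, sp_id, Category.id_comp]
    exact AlgHom.ext fun b =>
      RingHom.congr_fun (congrArg CommRingCat.Hom.hom (Spec.map_injective h2)) b
  have hcocycle : (Algebra.TensorProduct.map (AlgHom.id A A') θ).comp θ =
      (Algebra.TensorProduct.map (AlgHom.id A A') ι).comp θ := by
    let mθ := Algebra.TensorProduct.map (AlgHom.id A A') θ
    let mι := Algebra.TensorProduct.map (AlgHom.id A A') ι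
    let ir : A' ⊗[A] B' →ₐ[A] A' ⊗[A] (A' ⊗[A] B') := Algebra.TensorProduct.includeRight
    have e1 : mθ.comp ι = ir.comp θ := AlgHom.ext fun b => by simp [mθ, ι, ir]
    have e2 : mι.comp ι = ir.comp ι := AlgHom.ext fun b => by simp [mι, ι, ir]
    have r1 : Rel D (sp (ir.comp θ) ≫ jW) (sp (mθ.comp θ) ≫ jW) := by
      rw [← e1, ← sp_comp ι mθ, ← sp_comp θ mθ, Category.assoc, Category.assoc]
      exact rel_comp _ hrel
    have r2 : Rel D (sp (ir.comp ι) ≫ jW) (sp (mι.comp θ) ≫ jW) := by
      rw [← e2, ← sp_comp ι mι, ← sp_comp θ mι, Category.assoc, Category.assoc]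
      exact rel_comp _ hrel
    have r3 : Rel D (sp (ir.comp ι) ≫ jW) (sp (ir.comp θ) ≫ jW) := by
      rw [← sp_comp ι ir, ← sp_comp θ ir, Category.assoc, Category.assoc]
      exact rel_comp _ hrel
    have h1 : sp (mθ.comp θ) ≫ jW = sp (mι.comp θ) ≫ jW := by
      refine rel_unique (rel_trans r3 r1) r2 ?_
      rw [← sp_comp θ mθ, ← sp_comp θ mι]
      simp only [Category.assoc] at hθX ⊢
      rw [hθX, ← Category.assoc, ← Category.assoc, sp_comp, sp_comp,
        show mθ.comp inl = mι.comp inl from AlgHom.ext fun a => by simp [mθ, mι, inl]]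
    have h2 : sp (mθ.comp θ) = sp (mι.comp θ) := (cancel_mono jW).1 h1
    exact AlgHom.ext fun b =>
      RingHom.congr_fun (congrArg CommRingCat.Hom.hom (Spec.map_injective h2)) b
  let B := AlgHom.equalizer θ ι
  have hbij := bijective_lift_equalizer θ hθalg (AlgHom.congr_fun hunit)
    (AlgHom.congr_fun hcocycle)
  let e := AlgEquiv.ofBijective _ hbij
  let u₀ : Spec (CommRingCat.of B) ⟶ Spec (CommRingCat.of A) :=
    Spec.map (CommRingCat.ofHom (algebraMap A B))
  have hsq₀ : IsPullback (sp B.val) (sp α') u₀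
      (Spec.map (CommRingCat.ofHom (algebraMap A A'))) := by
    refine IsPullback.of_iso (isPullback_tensor A A' B).flip
      (Scheme.Spec.mapIso e.toRingEquiv.toCommRingCatIso.symm.op) (Iso.refl _) (Iso.refl _)
      (Iso.refl _) ?_ ?_ (by simp [u₀]) (by simp)
    · simp only [Iso.refl_hom, Category.comp_id, Functor.mapIso_hom, Iso.op_hom]
      change Spec.map _ = Spec.map _ ≫ Spec.map _
      rw [← Spec.map_comp]
      congr 1
      ext b
      change 1 ⊗ₜ b = e.symm (b : B')
      rw [AlgEquiv.eq_symm_apply]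
      change Algebra.TensorProduct.lift (IsScalarTower.toAlgHom A A' B')
        (AlgHom.equalizer θ Algebra.TensorProduct.includeRight).val (fun _ _ => Commute.all _ _)
        (1 ⊗ₜ[A] b) = _
      erw [Algebra.TensorProduct.lift_tmul]
      simp
    · simp only [Iso.refl_hom, Category.comp_id, Functor.mapIso_hom, Iso.op_hom]
      change Spec.map _ = Spec.map _ ≫ Spec.map _
      rw [← Spec.map_comp]
      congr 1
      ext a
      change a ⊗ₜ 1 = e.symm (algebraMap A' B' a)
      rw [AlgEquiv.eq_symm_apply]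
      simp [e]
  have hsq₁ : IsPullback (sp B.val) (jW ≫ D.obj.hom) (u₀ ≫ jS) p := by
    rw [hjW']
    exact hsq₀.paste_vert hsqp
  refine ⟨{ stable := hs, base := Spec (CommRingCat.of B), str := u₀ ≫ jS,
            q := hW.isoSpec.hom ≫ sp B.val, isPullback := ?_, compat := ?_ }⟩
  · exact IsPullback.of_iso hsq₁ hW.isoSpec.symm (Iso.refl _) (Iso.refl _) (Iso.refl _)
      (by simp) (by
        rw [Iso.refl_hom, Category.comp_id, Iso.symm_hom]
        rw [← hW.isoSpec_hom_fromSpec, Category.assoc]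
        rw [Iso.inv_hom_id_assoc]) (by simp) (by simp)
  · intro T a b hab
    let a₁ := a ≫ hW.isoSpec.hom
    let b₁ := b ≫ hW.isoSpec.hom
    have ha : a₁ ≫ jW = a ≫ W.ι := by
      simp [a₁, jW, IsAffineOpen.isoSpec_hom_fromSpec]
    have hb : b₁ ≫ jW = b ≫ W.ι := by
      simp [b₁, jW, IsAffineOpen.isoSpec_hom_fromSpec]
    rw [← ha, ← hb] at hab
    have hA : (b₁ ≫ sp α') ≫ Spec.map (CommRingCat.ofHom (algebraMap A A')) =
        a₁ ≫ Spec.map (CommRingCat.ofHom (algebraMap A B')) := by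
      rw [← cancel_mono jS]
      have h1 := hab.1
      simp only [Category.assoc, reassoc_of% hjW', hjX] at h1
      rw [Category.assoc, Category.assoc, ← specMap_algHom_comp α', Category.assoc]
      exact h1.symm
    let l := htens.lift (b₁ ≫ sp α') a₁ hA
    have hla : l ≫ sp ι = a₁ := htens.lift_snd ..
    have hlx : l ≫ sp inl = b₁ ≫ sp α' := htens.lift_fst ..
    have hlb : l ≫ sp θ = b₁ := by
      rw [← cancel_mono jW, Category.assoc]
      refine rel_unique (a := a₁ ≫ jW) ?_ hab ?_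
      · have := rel_comp l hrel
        rwa [reassoc_of% hla] at this
      · simp only [Category.assoc] at hθX ⊢
        rw [hθX, reassoc_of% hlx, hjW']
    change a ≫ hW.isoSpec.hom ≫ sp B.val = b ≫ hW.isoSpec.hom ≫ sp B.val
    rw [← Category.assoc, ← Category.assoc]
    change a₁ ≫ _ = b₁ ≫ _
    rw [← hla, ← hlb, Category.assoc, Category.assoc, sp_comp, sp_comp,
      show ι.comp B.val = θ.comp B.val from AlgHom.ext fun b => b.2.symm]

end Groth.Agent.SGA1Desc
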