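import Mathlib
import Groth.Agent.Hensel.QFinite
import Groth.Agent.AlgSpCov.Instances

/-!
# Finite slices of morphisms satisfying going down over henselian local domains
-/

set_option autoImplicit false
set_option linter.style.haveILetI false
set_option maxHeartbeats 400000

universe u

open IsLocalRing

namespace Groth.Agent.SGA1Desc

variable {A C : Type u} [CommRing A] [CommRing C] [Algebra A C]

/-- A prime which is maximal, and minimal among those containing `m C`, is isolated in its
fibre. -/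
theorem quasiFiniteAt_of_minimal [IsLocalRing A] [IsNoetherianRing C] [Algebra.FiniteType A C]
    (n : Ideal C) [hn : n.IsMaximal] (hnm : n.comap (algebraMap A C) = maximalIdeal A)
    (hmin : n ∈ ((maximalIdeal A).map (algebraMap A C)).minimalPrimes) :
    Algebra.QuasiFiniteAt A n := by
  let q : PrimeSpectrum C := ⟨n, hn.isPrime⟩
  refine Algebra.QuasiFiniteAt.of_isOpen_singleton_fiber q ?_
  let Z : Set (PrimeSpectrum C) := ⋃ P ∈ {P ∈ ((maximalIdeal A).map (algebraMap A C)).minimalPrimes |
    P ≠ n}, PrimeSpectrum.zeroLocus (P : Set C)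
  have hZ : IsClosed Z :=
    ((((maximalIdeal A).map (algebraMap A C)).finite_minimalPrimes_of_isNoetherianRing _).subset
      (Set.sep_subset _ _)).isClosed_biUnion fun P _ => PrimeSpectrum.isClosed_zeroLocus _
  refine ⟨Zᶜ, hZ.isOpen_compl, Set.ext fun Q => ?_⟩
  simp only [Set.mem_preimage, Set.mem_singleton_iff, Set.mem_compl_iff]
  have hQm : (maximalIdeal A).map (algebraMap A C) ≤ Q.1.asIdeal := by
    rw [Ideal.map_le_iff_le_comap]
    exact (hnm.symm.trans (congrArg PrimeSpectrum.asIdeal Q.2).symm).le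
  constructor
  · intro hQ
    obtain ⟨P, hP, hPQ⟩ := Ideal.exists_minimalPrimes_le hQm
    by_cases hPn : P = n
    · subst hPn
      exact Subtype.ext (PrimeSpectrum.ext (hn.eq_of_le Q.1.isPrime.ne_top hPQ).symm)
    · exact absurd (Set.mem_biUnion (show P ∈ {P ∈ _ | P ≠ n} from ⟨hP, hPn⟩) hPQ) hQ
  · rintro rfl hQ
    obtain ⟨P, ⟨hP, hPn⟩, hPQ⟩ := Set.mem_iUnion₂.1 hQ
    exact hPn (le_antisymm hPQ (hmin.2 hP.1 hPQ))

/-- Over a henselian Noetherian local domain, an algebra of finite type satisfying going down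
with a point over the closed point has a finite quotient into which the domain injects. -/
theorem exists_finite_quotient [HenselianLocalRing A] [IsDomain A] [IsNoetherianRing A]
    [Algebra.FiniteType A C] [Algebra.HasGoingDown A C] (n : Ideal C) [hn : n.IsMaximal]
    (hnm : n.comap (algebraMap A C) = maximalIdeal A) :
    ∃ I : Ideal C, Module.Finite A (C ⧸ I) ∧ Function.Injective (algebraMap A (C ⧸ I)) := by
  classical
  haveI : IsNoetherianRing C := Algebra.FiniteType.isNoetherianRing A C
  haveI : n.LiesOver (maximalIdeal A) := ⟨hnm.symm⟩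
  let mC := (maximalIdeal A).map (algebraMap A C)
  have hmn : mC ≤ n := by rw [Ideal.map_le_iff_le_comap, hnm]
  let nb := n.map (Ideal.Quotient.mk mC)
  haveI : nb.IsPrime := Ideal.isPrime_map_quotientMk_of_isPrime hmn
  obtain ⟨s, hs, hcard⟩ := Ideal.exists_finset_card_eq_height_of_isNoetherianRing nb
  let t : Finset C := s.image (Function.surjInv Ideal.Quotient.mk_surjective)
  have hts : Ideal.Quotient.mk mC '' (t : Set C) = s := by
    simp only [t, Finset.coe_image, Set.image_image]
    simp [Function.surjInv_eq Ideal.Quotient.mk_surjective]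
  let J : Ideal C := Ideal.span (t : Set C)
  have hJn : J ≤ n := by
    refine Ideal.span_le.2 fun x hx => ?_
    have : Ideal.Quotient.mk mC x ∈ nb := hs.1.2 (Ideal.subset_span (hts.le ⟨x, hx, rfl⟩))
    obtain ⟨y, hy, hxy⟩ := (Ideal.mem_map_iff_of_surjective _ Ideal.Quotient.mk_surjective).1 this
    have h0 : x - y ∈ mC := (Ideal.Quotient.eq).1 hxy.symm
    simpa using n.add_mem (hmn h0) hy
  let q := n.map (Ideal.Quotient.mk J)
  haveI hq : q.IsMaximal := Ideal.IsMaximal.map_of_surjective_of_ker_le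
    Ideal.Quotient.mk_surjective (by rwa [Ideal.mk_ker])
  have hqn : q.comap (Ideal.Quotient.mk J) = n := by
    rw [Ideal.comap_map_of_surjective _ Ideal.Quotient.mk_surjective, ← RingHom.ker_eq_comap_bot,
      Ideal.mk_ker, sup_of_le_left hJn]
  have halg : (algebraMap A (C ⧸ J)) = (Ideal.Quotient.mk J).comp (algebraMap A C) := rfl
  have hqm : q.comap (algebraMap A (C ⧸ J)) = maximalIdeal A := by
    rw [halg, ← Ideal.comap_comap, hqn, hnm]
  have hqmin : q ∈ ((maximalIdeal A).map (algebraMap A (C ⧸ J))).minimalPrimes := by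
    refine ⟨⟨hq.isPrime, by rw [Ideal.map_le_iff_le_comap, hqm]⟩, fun Q hQ hQq => ?_⟩
    let Q' := Q.comap (Ideal.Quotient.mk J)
    haveI := hQ.1
    have hQ' : mC ≤ Q' := by
      rw [Ideal.map_le_iff_le_comap, Ideal.comap_comap, ← halg, ← Ideal.map_le_iff_le_comap]
      exact hQ.2
    haveI : (Q'.map (Ideal.Quotient.mk mC)).IsPrime := Ideal.isPrime_map_quotientMk_of_isPrime hQ'
    have hle : Q' ≤ n := hqn ▸ Ideal.comap_mono hQq
    have h2 : nb ≤ Q'.map (Ideal.Quotient.mk mC) := by
      refine hs.2 ⟨inferInstance, ?_⟩ (Ideal.map_mono hle)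
      rw [Ideal.span_le, ← hts]
      rintro _ ⟨x, hx, rfl⟩
      refine Ideal.mem_map_of_mem _ ?_
      change Ideal.Quotient.mk J x ∈ Q
      rw [Ideal.Quotient.eq_zero_iff_mem.2 (Ideal.subset_span hx)]
      exact Q.zero_mem
    have h3 : n ≤ Q' := fun x hx => by
      obtain ⟨y, hy, hxy⟩ := (Ideal.mem_map_iff_of_surjective _ Ideal.Quotient.mk_surjective).1
        (h2 (Ideal.mem_map_of_mem _ hx))
      have h0 : x - y ∈ Q' := hQ' ((Ideal.Quotient.eq).1 hxy.symm)
      simpa using Q'.add_mem h0 hy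
    exact Ideal.map_le_iff_le_comap.2 h3
  haveI : q.IsPrime := hq.isPrime
  haveI : Algebra.QuasiFiniteAt A q := quasiFiniteAt_of_minimal q hqm hqmin
  haveI : q.LiesOver (maximalIdeal A) := ⟨hqm.symm⟩
  obtain ⟨e, he, heq, hfin, -⟩ := Hensel.exists_idempotent_of_quasiFiniteAt (R := A) q
  let K : Ideal (C ⧸ J) := Ideal.span {1 - e}
  have hKq : K ≤ q := by
    rw [Ideal.span_le, Set.singleton_subset_iff]
    exact (hq.isPrime.mem_or_mem (x := e) (y := 1 - e) (by
      rw [mul_sub, mul_one, he.eq, sub_self]; exact zero_mem _)).resolve_left heq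
  let I : Ideal C := K.comap (Ideal.Quotient.mk J)
  let φ : C ⧸ I →+* (C ⧸ J) ⧸ K := Ideal.quotientMap K (Ideal.Quotient.mk J) le_rfl
  have hφ : Function.Bijective φ := ⟨Ideal.quotientMap_injective,
    Ideal.quotientMap_surjective Ideal.Quotient.mk_surjective⟩
  let φA : (C ⧸ I) ≃ₐ[A] ((C ⧸ J) ⧸ K) :=
    AlgEquiv.ofBijective ⟨φ, fun a => rfl⟩ hφ
  haveI : Module.Finite A (C ⧸ I) := Module.Finite.equiv φA.symm.toLinearEquiv
  refine ⟨I, inferInstance, ?_⟩
  -- dimension count
  haveI : (n.map (Ideal.Quotient.mk J)).IsPrime := hq.isPrime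
  have hqK : (q.height : WithBot ℕ∞) ≤ ringKrullDim ((C ⧸ J) ⧸ K) := by
    obtain ⟨l, hl, hlen⟩ := Ideal.exists_ltSeries_length_eq_height q
    have hle : ∀ i, K ≤ (l i).asIdeal := fun i => by
      rw [Ideal.span_le, Set.singleton_subset_iff]
      refine ((l i).isPrime.mem_or_mem (x := e) (y := 1 - e) (by
        rw [mul_sub, mul_one, he.eq, sub_self]; exact zero_mem _)).resolve_left fun hmem => heq ?_
      have : (l i).asIdeal ≤ q := by
        rw [← show l.last.asIdeal = q from by rw [hl]]
        exact l.monotone (Fin.le_last i)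
      exact this hmem
    let f : Fin (l.length + 1) → PrimeSpectrum ((C ⧸ J) ⧸ K) := fun i =>
      ⟨(l i).asIdeal.map (Ideal.Quotient.mk K), Ideal.isPrime_map_quotientMk_of_isPrime (hle i)⟩
    have hf : StrictMono f := fun i i' hii => by
      have h0 : (l i).asIdeal < (l i').asIdeal := l.strictMono hii
      have hc : ∀ i, (f i).asIdeal.comap (Ideal.Quotient.mk K) = (l i).asIdeal := fun i => by
        rw [Ideal.comap_map_of_surjective _ Ideal.Quotient.mk_surjective, ← RingHom.ker_eq_comap_bot,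
          Ideal.mk_ker, sup_of_le_left (hle i)]
      refine lt_of_le_of_ne (Ideal.map_mono h0.le) fun he' => h0.ne ?_
      rw [← hc i, ← hc i']
      exact congrArg (fun P : PrimeSpectrum _ => P.asIdeal.comap (Ideal.Quotient.mk K)) he'
    refine le_trans ?_ (Order.LTSeries.length_le_krullDim (LTSeries.mk l.length f hf))
    rw [← hlen]
    simp
  have h1 := Ideal.height_eq_height_add_of_liesOver_of_hasGoingDown (maximalIdeal A) n
  have h2 := Ideal.height_le_height_add_spanFinrank_of_le hJn
  have h3 : (maximalIdeal A).height ≤ q.height := by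
    have hf : nb.height ≠ ⊤ := by rw [← hcard]; exact ENat.coe_ne_top _
    have h4 : J.spanFinrank ≤ s.card :=
      (Submodule.spanFinrank_span_le_ncard_of_finite t.finite_toSet).trans (by
        rw [Set.ncard_coe_finset]; exact Finset.card_image_le)
    have h5 : n.height ≤ q.height + nb.height := h2.trans (by
      rw [← hcard]; gcongr)
    rw [h1] at h5
    exact (ENat.add_le_add_iff_right hf).1 h5
  rw [RingHom.injective_iff_ker_eq_bot]
  by_contra hker
  let k := RingHom.ker (algebraMap A (C ⧸ I))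
  have hdim : ringKrullDim ((C ⧸ J) ⧸ K) ≤ ringKrullDim (A ⧸ k) := by
    rw [← ringKrullDim_eq_of_ringEquiv φA.toRingEquiv]
    let ι := RingHom.kerLift (algebraMap A (C ⧸ I))
    letI := ι.toAlgebra
    haveI : IsScalarTower A (A ⧸ k) (C ⧸ I) := IsScalarTower.of_algebraMap_eq fun _ => rfl
    haveI : Algebra.IsIntegral (A ⧸ k) (C ⧸ I) := Algebra.IsIntegral.tower_top A
    refine Order.krullDim_le_of_strictMono (PrimeSpectrum.comap (algebraMap (A ⧸ k) (C ⧸ I)))
      fun P Q hPQ => ?_
    exact Ideal.IsIntegral.comap_lt_comap hPQ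
  obtain ⟨a, hak, ha⟩ := Submodule.exists_mem_ne_zero_of_ne_bot hker
  have hlt : ringKrullDim (A ⧸ k) + 1 ≤ ringKrullDim A :=
    ringKrullDim_succ_le_of_surjective (Ideal.Quotient.mk k) Ideal.Quotient.mk_surjective
      (mem_nonZeroDivisors_of_ne_zero ha) (Ideal.Quotient.eq_zero_iff_mem.2 hak)
  have hA : ringKrullDim A ≤ ringKrullDim (A ⧸ k) := by
    refine le_trans ?_ hdim
    rw [← IsLocalRing.maximalIdeal_height_eq_ringKrullDim]
    exact (WithBot.coe_le_coe.2 h3).trans hqK
  have hfin : ringKrullDim A < ⊤ := ringKrullDim_lt_top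
  have hne : ringKrullDim (A ⧸ k) ≠ ⊥ := fun hbot => by
    rw [hbot, le_bot_iff] at hA
    exact ringKrullDim_ne_bot hA
  obtain ⟨d, hd⟩ := WithBot.ne_bot_iff_exists.1 hne
  have hd1 : d + 1 ≤ d := by
    have := hlt.trans hA
    rw [← hd, ← WithBot.coe_one, ← WithBot.coe_add, WithBot.coe_le_coe] at this
    exact this
  have hdt : d ≠ ⊤ := fun hd' => by
    rw [← hd, hd'] at hA hlt
    have h9 : ((⊤ : ℕ∞) : WithBot ℕ∞) ≤ ringKrullDim A := le_trans (le_add_of_nonneg_right zero_le_one) hlt
    exact absurd hfin (not_lt.2 h9)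
  exact absurd hd1 (not_le.2 (ENat.lt_add_one_iff hdt |>.2 le_rfl))

end Groth.Agent.SGA1Desc
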