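import Mathlib
import Groth.Agent.SGA1Desc.QuasiFiniteEff
import Groth.Agent.SGA1Desc.OpenSlice
import Groth.Agent.S10837
import Groth.Agent.AzInvLib.SH

/-!
# Effective descent along surjective universally open morphisms of finite type
-/

set_option autoImplicit false
set_option linter.style.haveILetI false
set_option maxHeartbeats 800000
set_option backward.isDefEq.respectTransparency false

universe u

open CategoryTheory CategoryTheory.Limits AlgebraicGeometry Topology TopologicalSpace IsLocalRing

namespace Groth.Agent.SGA1Desc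

/-- A surjective open algebra of finite type over a henselian Noetherian local ring has a finite
quotient hitting every prime of the base. -/
theorem exists_finite_surjective_of_goingDown (B C : Type u) [CommRing B] [CommRing C] [Algebra B C]
    [HenselianLocalRing B] [IsNoetherianRing B] [Algebra.FiniteType B C]
    [Algebra.HasGoingDown B C]
    (hsurj : Function.Surjective (PrimeSpectrum.comap (algebraMap B C))) :
    ∃ (E : Type u) (_ : CommRing E) (ψ : C →+* E), (ψ.comp (algebraMap B C)).Finite ∧
      Function.Surjective (PrimeSpectrum.comap (ψ.comp (algebraMap B C))) := by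
  have key : ∀ P : {P : Ideal B // P ∈ minimalPrimes B}, ∃ (R : Type u) (_ : CommRing R)
      (ψ : C →+* R), (ψ.comp (algebraMap B C)).Finite ∧
      ∃ Q : PrimeSpectrum R, Q.asIdeal.comap (ψ.comp (algebraMap B C)) = P.1 := by
    rintro ⟨P, hP⟩
    haveI : P.IsPrime := hP.1.1
    let A := B ⧸ P
    let CP := C ⧸ P.map (algebraMap B C)
    letI : Algebra A CP :=
      (Ideal.quotientMap (P.map (algebraMap B C)) (algebraMap B C) Ideal.le_comap_map).toAlgebra
    haveI : IsScalarTower B A CP := IsScalarTower.of_algebraMap_eq' rfl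
    haveI : IsLocalRing A :=
      IsLocalRing.of_surjective' (Ideal.Quotient.mk P) Ideal.Quotient.mk_surjective
    haveI : HenselianLocalRing A := Groth.Agent.AzInvLib.henselianLocalRing_of_surjective
      (Ideal.Quotient.mk P) Ideal.Quotient.mk_surjective
    haveI : Algebra.FiniteType A CP := Algebra.FiniteType.of_restrictScalars_finiteType B _ _
    haveI : Algebra.HasGoingDown A CP := ⟨fun {p} hp Q hQ hlt => by
      let p' := p.comap (Ideal.Quotient.mk P)
      let Q' := Q.comap (Ideal.Quotient.mk (P.map (algebraMap B C)))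
      have hlt' : p' < Q'.under B := by
        have e : Q'.under B = (Q.under A).comap (Ideal.Quotient.mk P) := by
          ext x; rfl
        rw [e]
        refine lt_of_le_of_ne (Ideal.comap_mono hlt.le) fun he => hlt.ne ?_
        exact Ideal.comap_injective_of_surjective _ Ideal.Quotient.mk_surjective he
      obtain ⟨R, hRQ, hR, hRp⟩ :=
        Algebra.HasGoingDown.exists_ideal_le_liesOver_of_lt (R := B) Q' hlt'
      have hPR : P.map (algebraMap B C) ≤ R := by
        rw [Ideal.map_le_iff_le_comap]
        refine le_trans ?_ hRp.over.le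
        intro x hx
        change Ideal.Quotient.mk P x ∈ p
        rw [Ideal.Quotient.eq_zero_iff_mem.2 hx]
        exact p.zero_mem
      refine ⟨R.map (Ideal.Quotient.mk _), ?_, Ideal.isPrime_map_quotientMk_of_isPrime hPR, ⟨?_⟩⟩
      · exact Ideal.map_le_iff_le_comap.2 hRQ
      · apply Ideal.comap_injective_of_surjective _ (Ideal.Quotient.mk_surjective (I := P))
        have e2 : (R.map (Ideal.Quotient.mk (P.map (algebraMap B C)))).comap
            (Ideal.Quotient.mk (P.map (algebraMap B C))) = R := by
          rw [Ideal.comap_map_of_surjective _ Ideal.Quotient.mk_surjective,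
            ← RingHom.ker_eq_comap_bot, Ideal.mk_ker, sup_of_le_left hPR]
        refine hRp.over.trans ?_
        conv_lhs => rw [← e2]
        rfl⟩
    obtain ⟨⟨n₀, hn₀⟩, hn₀e⟩ := hsurj (closedPoint B)
    obtain ⟨n, hn, hle⟩ := Ideal.exists_le_maximal n₀ hn₀.ne_top
    have hn₀m : n₀.comap (algebraMap B C) = maximalIdeal B := congrArg PrimeSpectrum.asIdeal hn₀e
    have hnm : n.comap (algebraMap B C) = maximalIdeal B :=
      ((maximalIdeal.isMaximal B).eq_of_le (Ideal.comap_ne_top _ hn.ne_top)
        (hn₀m.symm.le.trans (Ideal.comap_mono hle))).symm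
    have hPn : P.map (algebraMap B C) ≤ n := by
      rw [Ideal.map_le_iff_le_comap, hnm]
      exact IsLocalRing.le_maximalIdeal hP.1.1.ne_top
    let nb := n.map (Ideal.Quotient.mk (P.map (algebraMap B C)))
    haveI : nb.IsMaximal := Ideal.IsMaximal.map_of_surjective_of_ker_le
      Ideal.Quotient.mk_surjective (by rwa [Ideal.mk_ker])
    have hnbm : nb.comap (algebraMap A CP) = maximalIdeal A := by
      apply Ideal.comap_injective_of_surjective _ (Ideal.Quotient.mk_surjective (I := P))
      have e1 : nb.comap (Ideal.Quotient.mk (P.map (algebraMap B C))) = n := by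
        rw [Ideal.comap_map_of_surjective _ Ideal.Quotient.mk_surjective,
          ← RingHom.ker_eq_comap_bot, Ideal.mk_ker, sup_of_le_left hPn]
      have e3 : (maximalIdeal A).comap (Ideal.Quotient.mk P) = maximalIdeal B :=
        IsLocalRing.eq_maximalIdeal (Ideal.comap_isMaximal_of_surjective _
          Ideal.Quotient.mk_surjective)
      rw [e3, ← hnm]
      conv_rhs => rw [← e1]
      rfl
    obtain ⟨I, hfin, hinj⟩ := exists_finite_quotient (A := A) nb hnbm
    let ψ : C →+* CP ⧸ I := (Ideal.Quotient.mk I).comp (Ideal.Quotient.mk _)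
    have hcomp : ψ.comp (algebraMap B C) =
        (algebraMap A (CP ⧸ I)).comp (Ideal.Quotient.mk P) := RingHom.ext fun x => rfl
    have hfinA : (algebraMap A (CP ⧸ I)).Finite := RingHom.finite_algebraMap.2 hfin
    refine ⟨CP ⧸ I, inferInstance, ψ, ?_, ?_⟩
    · rw [hcomp]
      exact hfinA.comp (RingHom.Finite.of_surjective _ Ideal.Quotient.mk_surjective)
    · haveI : Algebra.IsIntegral A (CP ⧸ I) := inferInstance
      obtain ⟨Q, -, hQ, hQ0⟩ := Ideal.exists_ideal_over_prime_of_isIntegral (⊥ : Ideal A)
        (⊥ : Ideal (CP ⧸ I)) (by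
          rw [← RingHom.ker_eq_comap_bot, (RingHom.injective_iff_ker_eq_bot _).1 hinj])
      refine ⟨⟨Q, hQ⟩, ?_⟩
      rw [hcomp, ← Ideal.comap_comap, hQ0, ← RingHom.ker_eq_comap_bot, Ideal.mk_ker]
  choose R hRc ψ hψ Q hQ using key
  haveI : Finite {P : Ideal B // P ∈ minimalPrimes B} :=
    (minimalPrimes.finite_of_isNoetherianRing B).to_subtype
  let Ψ : C →+* (∀ P, R P) := Pi.ringHom ψ
  have hΨ : (Ψ.comp (algebraMap B C)).Finite := by
    letI : ∀ P, Algebra B (R P) := fun P => ((ψ P).comp (algebraMap B C)).toAlgebra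
    haveI : ∀ P, Module.Finite B (R P) := fun P => hψ P
    exact RingHom.finite_algebraMap.2 (inferInstance : Module.Finite B (∀ P, R P))
  refine ⟨∀ P, R P, inferInstance, Ψ, hΨ, fun x => ?_⟩
  obtain ⟨P, hP, hPx⟩ := Ideal.exists_minimalPrimes_le (I := (⊥ : Ideal B)) (J := x.asIdeal) bot_le
  letI : Algebra B (∀ P, R P) := (Ψ.comp (algebraMap B C)).toAlgebra
  haveI : Module.Finite B (∀ P, R P) := hΨ
  haveI := (Q ⟨P, hP⟩).isPrime
  obtain ⟨Q', -, hQ', hQ'x⟩ := Ideal.exists_ideal_over_prime_of_isIntegral x.asIdeal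
    ((Q ⟨P, hP⟩).asIdeal.comap (Pi.evalRingHom R ⟨P, hP⟩)) (le_trans (by
      rw [Ideal.comap_comap]
      exact (hQ ⟨P, hP⟩).le) hPx)
  exact ⟨⟨Q', hQ'⟩, PrimeSpectrum.ext hQ'x⟩

/-- Over a complete local base a surjective universally open morphism of finite type is refined by
a finite surjective one. -/
theorem exists_finite_refinement_of_open (B : Type u) [CommRing B] [IsNoetherianRing B]
    [IsLocalRing B] [IsAdicComplete (maximalIdeal B) B] {Y : Scheme.{u}}
    (p : Y ⟶ Spec (CommRingCat.of B))
    [UniversallyOpen p] [Surjective p] [LocallyOfFiniteType p] [QuasiCompact p] :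
    ∃ (X' : Scheme.{u}) (p' : X' ⟶ Spec (CommRingCat.of B)) (c : X' ⟶ Y),
      IsFinite p' ∧ Surjective p' ∧ c ≫ p = p' := by
  haveI : HenselianLocalRing B := Hensel.henselianLocalRing_of_henselianRing inferInstance
  haveI : CompactSpace Y := QuasiCompact.compactSpace_of_compactSpace p
  let 𝒰 := Y.affineCover.finiteSubcover
  let c₀ : (∐ fun i => 𝒰.X i) ⟶ Y := Sigma.desc fun i => 𝒰.f i
  haveI : Etale c₀ := IsZariskiLocalAtSource.sigmaDesc fun i => inferInstance
  haveI : ∀ i, IsAffine (𝒰.X i) := fun i => by dsimp [𝒰]; infer_instance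
  haveI : IsAffine (∐ fun i => 𝒰.X i) := inferInstance
  haveI : Surjective c₀ := ⟨fun y => by
    obtain ⟨w, hw⟩ := 𝒰.covers y
    refine ⟨(Sigma.ι (fun i => 𝒰.X i) (𝒰.idx y)).base w, ?_⟩
    rw [← Scheme.Hom.comp_apply, Sigma.ι_desc]
    exact hw⟩
  haveI : UniversallyOpen c₀ := inferInstance
  let W := (∐ fun i => 𝒰.X i)
  let p₁ : Spec Γ(W, ⊤) ⟶ Spec (CommRingCat.of B) := W.isoSpec.inv ≫ c₀ ≫ p
  haveI : UniversallyOpen p₁ := inferInstance
  haveI : Surjective p₁ := inferInstance
  haveI : LocallyOfFiniteType p₁ := inferInstance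
  obtain ⟨φ, hφ⟩ := Spec.map_surjective p₁
  letI : Algebra B Γ(W, ⊤) := φ.hom.toAlgebra
  haveI : LocallyOfFiniteType (Spec.map φ) := by rw [hφ]; infer_instance
  haveI : Algebra.FiniteType B Γ(W, ⊤) :=
    RingHom.finiteType_algebraMap.1
      ((HasRingHomProperty.Spec_iff (P := @LocallyOfFiniteType) (φ := φ)).1 ‹_›)
  haveI : Algebra.HasGoingDown B Γ(W, ⊤) := by
    rw [Algebra.HasGoingDown.iff_generalizingMap_primeSpectrumComap]
    have h := Groth.Agent.S10837.result p₁ p₁.isOpenMap
    rw [← hφ] at h
    exact h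
  have hsurj : Function.Surjective (PrimeSpectrum.comap (algebraMap B Γ(W, ⊤))) := by
    have h := p₁.surjective
    rw [← hφ] at h
    exact h
  obtain ⟨E, _, ψ, hfin, hs⟩ := exists_finite_surjective_of_goingDown B Γ(W, ⊤) hsurj
  refine ⟨Spec (CommRingCat.of E), Spec.map (φ ≫ CommRingCat.ofHom ψ),
    Spec.map (CommRingCat.ofHom ψ) ≫ W.isoSpec.inv ≫ c₀, ?_, ⟨hs⟩, ?_⟩
  · exact (IsFinite.SpecMap_iff _).2 hfin
  · rw [Spec.map_comp, hφ]
    simp [p₁]

/-- Surjective universally open morphisms are universally submersive. -/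
theorem univSubmersive_of_open {S X : Scheme.{u}} (g : X ⟶ S) [UniversallyOpen g] [Surjective g] :
    SGA1.UnivSubmersive g := by
  intro X' Y' i₁ i₂ f' sq
  haveI : UniversallyOpen f' := MorphismProperty.of_isPullback sq.flip ‹UniversallyOpen g›
  haveI : Surjective f' := MorphismProperty.of_isPullback sq.flip ‹Surjective g›
  exact f'.isOpenMap.isQuotientMap f'.continuous f'.surjective

variable {S X : Scheme.{u}} {g : X ⟶ S} (D : Desc.SchDD g)

/-- Effective descent along surjective universally open morphisms of finite type. -/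
theorem exists_eff_of_universallyOpen [IsLocallyNoetherian S]
    [UniversallyOpen g] [Surjective g] [LocallyOfFiniteType g] [QuasiCompact g]
    [QuasiCompact D.obj.hom] [IsSeparated D.obj.hom] [Etale D.obj.hom] :
    Nonempty (Eff D (𝟙 S)) := by
  haveI : LocallyOfFinitePresentation g :=
    LocallyOfFinitePresentation.iff_locallyOfFiniteType.2 inferInstance
  haveI : IsLocallyNoetherian X := LocallyOfFiniteType.isLocallyNoetherian g
  haveI : QuasiSeparated g := inferInstance
  have hg : SGA1.UnivSubmersive g := univSubmersive_of_open g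
  refine exists_eff_of_finite_refinement D hg fun B _ _ _ _ _ q => ?_
  obtain ⟨X', p', c, hf, hs, hc⟩ := exists_finite_refinement_of_open B (pullback.snd g q)
  exact ⟨X', p', c ≫ pullback.fst g q, hf, hs, by
    rw [Category.assoc, pullback.condition, reassoc_of% hc]⟩

end Groth.Agent.SGA1Desc
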