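import Groth.Agent.SGA1Desc.Glue

/-!
# Descent along maps with sections Zariski locally on the base

Every descent datum for schemes along such a map is effective.
-/

set_option autoImplicit false
set_option linter.style.haveILetI false
set_option backward.isDefEq.respectTransparency false

universe u

open CategoryTheory CategoryTheory.Limits AlgebraicGeometry Topology TopologicalSpace

namespace Groth.Agent.SGA1Desc

variable {X S : Scheme.{u}} {p : X ⟶ S} (D : Desc.SchDD p)

/-- A section over an open of the base gives a piece over its preimage. -/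
theorem nonempty_piece_of_section (V : S.Opens) (s : V.toScheme ⟶ X) (hs : s ≫ p = V.ι) :
    Nonempty (Piece D ((D.obj.hom ≫ p) ⁻¹ᵁ V)) := by
  let W := (D.obj.hom ≫ p) ⁻¹ᵁ V
  let w : W.toScheme ⟶ V.toScheme := (D.obj.hom ≫ p).resLE V W le_rfl
  have hw : w ≫ V.ι = W.ι ≫ D.obj.hom ≫ p := Scheme.Hom.resLE_comp_ι _ _
  obtain ⟨b, hb, hbX⟩ := exists_rel (D := D) W.ι (w ≫ s)
    (by rw [Category.assoc, Category.assoc, hs, hw])
  let q : W.toScheme ⟶ pullback D.obj.hom s := pullback.lift b w hbX
  refine ⟨{ stable := ?_, base := pullback D.obj.hom s, str := pullback.snd _ _ ≫ V.ι, q := q,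
            isPullback := ?_, compat := ?_ }⟩
  · intro T a a' h t ht
    obtain ⟨e, -⟩ := h
    simp only [Category.assoc] at e
    show (a' ≫ D.obj.hom ≫ p).base t ∈ V
    rw [← e]
    exact ht
  · have hq : q ≫ pullback.snd _ _ ≫ V.ι = (W.ι ≫ D.obj.hom) ≫ p := by
      rw [pullback.lift_snd_assoc, hw, Category.assoc]
    have hex : ∀ c : PullbackCone (pullback.snd D.obj.hom s ≫ V.ι) p, ∃ a : c.pt ⟶ W.toScheme,
        (a ≫ q = c.fst ∧ a ≫ W.ι ≫ D.obj.hom = c.snd) ∧
        Rel D (c.fst ≫ pullback.fst _ _) (a ≫ W.ι) := by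
      intro c
      have hc : c.fst ≫ pullback.snd D.obj.hom s ≫ V.ι = c.snd ≫ p := c.condition
      obtain ⟨a, ha, haX⟩ := exists_rel (D := D) (c.fst ≫ pullback.fst _ _) c.snd (by
        rw [← hc, Category.assoc, Category.assoc, pullback.condition_assoc, hs])
      have hr : Set.range a.base ⊆ Set.range W.ι.base := by
        rintro _ ⟨t, rfl⟩
        rw [Scheme.Opens.range_ι]
        show (a ≫ D.obj.hom ≫ p).base t ∈ V
        rw [reassoc_of% haX, ← hc]
        exact ((c.fst ≫ pullback.snd D.obj.hom s).base t).2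
      let a' := IsOpenImmersion.lift W.ι a hr
      have ha' : a' ≫ W.ι = a := IsOpenImmersion.lift_fac _ _ _
      have haw : a' ≫ w = c.fst ≫ pullback.snd _ _ := by
        rw [← cancel_mono V.ι, Category.assoc, Category.assoc, hw, reassoc_of% ha', reassoc_of% haX, hc]
      refine ⟨a', ⟨pullback.hom_ext ?_ ?_, by rw [reassoc_of% ha', haX]⟩, by rw [ha']; exact ha⟩
      · rw [Category.assoc, pullback.lift_fst]
        refine rel_unique (rel_comp a' hb) (rel_symm ?_) ?_
        · rw [ha']; exact ha
        · rw [Category.assoc, hbX, reassoc_of% haw, Category.assoc, pullback.condition]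
      · rw [Category.assoc, pullback.lift_snd, haw]
    refine IsPullback.of_isLimit' ⟨hq⟩ (PullbackCone.IsLimit.mk _ (fun c => (hex c).choose)
      (fun c => (hex c).choose_spec.1.1) (fun c => (hex c).choose_spec.1.2) fun c m h₁ h₂ => ?_)
    rw [← cancel_mono W.ι]
    have h₁' : m ≫ q = c.fst := h₁
    have h₂' : m ≫ W.ι ≫ D.obj.hom = c.snd := h₂
    refine rel_unique (rel_symm (rel_comp m hb)) ?_ ?_
    · have e : m ≫ b = c.fst ≫ pullback.fst _ _ := by
        rw [← h₁', Category.assoc, pullback.lift_fst]
      rw [e]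
      exact (hex c).choose_spec.2
    · rw [Category.assoc, Category.assoc, (hex c).choose_spec.1.2, h₂']
  · intro T a a' h
    have e : a ≫ w = a' ≫ w := by
      obtain ⟨e, -⟩ := h
      simp only [Category.assoc] at e
      rw [← cancel_mono V.ι, Category.assoc, Category.assoc, hw, e]
    refine pullback.hom_ext ?_ (by rw [Category.assoc, pullback.lift_snd, Category.assoc, pullback.lift_snd, e])
    rw [Category.assoc, pullback.lift_fst, Category.assoc, pullback.lift_fst]
    refine rel_unique (rel_comp a hb) (rel_trans h (rel_comp a' hb)) ?_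
    rw [Category.assoc, Category.assoc, hbX, reassoc_of% e]

/-- Descent data along a map with local sections are effective. -/
theorem effective_of_sections [Flat p] [Surjective p] [QuasiCompact p]
    (h : ∀ y : S, ∃ (V : S.Opens) (s : V.toScheme ⟶ X), y ∈ V ∧ s ≫ p = V.ι) :
    ∃ U : Over S, Nonempty ((Desc.toDD p).obj U ≅ D) := by
  refine effective_of_pieces D fun z => ?_
  obtain ⟨V, s, hz, hs⟩ := h ((D.obj.hom ≫ p).base z)
  exact ⟨_, hz, nonempty_piece_of_section D V s hs⟩

end Groth.Agent.SGA1Desc
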